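import Groth.Agent.Lib.RHom.Generate
import Groth.Agent.Lib.DMV.ExtZero
import Groth.Agent.Lib.DPerf.OneDegree
import Groth.Agent.Lib.DPerf.Top
import Groth.Agent.Lib.DPerf.Noeth
import Groth.Agent.Lib.ModFlat16.ExtZero

/-! Stalks of extensions by zero, and detecting isomorphisms in the derived category on stalks. -/

set_option autoImplicit false
set_option linter.unusedSectionVars false
set_option linter.style.haveILetI false
set_option backward.isDefEq.respectTransparency false
set_option backward.isDefEq.respectTransparency.types false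

universe u

open CategoryTheory CategoryTheory.Limits CategoryTheory.Pretriangulated AlgebraicGeometry Opposite

attribute [local instance] HasDerivedCategory.standard

namespace Groth.Agent.RHom

variable {X : Scheme.{u}}

/-- The stalk of a module vanishes. -/
def StalkZero (x : X) (M : X.Modules) : Prop := IsZero ((M1.stalkAb x).obj M)

theorem stalkZero_iso {x : X} {M N : X.Modules} (e : M ≅ N) (h : StalkZero x M) : StalkZero x N :=
  h.of_iso ((M1.stalkAb x).mapIso e.symm)

theorem stalkZero_of_isZero (x : X) {M : X.Modules} (h : IsZero M) : StalkZero x M :=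
  (M1.stalkAb x).map_isZero h

theorem stalkZero_middle (x : X) {S : ShortComplex X.Modules} (hS : S.Exact) (h₁ : StalkZero x S.X₁)
    (h₃ : StalkZero x S.X₃) : StalkZero x S.X₂ :=
  ((M1.exact_iff_stalk S).1 hS x).isZero_of_both_zeros (IsZero.eq_of_src h₁ _ _) (IsZero.eq_of_tgt h₃ _ _)

/-- Stalks at points outside vanish for the sheafification of a presheaf supported inside an open. -/
theorem stalkZero_shPre (P : ModSite.preMod X.sheaf) (W : X.Opens)
    (hP : ∀ (V : X.Opens), ¬ V ≤ W → ∀ t : P.obj (op V), t = 0) {x : X} (hx : x ∉ W) :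
    StalkZero x ((ModSite.shPre X.sheaf).obj P) := by
  let M : X.Modules := (ModSite.shPre X.sheaf).obj P
  suffices h : ∀ b : M.presheaf.stalk x, b = 0 by
    haveI : Subsingleton ((M1.stalkAb x).obj M) := ⟨fun a b => (h a).trans (h b).symm⟩
    exact AddCommGrpCat.isZero_of_subsingleton _
  intro b
  obtain ⟨V, hxV, s, rfl⟩ := M.presheaf.exists_germ_eq b
  let η := (KFlat.Site.adj X.sheaf).unit.app P
  have hW := (GrothendieckTopology.W_iff_isLocallyBijective (A := AddCommGrpCat.{u}) _
    ((PresheafOfModules.toPresheaf _).map η)).1 (KFlat.Site.W_unit X.sheaf P)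
  obtain ⟨V', i, ⟨t, ht⟩, hxV'⟩ := hW.2.imageSieve_mem (U := V) s x hxV
  have h0 : t = 0 := hP V' (fun hle => hx (hle hxV')) t
  have h1 : M.presheaf.map i.op s = 0 := by
    rw [← map_zero (η.app (op V')).hom, ← h0]
    exact ht.symm
  rw [← M.presheaf.germ_res_apply i x hxV' s]
  exact (congrArg (M.presheaf.germ V' x hxV') h1).trans (map_zero _)

/-- Extensions by zero have zero stalks outside. -/
theorem stalkZero_extZero (W : X.Opens) (B : (W : Scheme.{u}).Modules) {x : X} (hx : x ∉ W) :
    StalkZero x ((CxOX.extZero W.ι).obj B) := by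
  let B' := (Scheme.Modules.overEquiv W).inverse.obj B
  refine stalkZero_iso (((CxOX.extZeroIsoSite W).app B) ≪≫ (ModFlat16.extIso X.sheaf W).app B').symm
    (stalkZero_shPre ((ModFlat16.preE X.sheaf W).obj ((ModSite.toPre (X.sheaf.over W)).obj B')) W
      (fun V hV t => ?_) hx)
  haveI : IsEmpty (V ⟶ W) := ⟨fun f => hV (leOfHom f)⟩
  change ModFlat16.Ext0 ((ModSite.toPre (X.sheaf.over W)).obj B') (op V) at t
  induction t using ModFlat16.ext0_induction with
  | h0 => rfl
  | hs φ y => exact isEmptyElim (α := V ⟶ W) φ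
  | ha a b ha hb => rw [ha, hb, add_zero]

/-- An exact functor commutes with cohomology. -/
noncomputable def hdMapIso {Y : Scheme.{u}} (F : X.Modules ⥤ Y.Modules) [F.Additive] [PreservesFiniteLimits F]
    [PreservesFiniteColimits F] (K : DCoh.D X) (i : ℤ) :
    DCoh.HD (F.mapDerivedCategory.obj K) i ≅ F.obj (DCoh.HD K i) :=
  let E := (DerivedCategory.Q (C := X.Modules)).objPreimage K
  let e : DCoh.toD X E ≅ K := (DerivedCategory.Q (C := X.Modules)).objObjPreimageIso K
  (DerivedCategory.homologyFunctor Y.Modules i).mapIso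
      (F.mapDerivedCategory.mapIso e.symm ≪≫ F.mapDerivedCategoryFactors.app E) ≪≫
    (DerivedCategory.homologyFunctorFactors Y.Modules i).app _ ≪≫
    (E.sc i).mapHomologyIso F ≪≫
    F.mapIso (((DerivedCategory.homologyFunctorFactors X.Modules i).app E).symm ≪≫
        (DerivedCategory.homologyFunctor X.Modules i).mapIso e)

/-- Stalks and restriction. -/
theorem stalkZero_restrict_iff {Z : Scheme.{u}} (j : Z ⟶ X) [IsOpenImmersion j] (z : Z) (M : X.Modules) :
    StalkZero z ((Scheme.Modules.restrictFunctor j).obj M) ↔ StalkZero (j z) M :=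
  ⟨fun h => h.of_iso ((Scheme.Modules.restrictStalkNatIso j z).app M).symm,
    fun h => h.of_iso ((Scheme.Modules.restrictStalkNatIso j z).app M)⟩

/-- A map in the derived category is invertible if it is so on an open and both sides vanish outside. -/
theorem isIso_of_restrict_of_stalkZero (W : X.Opens) {A B : DCoh.D X} (f : A ⟶ B)
    (hW : IsIso ((DPerf.resD W.ι).map f))
    (hA : ∀ (x : X) (i : ℤ), x ∉ W → StalkZero x (DCoh.HD A i))
    (hB : ∀ (x : X) (i : ℤ), x ∉ W → StalkZero x (DCoh.HD B i)) : IsIso f := by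
  obtain ⟨Z, g, δ, hT⟩ := distinguished_cocone_triangle f
  refine (Triangle.isZero₃_iff_isIso₁ _ hT).1 ?_
  have hZW : IsZero ((DPerf.resD W.ι).obj Z) :=
    (Triangle.isZero₃_iff_isIso₁ _ ((DPerf.resD W.ι).map_distinguished _ hT)).2 hW
  have hz : ∀ i, IsZero (DCoh.HD Z i) := fun i => DPerf.isZero_of_stalks fun x => by
    suffices h : StalkZero x (DCoh.HD Z i) from AddCommGrpCat.subsingleton_of_isZero h
    by_cases hx : x ∈ W
    · exact (stalkZero_restrict_iff W.ι ⟨x, hx⟩ _).1 (stalkZero_of_isZero _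
        (((DerivedCategory.homologyFunctor _ i).map_isZero hZW).of_iso (DPerf.hdResIso W.ι Z i).symm))
    · exact stalkZero_middle x (DerivedCategory.HomologySequence.exact₃ _ hT i (i + 1) rfl) (hB x i hx)
        (hA x (i + 1) hx)
  haveI : IsIso (0 : Z ⟶ Z) := (DerivedCategory.isIso_iff X.Modules _).2 fun i =>
    ⟨0, (hz i).eq_of_src _ _, (hz i).eq_of_src _ _⟩
  exact (IsZero.iff_id_eq_zero Z).2 (by rw [← IsIso.hom_inv_id (0 : Z ⟶ Z), zero_comp])

/-- Isomorphisms in the derived category are local. -/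
theorem isIso_of_cover {A B : DCoh.D X} (f : A ⟶ B)
    (h : ∀ x : X, ∃ V : X.Opens, x ∈ V ∧ IsIso ((DPerf.resD V.ι).map f)) : IsIso f := by
  obtain ⟨Z, g, δ, hT⟩ := distinguished_cocone_triangle f
  refine (Triangle.isZero₃_iff_isIso₁ _ hT).1 ?_
  choose V hxV hV using h
  have hz : ∀ i, IsZero (DCoh.HD Z i) := fun i => DPerf.isZero_of_cover V (fun x => ⟨x, hxV x⟩) fun x =>
    ((DerivedCategory.homologyFunctor _ i).map_isZero
      ((Triangle.isZero₃_iff_isIso₁ _ ((DPerf.resD (V x).ι).map_distinguished _ hT)).2 (hV x))).of_iso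
      (DPerf.hdResIso (V x).ι Z i).symm
  haveI : IsIso (0 : Z ⟶ Z) := (DerivedCategory.isIso_iff X.Modules _).2 fun i =>
    ⟨0, (hz i).eq_of_src _ _, (hz i).eq_of_src _ _⟩
  exact (IsZero.iff_id_eq_zero Z).2 (by rw [← IsIso.hom_inv_id (0 : Z ⟶ Z), zero_comp])

end Groth.Agent.RHom
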