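import Groth.Agent.Lib.KFlat.LTensorPerfect
import Groth.Agent.Lib.TensorNat17.Basic
import Mathlib.Algebra.Homology.BifunctorAssociator

/-! Associativity of the total tensor product of complexes of O_X-modules. -/

set_option autoImplicit false
set_option linter.unusedSectionVars false
set_option backward.isDefEq.respectTransparency false
set_option backward.isDefEq.respectTransparency.types false

universe u

open CategoryTheory CategoryTheory.Limits AlgebraicGeometry

namespace Groth.Agent.RHom

open KFlat KFlat.Sch MonoidalCategory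

variable {X : Scheme.{u}}

theorem map_eq_tensorMap_left {L L' : X.Modules} (f : L ⟶ L') (N : X.Modules) :
    ((TX X).map f).app N = M2.tensorMap f (𝟙 N) :=
  congrArg (M2.shf X).map ((congrArg (fun t => _ ⊗ₘ t) ((M2.pmF X).map_id N)).trans
    (MonoidalCategory.tensorHom_id _ _)).symm

theorem map_eq_tensorMap_right (L : X.Modules) {N N' : X.Modules} (f : N ⟶ N') :
    ((TX X).obj L).map f = M2.tensorMap (𝟙 L) f :=
  congrArg (M2.shf X).map ((congrArg (fun t => t ⊗ₘ _) ((M2.pmF X).map_id L)).trans
    (MonoidalCategory.id_tensorHom _ _)).symm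

/-- The associativity isomorphism as an isomorphism of trifunctors. -/
noncomputable def assocT (X : Scheme.{u}) :
    bifunctorComp₁₂ (TX X) (TX X) ≅ bifunctorComp₂₃ (TX X) (TX X) :=
  NatIso.ofComponents
    (fun L => NatIso.ofComponents
      (fun M => NatIso.ofComponents (fun N => M2.tensorAssoc L M N) fun {N N'} h => by
        change ((TX X).obj (((TX X).obj L).obj M)).map h ≫ _ = _ ≫ ((TX X).obj L).map (((TX X).obj M).map h)
        simp only [map_eq_tensorMap_right]
        have := M2.tensorAssoc_natural (𝟙 L) (𝟙 M) h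
        rw [M2.tensorMap_id] at this
        exact this)
      fun {M M'} g => by
        ext N : 2
        change ((TX X).map (((TX X).obj L).map g)).app N ≫ _ = _ ≫ ((TX X).obj L).map (((TX X).map g).app N)
        simp only [map_eq_tensorMap_right, map_eq_tensorMap_left]
        exact M2.tensorAssoc_natural (𝟙 L) g (𝟙 N))
    fun {L L'} f => by
      ext M N : 4
      change ((TX X).map (((TX X).map f).app M)).app N ≫ _ = _ ≫ ((TX X).map f).app (((TX X).obj M).obj N)
      simp only [map_eq_tensorMap_left]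
      have := M2.tensorAssoc_natural f (𝟙 M) (𝟙 N)
      rw [M2.tensorMap_id] at this
      exact this

theorem assocT_natural {A A' : X.Modules} (f : A ⟶ A') (M N : X.Modules) :
    ((TX X).map (((TX X).map f).app M)).app N ≫ (((assocT X).hom.app A').app M).app N =
      (((assocT X).hom.app A).app M).app N ≫ ((TX X).map f).app (((TX X).obj M).obj N) :=
  NatTrans.naturality_app_app (assocT X).hom f M N

/-- Associativity of total tensor products. -/
noncomputable def assocCx (A K L : CochainComplex X.Modules ℤ) :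
    ((tcx (TX X)).obj (((tcx (TX X)).obj A).obj K)).obj L ≅
      ((tcx (TX X)).obj A).obj (((tcx (TX X)).obj K).obj L) :=
  HomologicalComplex.mapBifunctorAssociator (assocT X) A K L (ComplexShape.up ℤ) (ComplexShape.up ℤ)
    (ComplexShape.up ℤ)

theorem ι₁₂_map {A A' : CochainComplex X.Modules ℤ} (f : A ⟶ A') (K L : CochainComplex X.Modules ℤ)
    (i j k n : ℤ) (h : i + j + k = n) :
    HomologicalComplex.mapBifunctor₁₂.ι (TX X) (TX X) A K L (ComplexShape.up ℤ) (ComplexShape.up ℤ) i j k n h ≫
        (((tcx (TX X)).map (((tcx (TX X)).map f).app K)).app L).f n =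
      ((TX X).map (((TX X).map (f.f i)).app (K.X j))).app (L.X k) ≫
        HomologicalComplex.mapBifunctor₁₂.ι (TX X) (TX X) A' K L (ComplexShape.up ℤ) (ComplexShape.up ℤ) i j k n h := by
  rw [HomologicalComplex.mapBifunctor₁₂.ι_eq _ _ _ _ _ _ _ i j k (i + j) n rfl h,
    HomologicalComplex.mapBifunctor₁₂.ι_eq _ _ _ _ _ _ _ i j k (i + j) n rfl h]
  refine (Category.assoc _ _ _).trans ((congrArg (_ ≫ ·)
    (ι_tcx_map₁ (TX X) (((tcx (TX X)).map f).app K) L (i + j) k n h)).trans ?_)
  refine (Category.assoc _ _ _).symm.trans (Eq.trans ?_ (Category.assoc _ _ _))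
  refine congrArg (· ≫ _) ?_
  exact (NatTrans.congr_app (((TX X).map_comp _ _).symm.trans ((congrArg (TX X).map
    (ι_tcx_map₁ (TX X) f K i j (i + j) rfl)).trans ((TX X).map_comp _ _))) (L.X k))

theorem ι₂₃_map {A A' : CochainComplex X.Modules ℤ} (f : A ⟶ A') (K L : CochainComplex X.Modules ℤ)
    (i j k n : ℤ) (h : i + j + k = n) :
    HomologicalComplex.mapBifunctor₂₃.ι (TX X) (TX X) A K L (ComplexShape.up ℤ) (ComplexShape.up ℤ)
          (ComplexShape.up ℤ) i j k n h ≫
        (((tcx (TX X)).map f).app (((tcx (TX X)).obj K).obj L)).f n =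
      ((TX X).map (f.f i)).app (((TX X).obj (K.X j)).obj (L.X k)) ≫
        HomologicalComplex.mapBifunctor₂₃.ι (TX X) (TX X) A' K L (ComplexShape.up ℤ) (ComplexShape.up ℤ)
          (ComplexShape.up ℤ) i j k n h := by
  have h' : i + (j + k) = n := by omega
  rw [HomologicalComplex.mapBifunctor₂₃.ι_eq _ _ _ _ _ _ _ _ i j k (j + k) n rfl h',
    HomologicalComplex.mapBifunctor₂₃.ι_eq _ _ _ _ _ _ _ _ i j k (j + k) n rfl h']
  refine (Category.assoc _ _ _).trans ((congrArg (_ ≫ ·)
    (ι_tcx_map₁ (TX X) f (((tcx (TX X)).obj K).obj L) i (j + k) n h')).trans ?_)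
  refine (Category.assoc _ _ _).symm.trans (Eq.trans ?_ (Category.assoc _ _ _))
  exact congrArg (· ≫ _) (((TX X).map (f.f i)).naturality _)

set_option maxHeartbeats 1000000 in
theorem assocCx_natural {A A' : CochainComplex X.Modules ℤ} (f : A ⟶ A') (K L : CochainComplex X.Modules ℤ) :
    ((tcx (TX X)).map (((tcx (TX X)).map f).app K)).app L ≫ (assocCx A' K L).hom =
      (assocCx A K L).hom ≫ ((tcx (TX X)).map f).app (((tcx (TX X)).obj K).obj L) := by
  refine HomologicalComplex.hom_ext _ _ fun n => HomologicalComplex.mapBifunctor₁₂.hom_ext fun i j k h => ?_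
  have e : ∀ B, HomologicalComplex.mapBifunctor₁₂.ι (TX X) (TX X) B K L (ComplexShape.up ℤ) (ComplexShape.up ℤ)
        i j k n h ≫ (assocCx B K L).hom.f n =
      (((assocT X).hom.app (B.X i)).app (K.X j)).app (L.X k) ≫
        HomologicalComplex.mapBifunctor₂₃.ι (TX X) (TX X) B K L (ComplexShape.up ℤ) (ComplexShape.up ℤ)
          (ComplexShape.up ℤ) i j k n h := fun B =>
    HomologicalComplex.ι_mapBifunctorAssociatorX_hom (assocT X) B K L (ComplexShape.up ℤ) (ComplexShape.up ℤ)
      (ComplexShape.up ℤ) i j k n h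
  rw [HomologicalComplex.comp_f, HomologicalComplex.comp_f]
  refine ((Category.assoc _ _ _).symm.trans (congrArg (· ≫ _) (ι₁₂_map f K L i j k n h))).trans ?_
  refine ((Category.assoc _ _ _).trans (congrArg (_ ≫ ·) (e A'))).trans ?_
  refine Eq.trans ?_ ((congrArg (· ≫ _) (e A).symm).trans (Category.assoc _ _ _))
  refine Eq.trans ?_ ((congrArg (_ ≫ ·) (ι₂₃_map f K L i j k n h).symm).trans (Category.assoc _ _ _).symm)
  refine (Category.assoc _ _ _).symm.trans (Eq.trans ?_ (Category.assoc _ _ _))
  rw [assocT_natural]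

end Groth.Agent.RHom
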