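import Mathlib.Algebra.Homology.DerivedCategory.HomologySequence
import Mathlib.CategoryTheory.Abelian.Exact
import Groth.Agent.Lib.KFlat.AcyclicLeft

/-! Exactness on maps gives exactness on homology; dévissage of bounded complexes. -/

set_option autoImplicit false
set_option linter.unusedSectionVars false

universe w v u

open CategoryTheory CategoryTheory.Limits CategoryTheory.Pretriangulated

namespace Groth.Agent.RHom

variable {A : Type u} [Category.{v} A] [Abelian A] [HasDerivedCategory.{w} A]

/-- If maps into `X ⟶ Y ⟶ Z` form exact sequences then homology does too. -/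
theorem exact_homology_of_homExact {X Y Z : DerivedCategory A} (f : X ⟶ Y) (g : Y ⟶ Z) (w : f ≫ g = 0)
    (h : ∀ {T : DerivedCategory A} (t : T ⟶ Y), t ≫ g = 0 → ∃ t', t = t' ≫ f) (j : ℤ) :
    (ShortComplex.mk ((DerivedCategory.homologyFunctor A j).map f) ((DerivedCategory.homologyFunctor A j).map g)
      (by rw [← Functor.map_comp, w, Functor.map_zero])).Exact := by
  obtain ⟨Y', i, δ, hT⟩ := distinguished_cocone_triangle₁ g
  have hig : i ≫ g = 0 := comp_distTriang_mor_zero₁₂ _ hT
  obtain ⟨a, ha⟩ := h i hig
  have hex := DerivedCategory.HomologySequence.exact₂ (Triangle.mk i g δ) hT j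
  rw [ShortComplex.exact_iff_exact_up_to_refinements]
  intro W y hy
  rw [ShortComplex.exact_iff_exact_up_to_refinements] at hex
  obtain ⟨W', π, hπ, y', hy'⟩ := hex y hy
  refine ⟨W', π, hπ, y' ≫ (DerivedCategory.homologyFunctor A j).map a, ?_⟩
  refine hy'.trans ?_
  change y' ≫ (DerivedCategory.homologyFunctor A j).map i = _
  exact (congrArg (fun t => y' ≫ (DerivedCategory.homologyFunctor A j).map t) ha).trans
    ((congrArg (y' ≫ ·) ((DerivedCategory.homologyFunctor A j).map_comp a f)).trans (Category.assoc _ _ _).symm)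

variable {C : Type u} [Category.{v} C] [Abelian C] [HasColimitsOfSize.{0, 0} C]

/-- A bounded complex is built from its terms by degreewise split extensions. -/
theorem bounded_induction (P : CochainComplex C ℤ → Prop) (h0 : ∀ L, IsZero L → P L)
    (hext : ∀ S : ShortComplex (CochainComplex C ℤ),
      (∀ i : ℤ, Nonempty ((S.map (HomologicalComplex.eval C (ComplexShape.up ℤ) i)).Splitting)) →
        P S.X₁ → P S.X₃ → P S.X₂)
    (Q : C → Prop) (hQ0 : ∀ X, IsZero X → Q X) (hQiso : ∀ {X Y : C}, (X ≅ Y) → Q X → Q Y)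
    (hsingle : ∀ (a : ℤ) (X : C), Q X → P ((HomologicalComplex.single C (ComplexShape.up ℤ) a).obj X))
    (b : ℤ) (m : ℕ) : ∀ (L : CochainComplex C ℤ) [L.IsStrictlyLE b] [L.IsStrictlyGE (b + 1 - m)],
      (∀ i, Q (L.X i)) → P L := by
  induction m with
  | zero =>
    intro L _ hGE _
    refine h0 L ((IsZero.iff_id_eq_zero L).2 ?_)
    ext i
    rcases lt_or_ge i (b + 1) with h | h
    · exact (L.isZero_of_isStrictlyGE (b + 1 - ((0 : ℕ) : ℤ)) i (by simpa using h)).eq_of_src _ _
    · exact (L.isZero_of_isStrictlyLE b i (by omega)).eq_of_src _ _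
  | succ m ih =>
    intro L _ hGE hQ
    obtain ⟨a, ha⟩ : ∃ a, a = b + 1 - ((m + 1 : ℕ) : ℤ) := ⟨_, rfl⟩
    let π : L ⟶ (HomologicalComplex.single C (ComplexShape.up ℤ) a).obj (L.X a) :=
      HomologicalComplex.mkHomToSingle (𝟙 _) fun i hi =>
        (L.isZero_of_isStrictlyGE (b + 1 - ((m + 1 : ℕ) : ℤ)) i
          (by have : i + 1 = a := hi; omega)).eq_of_src _ _
    let S : ShortComplex (CochainComplex C ℤ) :=
      ShortComplex.mk (KFlat.brutι L (a + 1)) π (by
        refine HomologicalComplex.hom_ext _ _ fun i => ?_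
        by_cases hi : i = a
        · exact (KFlat.brutGE_isZero L (by omega)).eq_of_src _ _
        · exact (HomologicalComplex.isZero_single_obj_X _ a _ i hi).eq_of_tgt _ _)
    have hSp : ∀ i : ℤ,
        Nonempty ((S.map (HomologicalComplex.eval C (ComplexShape.up ℤ) i)).Splitting) := fun i => by
      rcases lt_trichotomy i a with hi | hi | hi
      · have hz := L.isZero_of_isStrictlyGE (b + 1 - ((m + 1 : ℕ) : ℤ)) i (by omega)
        exact ⟨{ r := 0, s := 0
                 f_r := (KFlat.brutGE_isZero L (by omega)).eq_of_src _ _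
                 s_g := (HomologicalComplex.isZero_single_obj_X (ComplexShape.up ℤ) a (L.X a) i (by omega)).eq_of_src _ _
                 id := hz.eq_of_src _ _ }⟩
      · subst hi
        refine ⟨{ r := 0, s := (HomologicalComplex.singleObjXSelf (ComplexShape.up ℤ) i (L.X i)).hom
                  f_r := (KFlat.brutGE_isZero L (by omega)).eq_of_src _ _
                  s_g := ?_
                  id := ?_ }⟩
        · change _ ≫ π.f i = 𝟙 _
          rw [HomologicalComplex.mkHomToSingle_f, Category.id_comp]
          exact Iso.hom_inv_id _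
        · change (0 : L.X i ⟶ (KFlat.brutGE L (i + 1)).X i) ≫ (KFlat.brutι L (i + 1)).f i +
            π.f i ≫ (HomologicalComplex.singleObjXSelf (ComplexShape.up ℤ) i (L.X i)).hom = 𝟙 (L.X i)
          rw [zero_comp, HomologicalComplex.mkHomToSingle_f, Category.id_comp]
          exact (zero_add _).trans (Iso.inv_hom_id _)
      · refine ⟨{ r := (KFlat.brutIso L (show a + 1 ≤ i by omega)).inv, s := 0
                  f_r := ?_
                  s_g := (HomologicalComplex.isZero_single_obj_X (ComplexShape.up ℤ) a (L.X a) i (by omega)).eq_of_src _ _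
                  id := ?_ }⟩
        · change (KFlat.brutι L (a + 1)).f i ≫ _ = 𝟙 _
          rw [KFlat.brutι_f L (show a + 1 ≤ i by omega), Iso.hom_inv_id]
        · change (KFlat.brutIso L (show a + 1 ≤ i by omega)).inv ≫ (KFlat.brutι L (a + 1)).f i +
            π.f i ≫ (0 : ((HomologicalComplex.single C (ComplexShape.up ℤ) a).obj (L.X a)).X i ⟶ L.X i)
              = 𝟙 (L.X i)
          rw [KFlat.brutι_f L (show a + 1 ≤ i by omega), Iso.inv_hom_id, comp_zero]
          exact add_zero _
    have := KFlat.brutGE_isStrictlyLE L (a + 1) b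
    have : (KFlat.brutGE L (a + 1)).IsStrictlyGE (b + 1 - (m : ℤ)) := by
      rw [show b + 1 - (m : ℤ) = a + 1 by push_cast at ha; omega]
      infer_instance
    refine hext S hSp (ih (KFlat.brutGE L (a + 1)) fun i => ?_) (hsingle a _ (hQ a))
    by_cases hi : a + 1 ≤ i
    · exact hQiso (KFlat.brutIso L hi).symm (hQ i)
    · exact hQ0 _ (KFlat.brutGE_isZero L (by omega))

end Groth.Agent.RHom
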