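import Groth.Agent.Lib.KFlat.Tensor
import Mathlib.Algebra.Homology.HomotopyCategory.Shift
import Mathlib.Algebra.Homology.Single

/-! Tensor product with a complex concentrated in one degree. -/

set_option autoImplicit false
set_option linter.unusedSectionVars false
set_option backward.isDefEq.respectTransparency false
set_option backward.isDefEq.respectTransparency.types false

universe v u

open CategoryTheory CategoryTheory.Limits HomologicalComplex

namespace Groth.Agent.RHom

open KFlat

variable {C : Type u} [Category.{v} C] [Abelian C] [HasColimitsOfSize.{0, 0} C]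
  (T : C ⥤ C ⥤ C) [T.Additive] [∀ X, (T.obj X).Additive] (a : ℤ) (F : C)

/-- The one-degree complex. -/
noncomputable abbrev sg : CochainComplex C ℤ := (HomologicalComplex.single C (ComplexShape.up ℤ) a).obj F

variable (R : CochainComplex C ℤ)

/-- The comparison in degree `n`, as a family on summands. -/
noncomputable def stTo (n p q : ℤ) (h : p + q = n) :
    (T.obj (R.X p)).obj ((sg a F).X q) ⟶ (T.obj (R.X (n + -a))).obj F :=
  if hq : q = a then
    (p * a).negOnePow • ((T.obj (R.X p)).map (singleObjXIsoOfEq (ComplexShape.up ℤ) a F q hq).hom ≫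
      (T.map (eqToHom (congrArg R.X (show p = n + -a by omega)))).app F)
  else 0

theorem stTo_self (n p : ℤ) (h : p + a = n) :
    stTo T a F R n p a h = (p * a).negOnePow • ((T.obj (R.X p)).map (singleObjXSelf (ComplexShape.up ℤ) a F).hom ≫
      (T.map (eqToHom (congrArg R.X (show p = n + -a by omega)))).app F) := by
  rw [stTo, dif_pos rfl]
  rfl

/-- The comparison in one degree. -/
noncomputable def stX (n : ℤ) :
    (((tcx T).obj R).obj (sg a F)).X n ≅
      ((((T.flip.obj F).mapHomologicalComplex (ComplexShape.up ℤ)).obj R)⟦-a⟧).X n where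
  hom := mapBifunctorDesc (fun p q h => stTo T a F R n p q h)
  inv := ((n + -a) * a).negOnePow • ((T.obj (R.X (n + -a))).map (singleObjXSelf (ComplexShape.up ℤ) a F).inv ≫
    ιt T R (sg a F) (n + -a) a n (by omega))
  hom_inv_id := tcx_hom_ext T fun p q h => by
    by_cases hq : q = a
    · subst hq
      obtain rfl : p = n + -q := by omega
      rw [ι_desc_assoc, stTo_self, Category.comp_id]
      simp only [eqToHom_refl, CategoryTheory.Functor.map_id, NatTrans.id_app, Linear.units_smul_comp,
        Category.assoc, Category.id_comp, Linear.comp_units_smul, smul_smul, Int.units_mul_self, one_smul]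
      rw [← Functor.map_comp_assoc, Iso.hom_inv_id, CategoryTheory.Functor.map_id, Category.id_comp]
    · exact ((T.obj (R.X p)).map_isZero (isZero_single_obj_X (ComplexShape.up ℤ) a F q hq)).eq_of_src _ _
  inv_hom_id := by
    rw [Linear.units_smul_comp, Category.assoc, ι_desc, stTo_self]
    simp only [eqToHom_refl, CategoryTheory.Functor.map_id, NatTrans.id_app, Category.comp_id,
      Linear.comp_units_smul, smul_smul, Int.units_mul_self, one_smul]
    rw [← Functor.map_comp, Iso.inv_hom_id]
    exact CategoryTheory.Functor.map_id _ _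

theorem d_eqToHom (R : CochainComplex C ℤ) (i : ℤ) {j j' : ℤ} (h : j = j') :
    R.d i j ≫ eqToHom (congrArg R.X h) = R.d i j' := by
  subst h
  simp

/-- `R ⊗ F[-a] ≅ (R ⊗ F)[-a]`. -/
noncomputable def singleTensorIso : ((tcx T).obj R).obj (sg a F) ≅
    ((((T.flip.obj F).mapHomologicalComplex (ComplexShape.up ℤ)).obj R)⟦-a⟧) :=
  HomologicalComplex.Hom.isoOfComponents (stX T a F R) fun n n' hn => by
    have hn' : n + 1 = n' := hn
    refine tcx_hom_ext T fun p q h => ?_
    by_cases hq : q = a
    · subst hq
      simp only [stX]
      rw [ι_desc_assoc]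
      erw [mapBifunctor.d_eq]
      rw [Preadditive.add_comp, Preadditive.comp_add, ← Category.assoc,
        ← Category.assoc, mapBifunctor.ι_D₁, mapBifunctor.ι_D₂,
        mapBifunctor.d₁_eq R (sg q F) T (ComplexShape.up ℤ) (show (ComplexShape.up ℤ).Rel p (p + 1) from rfl) q n'
          (show p + 1 + q = n' by omega)]
      have h2 : mapBifunctor.d₂ R (sg q F) T (ComplexShape.up ℤ) p q n' = 0 := by
        by_cases hh : p + (q + 1) = n'
        · rw [mapBifunctor.d₂_eq R (sg q F) T (ComplexShape.up ℤ) p (show (ComplexShape.up ℤ).Rel q (q + 1) from rfl)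
            n' hh, single_obj_d, CategoryTheory.Functor.map_zero, zero_comp, smul_zero]
        · exact absurd (show p + (q + 1) = n' by omega) hh
      rw [h2, zero_comp, add_zero, Linear.units_smul_comp, Category.assoc, ι_desc, stTo_self, stTo_self]
      obtain rfl : p = n + -q := by omega
      obtain rfl : n' = n + 1 := hn'.symm
      simp only [CochainComplex.shiftFunctor_obj_d', Functor.mapHomologicalComplex_obj_d, Functor.flip_obj_map,
        ComplexShape.ε₁_def, Linear.comp_units_smul, Linear.units_smul_comp, smul_smul, one_mul,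
        Category.assoc, eqToHom_refl, CategoryTheory.Functor.map_id, NatTrans.id_app, Category.id_comp]
      congr 1
      · rw [show ((n + -q + 1) * q) = (n + -q) * q + q by rw [add_mul, one_mul], Int.negOnePow_add,
          Int.negOnePow_neg]
        ac_rfl
      · rw [← NatTrans.naturality_assoc, ← NatTrans.comp_app, ← Functor.map_comp,
          d_eqToHom R (n + -q) (show n + -q + 1 = n + 1 + -q by omega)]
    · exact ((T.obj (R.X p)).map_isZero (isZero_single_obj_X (ComplexShape.up ℤ) a F q hq)).eq_of_src _ _

theorem singleTensorIso_natural {R R' : CochainComplex C ℤ} (f : R ⟶ R') :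
    ((tcx T).map f).app (sg a F) ≫ (singleTensorIso T a F R').hom =
      (singleTensorIso T a F R).hom ≫
        (((T.flip.obj F).mapHomologicalComplex (ComplexShape.up ℤ)).map f)⟦-a⟧' := by
  refine HomologicalComplex.hom_ext _ _ fun n => tcx_hom_ext T fun p q h => ?_
  by_cases hq : q = a
  · subst hq
    rw [HomologicalComplex.comp_f, HomologicalComplex.comp_f, ← Category.assoc, ι_tcx_map₁, Category.assoc]
    change _ ≫ ιt T R' (sg q F) p q n h ≫ mapBifunctorDesc _ = ιt T R (sg q F) p q n h ≫ mapBifunctorDesc _ ≫ _
    rw [ι_desc, ι_desc_assoc, stTo_self, stTo_self]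
    obtain rfl : p = n + -q := by omega
    simp only [eqToHom_refl, CategoryTheory.Functor.map_id, NatTrans.id_app, Category.comp_id,
      Linear.comp_units_smul, Linear.units_smul_comp, CochainComplex.shiftFunctor_map_f',
      Functor.mapHomologicalComplex_map_f, Functor.flip_obj_map]
    rw [NatTrans.naturality]
  · exact ((T.obj (R.X p)).map_isZero (isZero_single_obj_X (ComplexShape.up ℤ) a F q hq)).eq_of_src _ _

end Groth.Agent.RHom
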