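import Groth.Agent.Lib.RHom.Trans
import Groth.Agent.Lib.RHom.HomologyExact
import Groth.Agent.Lib.RHom.SingleTensor

/-! Dévissage for cohomology sheaves of internal hom out of bounded complexes of free modules. -/

set_option autoImplicit false
set_option linter.unusedSectionVars false
set_option linter.style.haveILetI false
set_option backward.isDefEq.respectTransparency false
set_option backward.isDefEq.respectTransparency.types false

universe u

open CategoryTheory CategoryTheory.Limits CategoryTheory.Pretriangulated AlgebraicGeometry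

attribute [local instance] HasDerivedCategory.standard

namespace Groth.Agent.RHom

open KFlat KFlat.Sch

variable {X : Scheme.{u}}

scoped instance hasLTensorCx' (E : CochainComplex X.Modules ℤ) : DCoh.HasLTensorCx E := hasLTensorCx E

scoped instance hasRSheafHom' (E : CochainComplex X.Modules ℤ) [DCoh.HasLTensorCx E] : DCoh.HasRSheafHom E :=
  hasRSheafHom E

/-- Classes of modules stable in five-term exact sequences. -/
structure Mid (𝒮 : X.Modules → Prop) : Prop where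
  iso : ∀ {M N : X.Modules}, (M ≅ N) → 𝒮 M → 𝒮 N
  mid : ∀ {A B C D E : X.Modules} (f : A ⟶ B) (g : B ⟶ C) (h : C ⟶ D) (k : D ⟶ E)
    (w₁ : f ≫ g = 0) (w₂ : g ≫ h = 0) (w₃ : h ≫ k = 0),
    (ShortComplex.mk f g w₁).Exact → (ShortComplex.mk g h w₂).Exact → (ShortComplex.mk h k w₃).Exact →
      𝒮 A → 𝒮 B → 𝒮 D → 𝒮 E → 𝒮 C

/-- Internal hom only depends on the object of the derived category. -/
theorem nonempty_rhomIso {E E' : CochainComplex X.Modules ℤ}
    (e : DerivedCategory.Q.obj E ≅ DerivedCategory.Q.obj E') :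
    Nonempty (DCoh.RSheafHom E ≅ DCoh.RSheafHom E') := by
  obtain ⟨Z, s, hs, g, hg⟩ := DerivedCategory.right_fac e.hom
  haveI : QuasiIso s := (DerivedCategory.isIso_Q_map_iff_quasiIso (C := X.Modules) _).1 hs
  haveI : QuasiIso g := by
    rw [← DerivedCategory.isIso_Q_map_iff_quasiIso]
    have : DerivedCategory.Q.map g = DerivedCategory.Q.map s ≫ e.hom := by rw [hg, IsIso.hom_inv_id_assoc]
    rw [this]
    infer_instance
  haveI := isIso_rhomMap s
  haveI := isIso_rhomMap g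
  exact ⟨asIso (rhomMap s) ≪≫ (asIso (rhomMap g)).symm⟩

/-- The cone of `Q ⟶ cone f` is the shifted source. -/
theorem nonempty_cone_inr_iso {K L : CochainComplex X.Modules ℤ} (f : K ⟶ L) :
    Nonempty (DerivedCategory.Q.obj (CochainComplex.mappingCone (CochainComplex.mappingCone.inr f)) ≅
      (DerivedCategory.Q.obj K)⟦(1 : ℤ)⟧) :=
  ⟨Triangle.π₃.mapIso (isoTriangleOfIso₁₂
    (DerivedCategory.Q.mapTriangle.obj (CochainComplex.mappingCone.triangle (CochainComplex.mappingCone.inr f)))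
    (DerivedCategory.Q.mapTriangle.obj (CochainComplex.mappingCone.triangle f)).rotate
    (DerivedCategory.mappingCone_triangle_distinguished _)
    (rot_of_distTriang _ (DerivedCategory.mappingCone_triangle_distinguished f))
    (Iso.refl _) (Iso.refl _) ((Category.comp_id _).trans (Category.id_comp _).symm))⟩

variable (𝒮 : X.Modules → Prop) (Y : DCoh.D X)

/-- `H^j(RHom(Z, Y))` lies in the class, for all `j` and every representative of `Z`. -/
def Good₀ (Z : DCoh.D X) : Prop :=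
  ∀ E : CochainComplex X.Modules ℤ, Nonempty (DerivedCategory.Q.obj E ≅ Z) →
    ∀ j : ℤ, 𝒮 (DCoh.HD ((DCoh.RSheafHom E).obj Y) j)

/-- `H^j(RHom(Z, Y))` lies in the class, for one degree. -/
def GoodAt (j : ℤ) (Z : DCoh.D X) : Prop :=
  ∀ E : CochainComplex X.Modules ℤ, Nonempty (DerivedCategory.Q.obj E ≅ Z) →
    𝒮 (DCoh.HD ((DCoh.RSheafHom E).obj Y) j)

/-- `Good₀` for all shifts. -/
def Good (Z : DCoh.D X) : Prop := ∀ n : ℤ, Good₀ 𝒮 Y (Z⟦n⟧)

variable {𝒮} {Y}

theorem Good₀.iso {Z Z' : DCoh.D X} (e : Z ≅ Z') (h : Good₀ 𝒮 Y Z) : Good₀ 𝒮 Y Z' :=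
  fun E ⟨eE⟩ => h E ⟨eE ≪≫ e.symm⟩

theorem GoodAt.iso {j : ℤ} {Z Z' : DCoh.D X} (e : Z ≅ Z') (h : GoodAt 𝒮 Y j Z) : GoodAt 𝒮 Y j Z' :=
  fun E ⟨eE⟩ => h E ⟨eE ≪≫ e.symm⟩

theorem Good.iso {Z Z' : DCoh.D X} (e : Z ≅ Z') (h : Good 𝒮 Y Z) : Good 𝒮 Y Z' :=
  fun n => (h n).iso ((shiftFunctor (DCoh.D X) n).mapIso e)

theorem Good.good₀ {Z : DCoh.D X} (h : Good 𝒮 Y Z) : Good₀ 𝒮 Y Z :=
  (h 0).iso ((shiftFunctorZero (DCoh.D X) ℤ).app Z)

theorem Good.shift {Z : DCoh.D X} (h : Good 𝒮 Y Z) (m : ℤ) : Good 𝒮 Y (Z⟦m⟧) :=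
  fun n => (h (m + n)).iso ((shiftFunctorAdd (DCoh.D X) m n).app Z)

theorem at_obj₃ (hS : Mid 𝒮) (T : Triangle (DCoh.D X)) (hT : T ∈ distTriang _) (j : ℤ)
    (h₂' : GoodAt 𝒮 Y j (T.obj₂⟦(1 : ℤ)⟧)) (h₁' : GoodAt 𝒮 Y j (T.obj₁⟦(1 : ℤ)⟧))
    (h₂ : GoodAt 𝒮 Y j T.obj₂) (h₁ : GoodAt 𝒮 Y j T.obj₁) : GoodAt 𝒮 Y j T.obj₃ := by
  obtain ⟨K, L, f, ⟨e⟩⟩ := (DerivedCategory.mem_distTriang_iff T).1 hT
  intro E ⟨eE⟩
  let e₁ : DerivedCategory.Q.obj K ≅ T.obj₁ := (Triangle.π₁.mapIso e).symm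
  let e₂ : DerivedCategory.Q.obj L ≅ T.obj₂ := (Triangle.π₂.mapIso e).symm
  let g := CochainComplex.mappingCone.inr f
  let h := CochainComplex.mappingCone.inr g
  let k := CochainComplex.mappingCone.inr h
  obtain ⟨eM⟩ := nonempty_cone_inr_iso f
  obtain ⟨eN⟩ := nonempty_cone_inr_iso g
  obtain ⟨r⟩ := nonempty_rhomIso (eE ≪≫ Triangle.π₃.mapIso e :
    DerivedCategory.Q.obj E ≅ DerivedCategory.Q.obj (CochainComplex.mappingCone f))
  refine hS.iso ((DerivedCategory.homologyFunctor X.Modules j).mapIso (r.app Y).symm) ?_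
  let H := DerivedCategory.homologyFunctor X.Modules j
  refine hS.mid (H.map ((rhomMap k).app Y)) (H.map ((rhomMap h).app Y)) (H.map ((rhomMap g).app Y))
    (H.map ((rhomMap f).app Y))
    (by rw [← H.map_comp, rhomMap_inr_comp, H.map_zero])
    (by rw [← H.map_comp, rhomMap_inr_comp, H.map_zero])
    (by rw [← H.map_comp, rhomMap_inr_comp, H.map_zero])
    (exact_homology_of_homExact _ _ (rhomMap_inr_comp h Y) (fun t ht => rhom_exact_cone h t ht) j)
    (exact_homology_of_homExact _ _ (rhomMap_inr_comp g Y) (fun t ht => rhom_exact_cone g t ht) j)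
    (exact_homology_of_homExact _ _ (rhomMap_inr_comp f Y) (fun t ht => rhom_exact_cone f t ht) j)
    (h₂' _ ⟨eN ≪≫ (shiftFunctor (DCoh.D X) (1 : ℤ)).mapIso e₂⟩)
    (h₁' _ ⟨eM ≪≫ (shiftFunctor (DCoh.D X) (1 : ℤ)).mapIso e₁⟩)
    (h₂ _ ⟨e₂⟩) (h₁ _ ⟨e₁⟩)

theorem good₀_obj₃ (hS : Mid 𝒮) (T : Triangle (DCoh.D X)) (hT : T ∈ distTriang _)
    (h₁ : Good 𝒮 Y T.obj₁) (h₂ : Good 𝒮 Y T.obj₂) : Good₀ 𝒮 Y T.obj₃ := fun E e j =>
  at_obj₃ hS T hT j (fun E' e' => (h₂.shift 1).good₀ E' e' j) (fun E' e' => (h₁.shift 1).good₀ E' e' j)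
    (fun E' e' => h₂.good₀ E' e' j) (fun E' e' => h₁.good₀ E' e' j) E e

theorem good_obj₃ (hS : Mid 𝒮) (T : Triangle (DCoh.D X)) (hT : T ∈ distTriang _)
    (h₁ : Good 𝒮 Y T.obj₁) (h₂ : Good 𝒮 Y T.obj₂) : Good 𝒮 Y T.obj₃ := fun n =>
  good₀_obj₃ hS _ (Triangle.shift_distinguished T hT n) (h₁.shift n) (h₂.shift n)

theorem good_obj₂ (hS : Mid 𝒮) (T : Triangle (DCoh.D X)) (hT : T ∈ distTriang _)
    (h₁ : Good 𝒮 Y T.obj₁) (h₃ : Good 𝒮 Y T.obj₃) : Good 𝒮 Y T.obj₂ :=
  good_obj₃ hS T.invRotate (inv_rot_of_distTriang _ hT) (h₃.shift (-1)) h₁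

theorem good_zero (hS : Mid 𝒮) (Z₀ : DCoh.D X) (h₀ : Good 𝒮 Y Z₀) {Z : DCoh.D X} (hZ : IsZero Z) :
    Good 𝒮 Y Z :=
  (good_obj₃ hS _ (contractible_distinguished Z₀) h₀ h₀).iso ((isZero_zero _).iso hZ)

/-- The unit module as a functor. -/
noncomputable def unitorNatIso : (TX X).flip.obj (Coh.structureModule X) ≅ 𝟭 X.Modules :=
  NatIso.ofComponents (fun M => M2.tensorRUnit M) fun f => by
    change ((TX X).map f).app (Coh.structureModule X) ≫ _ = _ ≫ f
    rw [map_eq_tensorMap_left]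
    exact M2.tensorRUnit_natural f

/-- `R ⊗ O[-a] ≅ R[-a]` as functors. -/
noncomputable def singleFunIso (a : ℤ) :
    (tcx (TX X)).flip.obj (sg a (Coh.structureModule X)) ≅
      shiftFunctor (CochainComplex X.Modules ℤ) (-a) :=
  NatIso.ofComponents (fun R => singleTensorIso (TX X) a (Coh.structureModule X) R ≪≫
    (shiftFunctor (CochainComplex X.Modules ℤ) (-a)).mapIso
      ((NatIso.mapHomologicalComplex unitorNatIso (ComplexShape.up ℤ) ≪≫
        Functor.mapHomologicalComplexIdIso X.Modules (ComplexShape.up ℤ)).app R))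
    fun {R R'} f => by
      simp only [Iso.trans_hom, Functor.mapIso_hom, Iso.app_hom, Category.assoc]
      refine ((Category.assoc _ _ _).symm.trans (congrArg (· ≫ _)
        (singleTensorIso_natural (TX X) a (Coh.structureModule X) f))).trans ((Category.assoc _ _ _).trans ?_)
      refine congrArg (_ ≫ ·) ?_
      rw [← Functor.map_comp, ← Functor.map_comp]
      exact congrArg (shiftFunctor (CochainComplex X.Modules ℤ) (-a)).map (NatTrans.naturality _ f)

/-- `Z ⊗^L O[-a] ≅ Z[-a]`. -/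
noncomputable def ltSingleIso (a : ℤ) :
    DCoh.LTensorCx (sg a (Coh.structureModule X)) ≅ shiftFunctor (DCoh.D X) (-a) :=
  isoOfResIso (cover X) (ltResIso (sg a (Coh.structureModule X)) ≪≫
    Functor.isoWhiskerLeft (resFunctor (cover X))
      (Functor.isoWhiskerRight (singleFunIso a) DerivedCategory.Q ≪≫
        (DerivedCategory.Q : CochainComplex X.Modules ℤ ⥤ DCoh.D X).commShiftIso (-a)))

/-- `RHom(O[-a], Y) ≅ Y[a]`. -/
noncomputable def rhomSingleIso (a : ℤ) :
    DCoh.RSheafHom (sg a (Coh.structureModule X)) ≅ shiftFunctor (DCoh.D X) a :=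
  (DCoh.RSheafHomAdj _).rightAdjointUniq
    ((shiftEquiv' (DCoh.D X) (-a) a (neg_add_cancel a)).toAdjunction.ofNatIsoLeft (ltSingleIso a).symm)

theorem good_singleOne (hS : Mid 𝒮) (hY : ∀ j, 𝒮 (DCoh.HD Y j)) (a : ℤ) :
    Good 𝒮 Y ((DerivedCategory.singleFunctor X.Modules a).obj (Coh.structureModule X)) := by
  intro n E ⟨eE⟩ j
  let b : ℤ := a - n
  obtain ⟨r⟩ := nonempty_rhomIso (eE ≪≫
    ((DerivedCategory.singleFunctors X.Modules).shiftIso n b a (by omega)).app (Coh.structureModule X) :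
    DerivedCategory.Q.obj E ≅ DerivedCategory.Q.obj (sg b (Coh.structureModule X)))
  refine hS.iso ((DerivedCategory.homologyFunctor X.Modules j).mapIso ((r ≪≫ rhomSingleIso b).app Y).symm) ?_
  exact hS.iso (((DerivedCategory.homologyFunctor X.Modules 0).shiftIso b j (b + j) rfl).app Y).symm (hY _)

/-- A finite free module. -/
def IsFree (F : X.Modules) : Prop := ∃ m : ℕ, Nonempty (F ≅ FlatMod.freeMod X m)

/-- `O^m ⊞ O ≅ O^(m+1)`. -/
noncomputable def freeSuccIso (m : ℕ) :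
    haveI : HasFiniteBiproducts X.Modules := Abelian.hasFiniteBiproducts
    FlatMod.freeMod X m ⊞ Coh.structureModule X ≅ FlatMod.freeMod X (m + 1) :=
  haveI : HasFiniteBiproducts X.Modules := Abelian.hasFiniteBiproducts
  { hom := biprod.desc (Sigma.desc fun i => Sigma.ι (fun _ : Fin (m + 1) => Coh.structureModule X) i.castSucc)
      (Sigma.ι (fun _ : Fin (m + 1) => Coh.structureModule X) (Fin.last m))
    inv := Sigma.desc (Fin.lastCases biprod.inr fun i => Sigma.ι (fun _ : Fin m => Coh.structureModule X) i ≫ biprod.inl)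
    hom_inv_id := by
      apply biprod.hom_ext'
      · refine Sigma.hom_ext _ _ fun i => ?_
        simp
      · simp
    inv_hom_id := Sigma.hom_ext _ _ fun i => by
      induction i using Fin.lastCases with
      | last => simp
      | cast i => simp }

theorem good_freeMod (hS : Mid 𝒮) (hY : ∀ j, 𝒮 (DCoh.HD Y j)) (a : ℤ) : ∀ m : ℕ,
    Good 𝒮 Y ((DerivedCategory.singleFunctor X.Modules a).obj (FlatMod.freeMod X m)) := by
  haveI : HasFiniteBiproducts X.Modules := Abelian.hasFiniteBiproducts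
  intro m
  induction m with
  | zero =>
    refine good_zero hS _ (good_singleOne hS hY a) ((DerivedCategory.singleFunctor X.Modules a).map_isZero ?_)
    rw [IsZero.iff_id_eq_zero]
    exact Sigma.hom_ext _ _ fun i => i.elim0
  | succ m ih =>
    have hs := (ShortComplex.Splitting.ofHasBinaryBiproduct (FlatMod.freeMod X m) (Coh.structureModule X)).shortExact
    haveI : (CochainComplex.singleFunctor X.Modules a).Additive := inferInstance
    exact (good_obj₂ hS _ (DerivedCategory.triangleOfSES_distinguished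
      (hs.map_of_exact (HomologicalComplex.single X.Modules (ComplexShape.up ℤ) a))) ih
        (good_singleOne hS hY a)).iso
      ((DerivedCategory.singleFunctor X.Modules a).mapIso (freeSuccIso m))

/-- Bounded complexes of finite free modules. -/
theorem good_of_free (hS : Mid 𝒮) (hY : ∀ j, 𝒮 (DCoh.HD Y j)) (E : CochainComplex X.Modules ℤ) (a b : ℤ)
    (hv : DCoh.VanishesOutside E a b) (hf : ∀ i, IsFree (E.X i)) : Good 𝒮 Y (DerivedCategory.Q.obj E) := by
  haveI : E.IsStrictlyLE b := (CochainComplex.isStrictlyLE_iff E b).2 fun i hi => hv i (Or.inr hi)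
  haveI : E.IsStrictlyGE (b + 1 - ((b + 1 - a).toNat : ℤ)) :=
    (CochainComplex.isStrictlyGE_iff E _).2 fun i hi => hv i (by omega)
  refine bounded_induction (fun L => Good 𝒮 Y (DerivedCategory.Q.obj L))
    (fun L hL => good_zero hS _ (good_singleOne hS hY 0) (DerivedCategory.Q.map_isZero hL))
    (fun S hSp h₁ h₃ => good_obj₂ hS _
      (DerivedCategory.triangleOfSES_distinguished (HomologicalComplex.shortExact_of_degreewise_shortExact S
        fun i => (hSp i).some.shortExact)) h₁ h₃)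
    IsFree (fun F hF => ⟨0, ⟨hF.iso (by rw [IsZero.iff_id_eq_zero]; exact Sigma.hom_ext _ _ fun i => i.elim0)⟩⟩)
    (fun e ⟨m, ⟨e'⟩⟩ => ⟨m, ⟨e.symm ≪≫ e'⟩⟩)
    (fun c F ⟨m, ⟨e⟩⟩ => (good_freeMod hS hY c m).iso ((DerivedCategory.singleFunctor X.Modules c).mapIso e.symm))
    b (b + 1 - a).toNat E hf

end Groth.Agent.RHom
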