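import Groth.Agent.Lib.RHom.Assoc
import Groth.Agent.Lib.KFlat.DerivedNat
import Mathlib.CategoryTheory.Adjunction.Unique

/-! The derived tensor product with a fixed complex as a functor, and iterated internal homs. -/

set_option autoImplicit false
set_option linter.unusedSectionVars false
set_option backward.isDefEq.respectTransparency false
set_option backward.isDefEq.respectTransparency.types false

universe u

open CategoryTheory CategoryTheory.Limits AlgebraicGeometry

attribute [local instance] HasDerivedCategory.standard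

namespace Groth.Agent.RHom

open KFlat KFlat.Sch

variable {X : Scheme.{u}}

/-- The counit is invertible on any class of complexes on which tensoring preserves quasi-isomorphisms. -/
theorem isIso_counit_of (E : CochainComplex X.Modules ℤ) [DCoh.HasLTensorCx E]
    (P : CochainComplex X.Modules ℤ → Prop) (hP : ∀ G, P (resObj (cover X) G))
    (hE : ∀ {A B : CochainComplex X.Modules ℤ} (φ : A ⟶ B), QuasiIso φ → P A → P B →
      QuasiIso (((tcx (TX X)).map φ).app E))
    (K : CochainComplex X.Modules ℤ) (hK : P K) :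
    IsIso (((DCoh.tensorCxQ E).totalLeftDerivedCounit DerivedCategory.Q
      (HomologicalComplex.quasiIso X.Modules (ComplexShape.up ℤ))).app K) :=
  isIso_counit (W := HomologicalComplex.quasiIso X.Modules (ComplexShape.up ℤ)) (resFunctor (cover X))
    (resNatTrans (cover X)) (fun G => quasiIso_resπ (cover X) G) _ P hP
    (fun {A B} φ hφ hA hB => by
      have := hE φ hφ hA hB
      exact inferInstanceAs (IsIso (DerivedCategory.Q.map (((tcx (TX X)).map φ).app E))))
    DerivedCategory.Q _ _ K hK

theorem isIso_counit_kflat (E : CochainComplex X.Modules ℤ) [DCoh.HasLTensorCx E]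
    (K : CochainComplex X.Modules ℤ) (hK : IsKFlat (TX X) K) :
    IsIso (((DCoh.tensorCxQ E).totalLeftDerivedCounit DerivedCategory.Q
      (HomologicalComplex.quasiIso X.Modules (ComplexShape.up ℤ))).app K) :=
  isIso_counit_of E (fun K => IsKFlat (TX X) K) (fun G => (isAdapted_resObj G).1)
    (fun φ hφ hA hB => have : QuasiIso φ := hφ; quasiIso_tcx_map₁ E φ hA hB) K hK

theorem isIso_counit_of_kflat_right (E : CochainComplex X.Modules ℤ) [DCoh.HasLTensorCx E]
    (hE : IsKFlat (TX X) E) (K : CochainComplex X.Modules ℤ) :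
    IsIso (((DCoh.tensorCxQ E).totalLeftDerivedCounit DerivedCategory.Q
      (HomologicalComplex.quasiIso X.Modules (ComplexShape.up ℤ))).app K) :=
  isIso_counit_of E (fun _ => True) (fun _ => trivial)
    (fun φ hφ _ _ => have : QuasiIso φ := hφ; hE.quasiIso_map₁ φ) K trivial

/-- `- ⊗^L E` after a functor into complexes on which it is computed termwise. -/
noncomputable def ltNatIso (E : CochainComplex X.Modules ℤ) [DCoh.HasLTensorCx E] {B : Type*} [Category* B]
    (S : B ⥤ CochainComplex X.Modules ℤ)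
    (hS : ∀ b, IsIso (((DCoh.tensorCxQ E).totalLeftDerivedCounit DerivedCategory.Q
      (HomologicalComplex.quasiIso X.Modules (ComplexShape.up ℤ))).app (S.obj b))) :
    S ⋙ DerivedCategory.Q ⋙ DCoh.LTensorCx E ≅ S ⋙ (tcx (TX X)).flip.obj E ⋙ DerivedCategory.Q :=
  NatIso.ofComponents (fun b => @asIso _ _ _ _ _ (hS b)) fun g =>
    ((DCoh.tensorCxQ E).totalLeftDerivedCounit DerivedCategory.Q
      (HomologicalComplex.quasiIso X.Modules (ComplexShape.up ℤ))).naturality (S.map g)

/-- Associativity as an isomorphism of functors on complexes. -/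
noncomputable def assocFunIso (K L : CochainComplex X.Modules ℤ) :
    (tcx (TX X)).flip.obj K ⋙ (tcx (TX X)).flip.obj L ≅
      (tcx (TX X)).flip.obj (((tcx (TX X)).obj K).obj L) :=
  NatIso.ofComponents (fun A => assocCx A K L) (fun f => assocCx_natural f K L)

/-- The composite computed after resolution. -/
noncomputable def ltCompResIso (K L : CochainComplex X.Modules ℤ) (hL : IsKFlat (TX X) L)
    [DCoh.HasLTensorCx K] [DCoh.HasLTensorCx L] :
    resFunctor (cover X) ⋙ DerivedCategory.Q ⋙ (DCoh.LTensorCx K ⋙ DCoh.LTensorCx L) ≅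
      resFunctor (cover X) ⋙ ((tcx (TX X)).flip.obj K ⋙ (tcx (TX X)).flip.obj L) ⋙ DerivedCategory.Q :=
  Functor.isoWhiskerLeft _ (Functor.associator DerivedCategory.Q (DCoh.LTensorCx K) (DCoh.LTensorCx L)).symm ≪≫
    (Functor.associator (resFunctor (cover X)) (DerivedCategory.Q ⋙ DCoh.LTensorCx K) (DCoh.LTensorCx L)).symm ≪≫
    Functor.isoWhiskerRight (ltNatIso K (resFunctor (cover X))
      (fun b => isIso_counit_kflat K _ (isAdapted_resObj b).1)) (DCoh.LTensorCx L) ≪≫
    Functor.associator (resFunctor (cover X)) ((tcx (TX X)).flip.obj K ⋙ DerivedCategory.Q) (DCoh.LTensorCx L) ≪≫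
    Functor.isoWhiskerLeft (resFunctor (cover X))
      (Functor.associator ((tcx (TX X)).flip.obj K) DerivedCategory.Q (DCoh.LTensorCx L)) ≪≫
    (Functor.associator (resFunctor (cover X)) ((tcx (TX X)).flip.obj K)
      (DerivedCategory.Q ⋙ DCoh.LTensorCx L)).symm ≪≫
    ltNatIso L (resFunctor (cover X) ⋙ (tcx (TX X)).flip.obj K)
      (fun b => isIso_counit_of_kflat_right L hL _) ≪≫
    Functor.associator (resFunctor (cover X)) ((tcx (TX X)).flip.obj K)
      ((tcx (TX X)).flip.obj L ⋙ DerivedCategory.Q) ≪≫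
    Functor.isoWhiskerLeft (resFunctor (cover X))
      (Functor.associator ((tcx (TX X)).flip.obj K) ((tcx (TX X)).flip.obj L) DerivedCategory.Q).symm

/-- A single derived tensor product computed after resolution. -/
noncomputable def ltResIso (E : CochainComplex X.Modules ℤ) [DCoh.HasLTensorCx E] :
    resFunctor (cover X) ⋙ DerivedCategory.Q ⋙ DCoh.LTensorCx E ≅
      resFunctor (cover X) ⋙ (tcx (TX X)).flip.obj E ⋙ DerivedCategory.Q :=
  ltNatIso E (resFunctor (cover X)) (fun b => isIso_counit_kflat E _ (isAdapted_resObj b).1)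

/-- Derived tensor products compose. -/
noncomputable def ltAssocIso (K L : CochainComplex X.Modules ℤ) (hL : IsKFlat (TX X) L)
    [DCoh.HasLTensorCx K] [DCoh.HasLTensorCx L] [DCoh.HasLTensorCx (((tcx (TX X)).obj K).obj L)] :
    DCoh.LTensorCx K ⋙ DCoh.LTensorCx L ≅ DCoh.LTensorCx (((tcx (TX X)).obj K).obj L) :=
  isoOfResIso (cover X)
    (ltCompResIso K L hL ≪≫
      Functor.isoWhiskerLeft (resFunctor (cover X))
        (Functor.isoWhiskerRight (assocFunIso K L) DerivedCategory.Q) ≪≫
      (ltResIso _).symm)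

/-- `RHom(K ⊗ L, -) ≅ RHom(K, RHom(L, -))`. -/
noncomputable def rhomAssocIso (K L : CochainComplex X.Modules ℤ) (hL : IsKFlat (TX X) L)
    [DCoh.HasLTensorCx K] [DCoh.HasRSheafHom K] [DCoh.HasLTensorCx L] [DCoh.HasRSheafHom L]
    [DCoh.HasLTensorCx (((tcx (TX X)).obj K).obj L)] [DCoh.HasRSheafHom (((tcx (TX X)).obj K).obj L)] :
    DCoh.RSheafHom (((tcx (TX X)).obj K).obj L) ≅ DCoh.RSheafHom L ⋙ DCoh.RSheafHom K :=
  (DCoh.RSheafHomAdj _).rightAdjointUniq
    (((DCoh.RSheafHomAdj K).comp (DCoh.RSheafHomAdj L)).ofNatIsoLeft (ltAssocIso K L hL))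

end Groth.Agent.RHom
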