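import Groth.Agent.Lib.RHom.Proj
import Groth.Agent.Lib.RHom.Adj

/-! Internal hom commutes with restriction to opens. -/

set_option autoImplicit false
set_option linter.unusedSectionVars false
set_option linter.style.haveILetI false
set_option backward.isDefEq.respectTransparency false
set_option backward.isDefEq.respectTransparency.types false

universe u

open CategoryTheory CategoryTheory.Limits AlgebraicGeometry

attribute [local instance] HasDerivedCategory.standard

namespace Groth.Agent.RHom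

open KFlat KFlat.Sch

variable {X : Scheme.{u}} (V : X.Opens)

/-- `j_!` on complexes. -/
noncomputable abbrev jCx : CochainComplex (V : Scheme.{u}).Modules ℤ ⥤ CochainComplex X.Modules ℤ :=
  (CxOX.extZero V.ι).mapHomologicalComplex (ComplexShape.up ℤ)

instance preservesColimits_extZero : PreservesColimitsOfSize.{0, 0} (CxOX.extZero V.ι) :=
  (CxOX.extZeroAdj V.ι).leftAdjoint_preservesColimits

/-- The projection formula for complexes. -/
noncomputable def projCxIso (A : CochainComplex (V : Scheme.{u}).Modules ℤ) (E : CochainComplex X.Modules ℤ) :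
    (jCx V).obj (((tcx (TX (V : Scheme.{u}))).obj A).obj ((DCoh.restrictCx V).obj E)) ≅
      ((tcx (TX X)).obj ((jCx V).obj A)).obj E :=
  transferIso (TX (V : Scheme.{u})) (TX X) (𝟭 _) (Scheme.Modules.restrictFunctor V.ι) (CxOX.extZero V.ι) (𝟭 _)
    (CxOX.extZero V.ι) (natural_projIso V) A E

theorem projCxIso_natural {A A' : CochainComplex (V : Scheme.{u}).Modules ℤ} (f : A ⟶ A')
    (E : CochainComplex X.Modules ℤ) :
    (jCx V).map (((tcx (TX (V : Scheme.{u}))).map f).app ((DCoh.restrictCx V).obj E)) ≫ (projCxIso V A' E).hom =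
      (projCxIso V A E).hom ≫ ((tcx (TX X)).map ((jCx V).map f)).app E := by
  have := transferIso_naturality (TX (V : Scheme.{u})) (TX X) (𝟭 _) (Scheme.Modules.restrictFunctor V.ι)
    (CxOX.extZero V.ι) (𝟭 _) (CxOX.extZero V.ι) (natural_projIso V) f (𝟙 E)
  simp only [CategoryTheory.Functor.map_id] at this
  exact this

theorem isKFlat_jCx {A : CochainComplex (V : Scheme.{u}).Modules ℤ} (hA : IsKFlat (TX (V : Scheme.{u})) A) :
    IsKFlat (TX X) ((jCx V).obj A) := by
  refine (isKFlat_flip_iff' _).1 ((isKFlat_flip_iff _).2 fun M hM => ?_)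
  have h1 : (((tcx (TX (V : Scheme.{u}))).obj A).obj ((DCoh.restrictCx V).obj M)).Acyclic :=
    (isKFlat_flip_iff _).1 ((isKFlat_flip_iff' _).2 hA) _ (fun i =>
      ShortComplex.Exact.map (hM i) (Scheme.Modules.restrictFunctor V.ι))
  have h2 : ((jCx V).obj (((tcx (TX (V : Scheme.{u}))).obj A).obj ((DCoh.restrictCx V).obj M))).Acyclic :=
    fun i => ShortComplex.Exact.map (h1 i) (CxOX.extZero V.ι)
  exact acyclic_of_iso h2 (projCxIso V A M)

/-- Tensor with the restriction, then extend by zero, computed after resolution. -/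
noncomputable def leftResIso (E : CochainComplex X.Modules ℤ) [DCoh.HasLTensorCx ((DCoh.restrictCx V).obj E)] :
    resFunctor (cover (V : Scheme.{u})) ⋙ DerivedCategory.Q ⋙
        (DCoh.LTensorCx ((DCoh.restrictCx V).obj E) ⋙ CxOX.extZeroD V.ι) ≅
      resFunctor (cover (V : Scheme.{u})) ⋙
        ((tcx (TX (V : Scheme.{u}))).flip.obj ((DCoh.restrictCx V).obj E) ⋙ jCx V) ⋙ DerivedCategory.Q :=
  Functor.isoWhiskerLeft _ (Functor.associator _ _ _).symm ≪≫
    (Functor.associator _ _ _).symm ≪≫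
    Functor.isoWhiskerRight (ltResIso ((DCoh.restrictCx V).obj E)) (CxOX.extZeroD V.ι) ≪≫
    Functor.associator _ _ _ ≪≫
    Functor.isoWhiskerLeft _ (Functor.associator _ _ _ ≪≫
      Functor.isoWhiskerLeft _ (CxOX.extZero V.ι).mapDerivedCategoryFactors ≪≫ (Functor.associator _ _ _).symm)

/-- Extend by zero, then tensor, computed after resolution. -/
noncomputable def rightResIso (E : CochainComplex X.Modules ℤ) [DCoh.HasLTensorCx E] :
    resFunctor (cover (V : Scheme.{u})) ⋙ DerivedCategory.Q ⋙ (CxOX.extZeroD V.ι ⋙ DCoh.LTensorCx E) ≅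
      resFunctor (cover (V : Scheme.{u})) ⋙ (jCx V ⋙ (tcx (TX X)).flip.obj E) ⋙ DerivedCategory.Q :=
  Functor.isoWhiskerLeft _ ((Functor.associator _ _ _).symm ≪≫
      Functor.isoWhiskerRight (CxOX.extZero V.ι).mapDerivedCategoryFactors _ ≪≫ Functor.associator _ _ _) ≪≫
    (Functor.associator _ _ _).symm ≪≫
    ltNatIso E (resFunctor (cover (V : Scheme.{u})) ⋙ jCx V)
      (fun b => isIso_counit_kflat E _ (isKFlat_jCx V (isAdapted_resObj b).1)) ≪≫
    Functor.associator _ _ _ ≪≫
    Functor.isoWhiskerLeft _ (Functor.associator _ _ _).symm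

/-- The projection formula on complexes, as functors. -/
noncomputable def projFunIso (E : CochainComplex X.Modules ℤ) :
    (tcx (TX (V : Scheme.{u}))).flip.obj ((DCoh.restrictCx V).obj E) ⋙ jCx V ≅
      jCx V ⋙ (tcx (TX X)).flip.obj E :=
  NatIso.ofComponents (fun A => projCxIso V A E) (fun f => projCxIso_natural V f E)

/-- `j_!(A ⊗^L E|_V) ≅ j_!A ⊗^L E`. -/
noncomputable def projD (E : CochainComplex X.Modules ℤ) [DCoh.HasLTensorCx E]
    [DCoh.HasLTensorCx ((DCoh.restrictCx V).obj E)] :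
    DCoh.LTensorCx ((DCoh.restrictCx V).obj E) ⋙ CxOX.extZeroD V.ι ≅
      CxOX.extZeroD V.ι ⋙ DCoh.LTensorCx E :=
  isoOfResIso (cover (V : Scheme.{u}))
    (leftResIso V E ≪≫ Functor.isoWhiskerLeft _ (Functor.isoWhiskerRight (projFunIso V E) DerivedCategory.Q) ≪≫
      (rightResIso V E).symm)

/-- `RHom(K, -)|_V ≅ RHom(K|_V, -|_V)`. -/
noncomputable def restrictRHomIso (K : CochainComplex X.Modules ℤ) [DCoh.HasLTensorCx K] [DCoh.HasRSheafHom K]
    [DCoh.HasLTensorCx ((DCoh.restrictCx V).obj K)] [DCoh.HasRSheafHom ((DCoh.restrictCx V).obj K)] :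
    DCoh.RSheafHom K ⋙ DCoh.restrictD V.ι ≅
      DCoh.restrictD V.ι ⋙ DCoh.RSheafHom ((DCoh.restrictCx V).obj K) :=
  ((DMV.adjD (CxOX.extZeroAdj V.ι)).comp (DCoh.RSheafHomAdj K)).rightAdjointUniq
    (((DCoh.RSheafHomAdj ((DCoh.restrictCx V).obj K)).comp (DMV.adjD (CxOX.extZeroAdj V.ι))).ofNatIsoLeft
      (projD V K))

end Groth.Agent.RHom
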