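import Groth.Agent.Lib.RHom.Five
import Groth.Agent.Lib.RHom.Devissage
import Groth.Agent.Lib.RHom.Restrict
import Groth.Agent.Lib.RHom.Support
import Groth.Agent.Lib.DPerf.Free
import Groth.Agent.Lib.DPush.CoprodHom

/-! Internal hom out of a perfect object preserves coproducts. -/

set_option autoImplicit false
set_option linter.unusedSectionVars false
set_option linter.style.haveILetI false
set_option backward.isDefEq.respectTransparency false
set_option backward.isDefEq.respectTransparency.types false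

universe u v₁ u₁

open CategoryTheory CategoryTheory.Limits CategoryTheory.Pretriangulated AlgebraicGeometry

attribute [local instance] HasDerivedCategory.standard

namespace Groth.Agent.RHom

section Middle

variable {𝒞 : Type*} [Category* 𝒞] {𝒜 : Type u₁} [Category.{v₁} 𝒜] [Abelian 𝒜] {J : Type*} [Category* J]
  [HasColimitsOfShape J 𝒜] [HasExactColimitsOfShape J 𝒜]
  {A B C D E : 𝒞 ⥤ 𝒜} (f : A ⟶ B) (g : B ⟶ C) (h : C ⟶ D) (k : D ⟶ E)

theorem exact_colimMap {K : J ⥤ 𝒞} (w : f ≫ g = 0)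
    (e : ∀ Z, (ShortComplex.mk (f.app Z) (g.app Z) (by rw [← NatTrans.comp_app, w, NatTrans.app_zero])).Exact) :
    (ShortComplex.mk (colimMap (Functor.whiskerLeft K f)) (colimMap (Functor.whiskerLeft K g)) (by
      refine colimit.hom_ext fun j => ?_
      rw [ι_colimMap_assoc, ι_colimMap, ← Category.assoc, Functor.whiskerLeft_app, Functor.whiskerLeft_app,
        ← NatTrans.comp_app, w, NatTrans.app_zero, zero_comp, comp_zero])).Exact := by
  let S : ShortComplex (J ⥤ 𝒜) := ShortComplex.mk (Functor.whiskerLeft K f) (Functor.whiskerLeft K g)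
    (by ext j; exact (NatTrans.comp_app f g (K.obj j)).symm.trans (by rw [w, NatTrans.app_zero, NatTrans.app_zero]))
  have hS : S.Exact := by
    rw [ShortComplex.exact_iff_isZero_homology]
    exact Functor.isZero _ fun j => ((ShortComplex.exact_iff_isZero_homology _).1
      (e (K.obj j) : (S.map ((evaluation J 𝒜).obj j)).Exact)).of_iso (S.mapHomologyIso ((evaluation J 𝒜).obj j)).symm
  exact hS.map (colim : (J ⥤ 𝒜) ⥤ 𝒜)

/-- A functor in the middle of an exact five-term sequence of functors preserves colimits if the others do. -/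
theorem preservesColimit_middle (K : J ⥤ 𝒞) [PreservesColimit K A] [PreservesColimit K B]
    [PreservesColimit K D] [PreservesColimit K E]
    (w₁ : f ≫ g = 0) (w₂ : g ≫ h = 0) (w₃ : h ≫ k = 0)
    (e₁ : ∀ Z, (ShortComplex.mk (f.app Z) (g.app Z) (by rw [← NatTrans.comp_app, w₁, NatTrans.app_zero])).Exact)
    (e₂ : ∀ Z, (ShortComplex.mk (g.app Z) (h.app Z) (by rw [← NatTrans.comp_app, w₂, NatTrans.app_zero])).Exact)
    (e₃ : ∀ Z, (ShortComplex.mk (h.app Z) (k.app Z) (by rw [← NatTrans.comp_app, w₃, NatTrans.app_zero])).Exact) :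
    PreservesColimit K C := by
  constructor
  intro c hc
  have nat : ∀ {F G : 𝒞 ⥤ 𝒜} (α : F ⟶ G), colimMap (Functor.whiskerLeft K α) ≫ colimit.desc _ (G.mapCocone c) =
      colimit.desc _ (F.mapCocone c) ≫ α.app c.pt := fun α => colimit.hom_ext fun j => by
    rw [ι_colimMap_assoc, colimit.ι_desc, colimit.ι_desc_assoc]
    exact (α.naturality (c.ι.app j)).symm
  have iso : ∀ (F : 𝒞 ⥤ 𝒜) [PreservesColimit K F], IsIso (colimit.desc (K ⋙ F) (F.mapCocone c)) := fun F _ =>
    ((colimit.isColimit (K ⋙ F)).coconePointUniqueUpToIso (isColimitOfPreserves F hc)).isIso_hom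
  have hC : IsIso (colimit.desc (K ⋙ C) (C.mapCocone c)) :=
    five_isIso (exact_colimMap f g w₁ e₁) (exact_colimMap g h w₂ e₂) (exact_colimMap h k w₃ e₃)
      (e₁ c.pt) (e₂ c.pt) (e₃ c.pt) (nat f) (nat g) (nat h) (nat k) (iso A) (iso B) (iso D) (iso E)
  exact ⟨(colimit.isColimit (K ⋙ C)).ofIsoColimit
    (Cocone.ext (@asIso _ _ _ _ (colimit.desc (K ⋙ C) (C.mapCocone c)) hC) fun j => colimit.ι_desc _ j)⟩

end Middle

variable {X : Scheme.{u}} (ι : Type u)

/-- `H^j(RHom(Z, -))` preserves coproducts, for every representative of `Z`. -/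
def Cop₀ (Z : DCoh.D X) : Prop :=
  ∀ E : CochainComplex X.Modules ℤ, Nonempty (DerivedCategory.Q.obj E ≅ Z) → ∀ j : ℤ,
    PreservesColimitsOfShape (Discrete ι) (DCoh.RSheafHom E ⋙ DerivedCategory.homologyFunctor X.Modules j)

/-- `Cop₀` for all shifts. -/
def Cop (Z : DCoh.D X) : Prop := ∀ n : ℤ, Cop₀ ι (Z⟦n⟧)

variable {ι}

theorem Cop₀.iso {Z Z' : DCoh.D X} (e : Z ≅ Z') (h : Cop₀ ι Z) : Cop₀ ι Z' :=
  fun E ⟨eE⟩ => h E ⟨eE ≪≫ e.symm⟩

theorem Cop.iso {Z Z' : DCoh.D X} (e : Z ≅ Z') (h : Cop ι Z) : Cop ι Z' :=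
  fun n => (h n).iso ((shiftFunctor (DCoh.D X) n).mapIso e)

theorem Cop.cop₀ {Z : DCoh.D X} (h : Cop ι Z) : Cop₀ ι Z :=
  (h 0).iso ((shiftFunctorZero (DCoh.D X) ℤ).app Z)

theorem Cop.shift {Z : DCoh.D X} (h : Cop ι Z) (m : ℤ) : Cop ι (Z⟦m⟧) :=
  fun n => (h (m + n)).iso ((shiftFunctorAdd (DCoh.D X) m n).app Z)

theorem cop₀_obj₃ (T : Triangle (DCoh.D X)) (hT : T ∈ distTriang _)
    (h₁ : Cop ι T.obj₁) (h₂ : Cop ι T.obj₂) : Cop₀ ι T.obj₃ := by
  obtain ⟨K, L, f, ⟨e⟩⟩ := (DerivedCategory.mem_distTriang_iff T).1 hT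
  intro E ⟨eE⟩ j
  let e₁ : DerivedCategory.Q.obj K ≅ T.obj₁ := (Triangle.π₁.mapIso e).symm
  let e₂ : DerivedCategory.Q.obj L ≅ T.obj₂ := (Triangle.π₂.mapIso e).symm
  let g := CochainComplex.mappingCone.inr f
  let h := CochainComplex.mappingCone.inr g
  let k := CochainComplex.mappingCone.inr h
  obtain ⟨eM⟩ := nonempty_cone_inr_iso f
  obtain ⟨eN⟩ := nonempty_cone_inr_iso g
  obtain ⟨r⟩ := nonempty_rhomIso (eE ≪≫ Triangle.π₃.mapIso e :
    DerivedCategory.Q.obj E ≅ DerivedCategory.Q.obj (CochainComplex.mappingCone f))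
  let H := DerivedCategory.homologyFunctor X.Modules j
  haveI := (h₂.shift 1).cop₀ _ ⟨eN ≪≫ (shiftFunctor (DCoh.D X) (1 : ℤ)).mapIso e₂⟩ j
  haveI := (h₁.shift 1).cop₀ _ ⟨eM ≪≫ (shiftFunctor (DCoh.D X) (1 : ℤ)).mapIso e₁⟩ j
  haveI := h₂.cop₀ _ ⟨e₂⟩ j
  haveI := h₁.cop₀ _ ⟨e₁⟩ j
  have w : ∀ {P Q : CochainComplex X.Modules ℤ} (φ : P ⟶ Q),
      Functor.whiskerRight (rhomMap (CochainComplex.mappingCone.inr φ)) H ≫ Functor.whiskerRight (rhomMap φ) H = 0 :=
    fun φ => by
      ext Y : 2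
      exact (H.map_comp _ _).symm.trans ((congrArg H.map (rhomMap_inr_comp φ Y)).trans (H.map_zero _ _))
  suffices PreservesColimitsOfShape (Discrete ι) (DCoh.RSheafHom (CochainComplex.mappingCone f) ⋙ H) from
    preservesColimitsOfShape_of_natIso (Functor.isoWhiskerRight r H).symm
  exact ⟨fun {F} => preservesColimit_middle (Functor.whiskerRight (rhomMap k) H) (Functor.whiskerRight (rhomMap h) H)
    (Functor.whiskerRight (rhomMap g) H) (Functor.whiskerRight (rhomMap f) H) F (w h) (w g) (w f)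
    (fun Y => exact_homology_of_homExact _ _ (rhomMap_inr_comp h Y) (fun t ht => rhom_exact_cone h t ht) j)
    (fun Y => exact_homology_of_homExact _ _ (rhomMap_inr_comp g Y) (fun t ht => rhom_exact_cone g t ht) j)
    (fun Y => exact_homology_of_homExact _ _ (rhomMap_inr_comp f Y) (fun t ht => rhom_exact_cone f t ht) j)⟩

theorem cop_obj₃ (T : Triangle (DCoh.D X)) (hT : T ∈ distTriang _)
    (h₁ : Cop ι T.obj₁) (h₂ : Cop ι T.obj₂) : Cop ι T.obj₃ := fun n =>
  cop₀_obj₃ _ (Triangle.shift_distinguished T hT n) (h₁.shift n) (h₂.shift n)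

theorem cop_obj₂ (T : Triangle (DCoh.D X)) (hT : T ∈ distTriang _)
    (h₁ : Cop ι T.obj₁) (h₃ : Cop ι T.obj₃) : Cop ι T.obj₂ :=
  cop_obj₃ T.invRotate (inv_rot_of_distTriang _ hT) (h₃.shift (-1)) h₁

theorem cop_zero (Z₀ : DCoh.D X) (h₀ : Cop ι Z₀) {Z : DCoh.D X} (hZ : IsZero Z) : Cop ι Z :=
  (cop_obj₃ _ (contractible_distinguished Z₀) h₀ h₀).iso ((isZero_zero _).iso hZ)

theorem cop_singleOne (a : ℤ) :
    Cop ι ((DerivedCategory.singleFunctor X.Modules a).obj (Coh.structureModule X)) := by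
  intro n E ⟨eE⟩ j
  let b : ℤ := a - n
  obtain ⟨r⟩ := nonempty_rhomIso (eE ≪≫
    ((DerivedCategory.singleFunctors X.Modules).shiftIso n b a (by omega)).app (Coh.structureModule X) :
    DerivedCategory.Q.obj E ≅ DerivedCategory.Q.obj (sg b (Coh.structureModule X)))
  haveI : PreservesColimitsOfShape (Discrete ι) ((DerivedCategory.homologyFunctor X.Modules 0).shift (b + j)) :=
    inferInstanceAs (PreservesColimitsOfShape (Discrete ι) (DerivedCategory.homologyFunctor X.Modules (b + j)))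
  exact preservesColimitsOfShape_of_natIso
    (Functor.isoWhiskerRight (r ≪≫ rhomSingleIso b) (DerivedCategory.homologyFunctor X.Modules j) ≪≫
      (DerivedCategory.homologyFunctor X.Modules 0).shiftIso b j (b + j) rfl).symm

theorem cop_freeMod (a : ℤ) : ∀ m : ℕ,
    Cop ι ((DerivedCategory.singleFunctor X.Modules a).obj (FlatMod.freeMod X m)) := by
  haveI : HasFiniteBiproducts X.Modules := Abelian.hasFiniteBiproducts
  intro m
  induction m with
  | zero =>
    exact cop_zero _ (cop_singleOne a) ((DerivedCategory.singleFunctor X.Modules a).map_isZero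
      (DPerf.isZero_freeMod_zero X))
  | succ m ih =>
    have hs := (ShortComplex.Splitting.ofHasBinaryBiproduct (FlatMod.freeMod X m) (Coh.structureModule X)).shortExact
    haveI : (CochainComplex.singleFunctor X.Modules a).Additive := inferInstance
    exact (cop_obj₂ _ (DerivedCategory.triangleOfSES_distinguished
      (hs.map_of_exact (HomologicalComplex.single X.Modules (ComplexShape.up ℤ) a))) ih
        (cop_singleOne a)).iso ((DerivedCategory.singleFunctor X.Modules a).mapIso (freeSuccIso m))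

theorem cop_of_free (E : CochainComplex X.Modules ℤ) (a b : ℤ)
    (hv : DCoh.VanishesOutside E a b) (hf : ∀ i, IsFree (E.X i)) : Cop ι (DerivedCategory.Q.obj E) := by
  haveI : E.IsStrictlyLE b := (CochainComplex.isStrictlyLE_iff E b).2 fun i hi => hv i (Or.inr hi)
  haveI : E.IsStrictlyGE (b + 1 - ((b + 1 - a).toNat : ℤ)) :=
    (CochainComplex.isStrictlyGE_iff E _).2 fun i hi => hv i (by omega)
  exact bounded_induction (fun L => Cop ι (DerivedCategory.Q.obj L))
    (fun L hL => cop_zero _ (cop_singleOne 0) (DerivedCategory.Q.map_isZero hL))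
    (fun S hSp h₁ h₃ => cop_obj₂ _
      (DerivedCategory.triangleOfSES_distinguished (HomologicalComplex.shortExact_of_degreewise_shortExact S
        fun i => (hSp i).some.shortExact)) h₁ h₃)
    IsFree (fun F hF => ⟨0, ⟨hF.iso (DPerf.isZero_freeMod_zero X)⟩⟩) (fun e ⟨m, ⟨e'⟩⟩ => ⟨m, ⟨e.symm ≪≫ e'⟩⟩)
    (fun c F ⟨m, ⟨e⟩⟩ => (cop_freeMod c m).iso ((DerivedCategory.singleFunctor X.Modules c).mapIso e.symm))
    b (b + 1 - a).toNat E hf

/-- `RHom(P, -)` preserves coproducts for bounded complexes of free modules. -/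
theorem preservesCoproducts_rhom_free (P : CochainComplex X.Modules ℤ) (a b : ℤ)
    (hv : DCoh.VanishesOutside P a b) (hf : ∀ i, IsFree (P.X i)) :
    PreservesColimitsOfShape (Discrete ι) (DCoh.RSheafHom P) := by
  refine ⟨fun {F} => ⟨fun {c} hc => ?_⟩⟩
  haveI : HasColimitsOfShape (Discrete ι) (DCoh.D X) := by
    haveI : HasCoproducts.{u} (DCoh.D X) := KInjLib.hasCoproducts_derivedCategory
    infer_instance
  haveI : IsIso (colimit.desc (F ⋙ DCoh.RSheafHom P) ((DCoh.RSheafHom P).mapCocone c)) :=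
    isIso_of_isIso_homology _ fun j => by
      let H := DerivedCategory.homologyFunctor X.Modules j
      haveI := (cop_of_free (ι := ι) P a b hv hf).cop₀ P ⟨Iso.refl _⟩ j
      let i₁ := isColimitOfPreserves H (colimit.isColimit (F ⋙ DCoh.RSheafHom P))
      let i₂ := isColimitOfPreserves (DCoh.RSheafHom P ⋙ H) hc
      have : H.map (colimit.desc (F ⋙ DCoh.RSheafHom P) ((DCoh.RSheafHom P).mapCocone c)) =
          (i₁.coconePointUniqueUpToIso i₂).hom := i₁.hom_ext fun x => by
        refine Eq.trans ?_ (i₁.comp_coconePointUniqueUpToIso_hom i₂ x).symm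
        exact (H.map_comp _ _).symm.trans (congrArg H.map (colimit.ι_desc _ x))
      rw [this]
      infer_instance
  exact ⟨(colimit.isColimit _).ofIsoColimit (Cocone.ext (asIso (colimit.desc _ ((DCoh.RSheafHom P).mapCocone c)))
    fun x => colimit.ι_desc _ x)⟩

/-- Restriction to an open preserves coproducts in the derived category. -/
theorem preservesCoproducts_resD (V : X.Opens) : PreservesColimitsOfShape (Discrete ι) (DPerf.resD V.ι) := by
  haveI : PreservesColimitsOfShape (Discrete ι) (DPerf.resX V.ι) :=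
    (KInjLib.adjComplexes (Scheme.Modules.restrictAdjunction V.ι)
      (ComplexShape.up ℤ)).leftAdjoint_preservesColimits.preservesColimitsOfShape
  exact preservesCoproducts_of_adapted (fun Z => preservesColimit_of_preserves_colimit_cocone (coproductIsCoproduct Z)
      ((Cofan.isColimitMapCoconeEquiv _ _ _).symm (KInjLib.isColimitSigma Z)))
    (DPerf.resD V.ι) (fun _ => True) (fun K => ⟨K, 𝟙 K, trivial, inferInstance⟩) (fun _ _ => trivial)
    (DPerf.resFac V.ι).hom (fun K _ => inferInstance)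

/-- `RHom(K, -)` preserves coproducts for perfect `K`. -/
theorem preservesCoproducts_rhom (K : CochainComplex X.Modules ℤ) [DCoh.HasLTensorCx K] [DCoh.HasRSheafHom K]
    (hK : DCoh.IsPerfect (DCoh.toD X K)) : PreservesColimitsOfShape (Discrete ι) (DCoh.RSheafHom K) := by
  refine ⟨fun {F} => ⟨fun {c} hc => ?_⟩⟩
  haveI : HasColimitsOfShape (Discrete ι) (DCoh.D X) := by
    haveI : HasCoproducts.{u} (DCoh.D X) := KInjLib.hasCoproducts_derivedCategory
    infer_instance
  haveI : IsIso (colimit.desc (F ⋙ DCoh.RSheafHom K) ((DCoh.RSheafHom K).mapCocone c)) := by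
    refine isIso_of_cover _ fun x => ?_
    obtain ⟨V, hxV, hV⟩ := (DPerf.isPerfect_iff_free _).1 hK x
    obtain ⟨P, a, b, hv, hf, ⟨e⟩⟩ := hV K ⟨Iso.refl _⟩
    refine ⟨V, hxV, ?_⟩
    obtain ⟨r⟩ := nonempty_rhomIso e
    let G := DPerf.resD V.ι
    haveI := preservesCoproducts_rhom_free (ι := ι) P a b hv hf
    haveI : PreservesColimitsOfShape (Discrete ι) G :=
      preservesCoproducts_resD V
    haveI : PreservesColimitsOfShape (Discrete ι) (DCoh.RSheafHom K ⋙ G) :=
      preservesColimitsOfShape_of_natIso (restrictRHomIso V K ≪≫ Functor.isoWhiskerLeft _ r).symm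
    let i₁ := isColimitOfPreserves G (colimit.isColimit (F ⋙ DCoh.RSheafHom K))
    let i₂ := isColimitOfPreserves (DCoh.RSheafHom K ⋙ G) hc
    have : G.map (colimit.desc (F ⋙ DCoh.RSheafHom K) ((DCoh.RSheafHom K).mapCocone c)) =
        (i₁.coconePointUniqueUpToIso i₂).hom := i₁.hom_ext fun y => by
      refine Eq.trans ?_ (i₁.comp_coconePointUniqueUpToIso_hom i₂ y).symm
      exact (G.map_comp _ _).symm.trans (congrArg G.map (colimit.ι_desc _ y))
    rw [this]
    infer_instance
  exact ⟨(colimit.isColimit _).ofIsoColimit (Cocone.ext (asIso (colimit.desc _ ((DCoh.RSheafHom K).mapCocone c)))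
    fun x => colimit.ι_desc _ x)⟩

end Groth.Agent.RHom
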