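import Groth.Agent.Lib.DMV.Seq
import Groth.Agent.Lib.RHom.Assoc
import Groth.Agent.Lib.TensorMod.Restrict
import Groth.Agent.Lib.ModFlat16.RestrTensor

/-! The projection formula for `j_!` on an open subscheme. -/

set_option autoImplicit false
set_option linter.unusedSectionVars false
set_option linter.style.haveILetI false
set_option backward.isDefEq.respectTransparency false
set_option backward.isDefEq.respectTransparency.types false

universe u

open CategoryTheory CategoryTheory.Limits AlgebraicGeometry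

namespace Groth.Agent.RHom

open KFlat KFlat.Sch

variable {X : Scheme.{u}}

theorem toRestrict_natural {Y : Scheme.{u}} (j : Y ⟶ X) [IsOpenImmersion j] {M M' N N' : X.Modules}
    (a : M ⟶ M') (b : N ⟶ N') :
    M2.toRestrict j M N ≫ (Scheme.Modules.restrictFunctor j).map (M2.tensorMap a b) =
      M2.tensorMap ((Scheme.Modules.restrictFunctor j).map a) ((Scheme.Modules.restrictFunctor j).map b) ≫
        M2.toRestrict j M' N' := by
  refine M2.tensorMod_hom_ext fun W s t => ?_
  simp only [Scheme.Modules.Hom.comp_app]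
  change ((Scheme.Modules.restrictFunctor j).map (M2.tensorMap a b)).app W
      ((M2.toRestrict j M N).app W (M2.tsec _ _ s t)) =
    (M2.toRestrict j M' N').app W ((M2.tensorMap _ _).app W (M2.tsec _ _ s t))
  rw [M2.tensorMap_tsec, M2.toRestrict, M2.mkHom_tsec, M2.toRestrict, M2.mkHom_tsec]
  exact M2.tensorMap_tsec a b (U := j ''ᵁ W) s t

/-- Restriction of tensor products, natural in both variables. -/
theorem restrictTensorIso_natural {Y : Scheme.{u}} (j : Y ⟶ X) [IsOpenImmersion j] {M M' N N' : X.Modules}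
    (a : M ⟶ M') (b : N ⟶ N') :
    (Scheme.Modules.restrictFunctor j).map (M2.tensorMap a b) ≫ (M2.restrictTensorIso j M' N').hom =
      (M2.restrictTensorIso j M N).hom ≫
        M2.tensorMap ((Scheme.Modules.restrictFunctor j).map a) ((Scheme.Modules.restrictFunctor j).map b) := by
  rw [← cancel_epi (M2.restrictTensorIso j M N).inv, Iso.inv_hom_id_assoc, ← Category.assoc]
  exact (congrArg (· ≫ (M2.restrictTensorIso j M' N').hom) (toRestrict_natural j a b)).trans
    ((Category.assoc _ _ _).trans ((congrArg (_ ≫ ·) (M2.restrictTensorIso j M' N').inv_hom_id).trans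
      (Category.comp_id _)))

variable (V : X.Opens)

theorem faithful_extZero : (CxOX.extZero V.ι).Faithful := by
  haveI := ModFlat16.faithful_extZero X.sheaf V
  exact Functor.Faithful.of_iso (CxOX.extZeroIsoSite V).symm

theorem isIso_ε_jExt (P : (V : Scheme.{u}).Modules) :
    IsIso ((CxOX.extZeroAdj V.ι).counit.app ((CxOX.extZero V.ι).obj P)) :=
  haveI := DMV.mono_counit V ((CxOX.extZero V.ι).obj P)
  haveI : IsSplitEpi ((CxOX.extZeroAdj V.ι).counit.app ((CxOX.extZero V.ι).obj P)) :=
    ⟨⟨⟨_, (CxOX.extZeroAdj V.ι).left_triangle_components P⟩⟩⟩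
  isIso_of_mono_of_epi _

instance isIso_unit_extZero (P : (V : Scheme.{u}).Modules) :
    IsIso ((CxOX.extZeroAdj V.ι).unit.app P) := by
  haveI := faithful_extZero V
  haveI := isIso_ε_jExt V P
  haveI : IsIso ((CxOX.extZero V.ι).map ((CxOX.extZeroAdj V.ι).unit.app P)) := by
    haveI : IsIso ((CxOX.extZero V.ι).map ((CxOX.extZeroAdj V.ι).unit.app P) ≫
        (CxOX.extZeroAdj V.ι).counit.app ((CxOX.extZero V.ι).obj P)) := by
      rw [(CxOX.extZeroAdj V.ι).left_triangle_components P]
      infer_instance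
    exact IsIso.of_isIso_comp_right _ ((CxOX.extZeroAdj V.ι).counit.app ((CxOX.extZero V.ι).obj P))
  haveI : (CxOX.extZero V.ι).ReflectsIsomorphisms := inferInstance
  exact isIso_of_reflects_iso _ (CxOX.extZero V.ι)

theorem isIso_ε_of_iso (M : X.Modules) (P : (V : Scheme.{u}).Modules) (e : M ≅ (CxOX.extZero V.ι).obj P) :
    IsIso ((CxOX.extZeroAdj V.ι).counit.app M) := by
  haveI := isIso_ε_jExt V P
  rw [NatTrans.isIso_app_iff_of_iso (CxOX.extZeroAdj V.ι).counit e]
  infer_instance

/-- The comparison `j_!(P ⊗ N|_V) ⟶ j_!P ⊗ N`. -/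
noncomputable def projHom (P : (V : Scheme.{u}).Modules) (N : X.Modules) :
    (CxOX.extZero V.ι).obj (((TX (V : Scheme.{u})).obj P).obj ((Scheme.Modules.restrictFunctor V.ι).obj N)) ⟶
      ((TX X).obj ((CxOX.extZero V.ι).obj P)).obj N :=
  (CxOX.extZero V.ι).map (M2.tensorMap ((CxOX.extZeroAdj V.ι).unit.app P) (𝟙 _) ≫
    (M2.restrictTensorIso V.ι ((CxOX.extZero V.ι).obj P) N).inv) ≫
    (CxOX.extZeroAdj V.ι).counit.app (CohB1.tensorMod ((CxOX.extZero V.ι).obj P) N)

theorem isIso_projHom (P : (V : Scheme.{u}).Modules) (N : X.Modules) : IsIso (projHom V P N) := by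
  let E := Scheme.Modules.overEquiv V
  let P' := E.inverse.obj P
  let e₁ : (CxOX.extZero V.ι).obj P ≅ (ModSite.extZero X.sheaf V).obj P' := (CxOX.extZeroIsoSite V).app P
  let Z := ((KFlat.Site.TS (X.sheaf.over V)).obj P').obj ((ModSite.restr X.sheaf V).obj N)
  let e : CohB1.tensorMod ((CxOX.extZero V.ι).obj P) N ≅ (CxOX.extZero V.ι).obj (E.functor.obj Z) :=
    M2.tensorIso e₁ (Iso.refl N) ≪≫ (ModFlat16.projη X.sheaf V P' N).symm ≪≫
      (ModSite.extZero X.sheaf V).mapIso (E.unitIso.app Z) ≪≫ ((CxOX.extZeroIsoSite V).app _).symm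
  haveI := isIso_ε_of_iso V _ _ e
  haveI : IsIso (M2.tensorMap ((CxOX.extZeroAdj V.ι).unit.app P)
      (𝟙 ((Scheme.Modules.restrictFunctor V.ι).obj N))) :=
    (M2.tensorIso (asIso ((CxOX.extZeroAdj V.ι).unit.app P)) (Iso.refl _)).isIso_hom
  unfold projHom
  infer_instance

theorem projHom_natural {P P' : (V : Scheme.{u}).Modules} (f : P ⟶ P') {N N' : X.Modules} (g : N ⟶ N') :
    (CxOX.extZero V.ι).map (M2.tensorMap f ((Scheme.Modules.restrictFunctor V.ι).map g)) ≫ projHom V P' N' =
      projHom V P N ≫ M2.tensorMap ((CxOX.extZero V.ι).map f) g := by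
  unfold projHom
  have h1 := (CxOX.extZeroAdj V.ι).counit.naturality (M2.tensorMap ((CxOX.extZero V.ι).map f) g)
  have h2 : (M2.restrictTensorIso V.ι ((CxOX.extZero V.ι).obj P) N).inv ≫
      (Scheme.Modules.restrictFunctor V.ι).map (M2.tensorMap ((CxOX.extZero V.ι).map f) g) =
      M2.tensorMap ((Scheme.Modules.restrictFunctor V.ι).map ((CxOX.extZero V.ι).map f))
        ((Scheme.Modules.restrictFunctor V.ι).map g) ≫
          (M2.restrictTensorIso V.ι ((CxOX.extZero V.ι).obj P') N').inv :=
    toRestrict_natural V.ι _ g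
  have h3 : f ≫ (CxOX.extZeroAdj V.ι).unit.app P' = (CxOX.extZeroAdj V.ι).unit.app P ≫
      (Scheme.Modules.restrictFunctor V.ι).map ((CxOX.extZero V.ι).map f) :=
    (CxOX.extZeroAdj V.ι).unit.naturality f
  simp only [Category.assoc]
  refine Eq.trans ?_ (congrArg (_ ≫ ·) h1)
  refine ((CxOX.extZero V.ι).map_comp_assoc _ _ _).symm.trans
    (Eq.trans ?_ ((CxOX.extZero V.ι).map_comp_assoc _ _ _))
  refine congrArg (fun t => (CxOX.extZero V.ι).map t ≫ _) ?_
  refine ((Category.assoc _ _ _).symm.trans ?_)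
  refine Eq.trans ?_ (((congrArg (_ ≫ ·) h2).symm).trans (Category.assoc _ _ _).symm)
  refine Eq.trans ?_ (Category.assoc _ _ _)
  refine congrArg (· ≫ _) ?_
  rw [← M2.tensorMap_comp, ← M2.tensorMap_comp, h3]
  congr 1

theorem projHom_left {P P' : (V : Scheme.{u}).Modules} (f : P ⟶ P') (N : X.Modules) :
    (CxOX.extZero V.ι).map (((TX _).map f).app ((Scheme.Modules.restrictFunctor V.ι).obj N)) ≫ projHom V P' N =
      projHom V P N ≫ ((TX X).map ((CxOX.extZero V.ι).map f)).app N := by
  rw [map_eq_tensorMap_left, map_eq_tensorMap_left, ← projHom_natural, CategoryTheory.Functor.map_id]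

theorem projHom_right (P : (V : Scheme.{u}).Modules) {N N' : X.Modules} (g : N ⟶ N') :
    (CxOX.extZero V.ι).map (((TX _).obj P).map ((Scheme.Modules.restrictFunctor V.ι).map g)) ≫ projHom V P N' =
      projHom V P N ≫ ((TX X).obj ((CxOX.extZero V.ι).obj P)).map g := by
  rw [map_eq_tensorMap_right, map_eq_tensorMap_right,
    ← (CxOX.extZero V.ι).map_id P, ← projHom_natural]

/-- The projection formula. -/
noncomputable def projIso (P : (V : Scheme.{u}).Modules) (N : X.Modules) :
    (CxOX.extZero V.ι).obj (((TX (V : Scheme.{u})).obj P).obj ((Scheme.Modules.restrictFunctor V.ι).obj N)) ≅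
      ((TX X).obj ((CxOX.extZero V.ι).obj P)).obj N :=
  @asIso _ _ _ _ (projHom V P N) (isIso_projHom V P N)

theorem natural_projIso : Natural₂ (TX (V : Scheme.{u})) (TX X) (𝟭 _) (Scheme.Modules.restrictFunctor V.ι)
    (CxOX.extZero V.ι) (𝟭 _) (CxOX.extZero V.ι) (projIso V) where
  left f Y := projHom_left V f Y
  right P _ _ g := projHom_right V P g

end Groth.Agent.RHom
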