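import Groth.Agent.Lib.RHom.HomologyExact
import Groth.Agent.Lib.RHom.Proj
import Groth.Agent.Lib.KFlat.Cover
import Groth.Agent.Lib.KFlat.FlatCoker
import Groth.Agent.Lib.KInj.Detect
import Groth.Agent.Lib.KInj.Derived

/-! The extensions by zero of structure modules generate the derived category of a scheme. -/

set_option autoImplicit false
set_option linter.unusedSectionVars false
set_option linter.style.haveILetI false
set_option backward.isDefEq.respectTransparency false
set_option backward.isDefEq.respectTransparency.types false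

universe v u

open CategoryTheory CategoryTheory.Limits CategoryTheory.Pretriangulated AlgebraicGeometry
open scoped ZeroObject

attribute [local instance] HasDerivedCategory.standard

namespace Groth.Agent.RHom

section Telescope

variable {C : Type u} [Category.{v} C] [Abelian C] [IsGrothendieckAbelian.{v} C] (F : ℕ ⥤ C)

/-- The terms of a sequence, indexed in the universe of the category. -/
noncomputable abbrev telTerm (t : ULift.{v} ℕ) : C := F.obj t.down

/-- The transition map of the telescope. -/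
noncomputable def telShift : (∐ telTerm F) ⟶ ∐ telTerm F :=
  Sigma.desc fun t => F.map (homOfLE (Nat.le_succ t.down)) ≫ Sigma.ι (telTerm F) ⟨t.down + 1⟩

/-- The identity minus the transition map. -/
noncomputable def telDiff : (∐ telTerm F) ⟶ ∐ telTerm F := 𝟙 _ - telShift F

/-- The map to the colimit. -/
noncomputable def telColim : (∐ telTerm F) ⟶ colimit F := Sigma.desc fun t => colimit.ι F t.down

theorem telDiff_colim : telDiff F ≫ telColim F = 0 := Sigma.hom_ext _ _ fun t => by
  simp [telDiff, telShift, telColim]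

theorem mono_telDiff : Mono (telDiff F) := by
  refine Preadditive.mono_of_cancel_zero _ fun {W} x hx => KInjLib.eq_zero_of_sigmaProj _ _ ?_
  rintro ⟨n⟩
  induction n with
  | zero =>
    have h : telDiff F ≫ KInjLib.sigmaProj (telTerm F) ⟨0⟩ = KInjLib.sigmaProj (telTerm F) ⟨0⟩ :=
      Sigma.hom_ext _ _ fun s => by
        simp only [telDiff, telShift, Preadditive.sub_comp, Category.id_comp, Preadditive.comp_sub]
        rw [sub_eq_self, Sigma.ι_desc_assoc, Category.assoc,
          KInjLib.ι_sigmaProj_of_ne _ (by intro h; simpa using congrArg ULift.down h), comp_zero]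
    rw [← h, reassoc_of% hx, zero_comp]
  | succ k ih =>
    have h : telDiff F ≫ KInjLib.sigmaProj (telTerm F) ⟨k + 1⟩ = KInjLib.sigmaProj (telTerm F) ⟨k + 1⟩ -
        KInjLib.sigmaProj (telTerm F) ⟨k⟩ ≫ F.map (homOfLE (Nat.le_succ k)) :=
      Sigma.hom_ext _ _ fun s => by
        simp only [telDiff, telShift, Preadditive.sub_comp, Category.id_comp, Preadditive.comp_sub]
        congr 1
        rw [Sigma.ι_desc_assoc, Category.assoc]
        obtain ⟨s⟩ := s
        by_cases hs : s = k
        · subst hs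
          rw [KInjLib.ι_sigmaProj_self, Category.comp_id, reassoc_of% (KInjLib.ι_sigmaProj_self (telTerm F) ⟨s⟩)]
        · rw [KInjLib.ι_sigmaProj_of_ne _ (by intro h; exact hs (by simpa using congrArg ULift.down h)), comp_zero,
            reassoc_of% (KInjLib.ι_sigmaProj_of_ne (telTerm F) (s := ⟨s⟩) (t := ⟨k⟩)
              (by intro h; exact hs (by simpa using congrArg ULift.down h))), zero_comp]
    have h' := congrArg (x ≫ ·) h
    simpa [reassoc_of% hx, reassoc_of% ih] using h'.symm

theorem shortExact_telescope :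
    (ShortComplex.mk (telDiff F) (telColim F) (telDiff_colim F)).ShortExact := by
  haveI := mono_telDiff F
  haveI : Epi (telColim F) := ⟨fun g h hgh => colimit.hom_ext fun n => by
    simpa [telColim] using congrArg (Sigma.ι (telTerm F) ⟨n⟩ ≫ ·) hgh⟩
  refine ShortComplex.ShortExact.mk' (ShortComplex.exact_of_g_is_cokernel _
    (CokernelCofork.IsColimit.ofπ' _ _ fun {Z} k hk => ?_)) inferInstance inferInstance
  have hw : ∀ n, F.map (homOfLE (Nat.le_succ n)) ≫ Sigma.ι (telTerm F) ⟨n + 1⟩ ≫ k =
      Sigma.ι (telTerm F) ⟨n⟩ ≫ k := fun n => by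
    have := congrArg (Sigma.ι (telTerm F) ⟨n⟩ ≫ ·) hk
    simp only [telDiff, telShift, Preadditive.sub_comp, Category.id_comp, Preadditive.comp_sub, comp_zero,
      sub_eq_zero, Sigma.ι_desc_assoc, Category.assoc] at this
    exact this.symm
  exact ⟨colimit.desc F ⟨Z, NatTrans.ofSequence (fun n => Sigma.ι (telTerm F) ⟨n⟩ ≫ k)
      fun n => (hw n).trans (Category.comp_id _).symm⟩,
    Sigma.hom_ext _ _ fun t => by
      show Sigma.ι _ t ≫ telColim F ≫ _ = _
      rw [telColim, Sigma.ι_desc_assoc, colimit.ι_desc]; rfl⟩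

end Telescope

variable {X : Scheme.{u}}

/-- A localizing class of objects. -/
structure Loc (P : DCoh.D X → Prop) : Prop where
  iso : ∀ {Z Z' : DCoh.D X}, (Z ≅ Z') → P Z → P Z'
  zero : ∀ {Z : DCoh.D X}, IsZero Z → P Z
  cone : ∀ T : Triangle (DCoh.D X), T ∈ distTriang _ → P T.obj₁ → P T.obj₂ → P T.obj₃
  shift : ∀ {Z : DCoh.D X} (n : ℤ), P Z → P (Z⟦n⟧)
  coprod : ∀ {ι : Type u} (Z : ι → CochainComplex X.Modules ℤ),
    (∀ i, P (DerivedCategory.Q.obj (Z i))) → P (DerivedCategory.Q.obj (∐ Z))

variable {P : DCoh.D X → Prop} (hP : Loc P)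
include hP

theorem Loc.obj₂ (T : Triangle (DCoh.D X)) (hT : T ∈ distTriang _) (h₁ : P T.obj₁) (h₃ : P T.obj₃) :
    P T.obj₂ :=
  hP.cone T.invRotate (inv_rot_of_distTriang _ hT) (hP.shift (-1) h₃) h₁

theorem Loc.ext {S : ShortComplex (CochainComplex X.Modules ℤ)} (hS : S.ShortExact)
    (h₁ : P (DerivedCategory.Q.obj S.X₁)) (h₃ : P (DerivedCategory.Q.obj S.X₃)) :
    P (DerivedCategory.Q.obj S.X₂) :=
  hP.obj₂ _ (DerivedCategory.triangleOfSES_distinguished hS) h₁ h₃

theorem Loc.coker {S : ShortComplex (CochainComplex X.Modules ℤ)} (hS : S.ShortExact)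
    (h₁ : P (DerivedCategory.Q.obj S.X₁)) (h₂ : P (DerivedCategory.Q.obj S.X₂)) :
    P (DerivedCategory.Q.obj S.X₃) :=
  hP.cone _ (DerivedCategory.triangleOfSES_distinguished hS) h₁ h₂

theorem Loc.colimit_seq (F : ℕ ⥤ CochainComplex X.Modules ℤ)
    (h : ∀ n, P (DerivedCategory.Q.obj (F.obj n))) : P (DerivedCategory.Q.obj (colimit F)) :=
  hP.coker (shortExact_telescope F) (hP.coprod _ fun t => h t.down) (hP.coprod _ fun t => h t.down)

omit hP in
/-- The generators. -/
noncomputable abbrev gen (W : X.Opens) : X.Modules :=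
  (CxOX.extZero W.ι).obj (Coh.structureModule (W : Scheme.{u}))

omit hP in
/-- Sums of generators covering a module, functorially. -/
noncomputable def genF : X.Modules ⥤ X.Modules where
  obj M := ∐ fun p : Σ W : X.Opens, (gen W ⟶ M) => gen p.1
  map {M N} f := Sigma.desc fun p => Sigma.ι (fun q : Σ W : X.Opens, (gen W ⟶ N) => gen q.1) ⟨p.1, p.2 ≫ f⟩
  map_id M := Sigma.hom_ext _ _ fun p => by
    rw [Sigma.ι_desc, Category.comp_id]
    congr 1
  map_comp f g := Sigma.hom_ext _ _ fun p => by
    rw [Sigma.ι_desc, Sigma.ι_desc_assoc, Sigma.ι_desc]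
    congr 1

omit hP in
/-- The evaluation. -/
noncomputable def genπ : genF (X := X) ⟶ 𝟭 _ where
  app M := Sigma.desc fun p => p.2
  naturality M N f := Sigma.hom_ext _ _ fun p => by simp [genF]

omit hP in
theorem epi_genπ (M : X.Modules) : Epi (genπ.app M) := by
  constructor
  intro N g h hgh
  refine Scheme.Modules.hom_ext _ _ fun W => ?_
  ext s
  let s' : Γ(M.restrict W.ι, ⊤) := (M.restrictAppIso W.ι ⊤).inv (M1.mres M (by simp) s)
  let a := ((CxOX.extZeroAdj W.ι).homEquiv (Coh.structureModule (W : Scheme.{u})) M).symm (M1.secHom s')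
  have h1 : a ≫ g = a ≫ h := by
    have := congrArg (Sigma.ι (fun p : Σ V : X.Opens, (gen V ⟶ M) => gen p.1) ⟨W, a⟩ ≫ ·) hgh
    simpa [genπ] using this
  have h2 := congrArg ((CxOX.extZeroAdj W.ι).homEquiv _ _) h1
  rw [Adjunction.homEquiv_naturality_right, Adjunction.homEquiv_naturality_right, Equiv.apply_symm_apply] at h2
  have h3 := congrArg (fun t => t.app ⊤ (M1.one ⊤)) h2
  simp only [Scheme.Modules.Hom.comp_app, ConcreteCategory.comp_apply, M1.secHom_app_one] at h3
  have e : M1.mres M (le_of_eq (by simp) : W.ι ''ᵁ ⊤ ≤ W) s = (M.restrictAppIso W.ι ⊤).hom s' := by simp [s']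
  have h4 : g.app (W.ι ''ᵁ ⊤) (M1.mres M (le_of_eq (by simp)) s) =
      h.app (W.ι ''ᵁ ⊤) (M1.mres M (le_of_eq (by simp)) s) := by
    rw [e]; exact h3
  erw [M1.app_mres, M1.app_mres] at h4
  have h5 := congrArg (M1.mres N (le_of_eq (by simp) : W ≤ W.ι ''ᵁ ⊤)) h4
  rwa [M1.mres_mres, M1.mres_mres, M1.mres_id, M1.mres_id] at h5

omit hP in
/-- The cover by generators. -/
noncomputable def genCover : KFlat.Cover X.Modules := KFlat.Cover.mk' _ genπ epi_genπ

variable (hgen : ∀ (W : X.Opens) (a : ℤ), P (DerivedCategory.Q.obj ((HomologicalComplex.single X.Modules (ComplexShape.up ℤ) a).obj (gen W))))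
include hgen

theorem Loc.single_genF (a : ℤ) (M : X.Modules) :
    P (DerivedCategory.Q.obj ((HomologicalComplex.single X.Modules (ComplexShape.up ℤ) a).obj (genF.obj M))) :=
  hP.iso (DerivedCategory.Q.mapIso (PreservesCoproduct.iso (HomologicalComplex.single X.Modules (ComplexShape.up ℤ) a)
    (fun p : Σ W : X.Opens, (gen W ⟶ M) => gen p.1)).symm) (hP.coprod _ fun p => hgen p.1 a)

theorem Loc.single_genCover (a : ℤ) (M : X.Modules) :
    P (DerivedCategory.Q.obj ((HomologicalComplex.single X.Modules (ComplexShape.up ℤ) a).obj (genCover.F.obj M))) := by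
  haveI : HasFiniteBiproducts X.Modules := Abelian.hasFiniteBiproducts
  let i : genF.obj (0 : X.Modules) ⟶ genF.obj M := genF.map 0
  haveI : IsSplitMono i := ⟨⟨⟨genF.map 0, by
    rw [← Functor.map_comp, comp_zero, show (0 : (0 : X.Modules) ⟶ 0) = 𝟙 _ from (isZero_zero _).eq_of_src _ _,
      CategoryTheory.Functor.map_id]⟩⟩⟩
  have hS : (ShortComplex.mk i (cokernel.π i) (cokernel.condition i)).ShortExact :=
    ShortComplex.ShortExact.mk' (ShortComplex.exact_cokernel i) inferInstance inferInstance
  exact hP.coker (hS.map_of_exact (HomologicalComplex.single X.Modules (ComplexShape.up ℤ) a))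
    (hP.single_genF hgen a 0) (hP.single_genF hgen a M)

theorem Loc.boundedAbove (L : CochainComplex X.Modules ℤ) (b : ℤ) [L.IsStrictlyLE b]
    (hL : ∀ i, ∃ M, Nonempty (genCover.F.obj M ≅ L.X i)) : P (DerivedCategory.Q.obj L) := by
  refine hP.iso (DerivedCategory.Q.mapIso ((colimit.isColimit _).coconePointUniqueUpToIso
    (KFlat.isColimitBrutCocone L (b + 1)))) (hP.colimit_seq _ fun n => ?_)
  haveI := KFlat.brutGE_isStrictlyLE L (b + 1 - (n : ℤ)) b
  refine bounded_induction (fun K => P (DerivedCategory.Q.obj K))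
    (fun K hK => hP.zero (DerivedCategory.Q.map_isZero hK))
    (fun S hSp h₁ h₃ => hP.ext (HomologicalComplex.shortExact_of_degreewise_shortExact S
      fun i => (hSp i).some.shortExact) h₁ h₃)
    (fun M => ∀ a, P (DerivedCategory.Q.obj ((HomologicalComplex.single X.Modules (ComplexShape.up ℤ) a).obj M)))
    (fun M hM a => hP.zero (DerivedCategory.Q.map_isZero ((HomologicalComplex.single _ _ a).map_isZero hM)))
    (fun e h a => hP.iso (DerivedCategory.Q.mapIso ((HomologicalComplex.single _ _ a).mapIso e)) (h a))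
    (fun a M h => h a) b n (KFlat.brutGE L (b + 1 - (n : ℤ))) fun i a => ?_
  by_cases hi : b + 1 - (n : ℤ) ≤ i
  · obtain ⟨M, ⟨e⟩⟩ := hL i
    exact hP.iso (DerivedCategory.Q.mapIso ((HomologicalComplex.single _ _ a).mapIso (e ≪≫ (KFlat.brutIso L hi).symm)))
      (hP.single_genCover hgen a M)
  · exact hP.zero (DerivedCategory.Q.map_isZero ((HomologicalComplex.single _ _ a).map_isZero
      (KFlat.brutGE_isZero L (by omega))))

theorem Loc.stage_mem : ∀ (k : ℕ) (G : CochainComplex X.Modules ℤ) (b : ℤ) [G.IsStrictlyLE b],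
    P (DerivedCategory.Q.obj ((KFlat.stage genCover k).obj G))
  | 0, G, b, _ => by
      haveI := genCover.cx_isStrictlyLE G b
      exact hP.boundedAbove hgen (genCover.cx.obj G) b fun i => ⟨G.X i, ⟨Iso.refl _⟩⟩
  | k + 1, G, b, _ => by
      haveI := genCover.ker_isStrictlyLE G b
      haveI := genCover.cx_isStrictlyLE G b
      have h₁ := Loc.stage_mem k (genCover.ker G) b
      have h₂ : P (DerivedCategory.Q.obj (genCover.cx.obj G)) :=
        hP.boundedAbove hgen _ b fun i => ⟨G.X i, ⟨Iso.refl _⟩⟩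
      exact hP.iso (DerivedCategory.Q.mapIso (KFlat.cylCokerIsoCone ((KFlat.stage genCover k).attach genCover G)).symm)
        (hP.cone _ (DerivedCategory.mappingCone_triangle_distinguished ((KFlat.stage genCover k).attach genCover G)) h₁ h₂)

/-- Every object lies in a localizing class containing the generators. -/
theorem Loc.all (Z : DCoh.D X) : P Z := by
  haveI : QuasiIso (KFlat.resπ genCover (DerivedCategory.Q.objPreimage Z)) := KFlat.quasiIso_resπ _ _
  refine hP.iso (asIso (DerivedCategory.Q.map (KFlat.resπ genCover (DerivedCategory.Q.objPreimage Z))) ≪≫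
    DerivedCategory.Q.objObjPreimageIso Z) (hP.colimit_seq _ fun n => ?_)
  exact hP.stage_mem hgen (2 * n) ((DerivedCategory.Q.objPreimage Z).truncLE (n : ℤ)) (n : ℤ)

end Groth.Agent.RHom
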