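import Groth.Agent.Lib.RHom.Exist
import Groth.Agent.Lib.RHom.HomologyExact
import Groth.Agent.Lib.DPerf.Cond
import Groth.Agent.Lib.RHom.Generate

/-! Natural transformations between exact functors on the derived category. -/

set_option autoImplicit false
set_option linter.unusedSectionVars false
set_option linter.style.haveILetI false
set_option backward.isDefEq.respectTransparency false
set_option backward.isDefEq.respectTransparency.types false

universe w v u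

open CategoryTheory CategoryTheory.Limits CategoryTheory.Pretriangulated AlgebraicGeometry

attribute [local instance] HasDerivedCategory.standard

namespace Groth.Agent.RHom

/-- The five lemma. -/
theorem five_isIso {𝒜 : Type u} [Category.{v} 𝒜] [Abelian 𝒜] {A B C D E A' B' C' D' E' : 𝒜}
    {f : A ⟶ B} {g : B ⟶ C} {h : C ⟶ D} {k : D ⟶ E} {f' : A' ⟶ B'} {g' : B' ⟶ C'} {h' : C' ⟶ D'} {k' : D' ⟶ E'}
    {w₁ : f ≫ g = 0} {w₂ : g ≫ h = 0} {w₃ : h ≫ k = 0} {w₁' : f' ≫ g' = 0} {w₂' : g' ≫ h' = 0} {w₃' : h' ≫ k' = 0}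
    (_e₁ : (ShortComplex.mk f g w₁).Exact) (e₂ : (ShortComplex.mk g h w₂).Exact)
    (e₃ : (ShortComplex.mk h k w₃).Exact) (e₁' : (ShortComplex.mk f' g' w₁').Exact)
    (e₂' : (ShortComplex.mk g' h' w₂').Exact) (_e₃' : (ShortComplex.mk h' k' w₃').Exact)
    {a : A ⟶ A'} {b : B ⟶ B'} {c : C ⟶ C'} {d : D ⟶ D'} {e : E ⟶ E'}
    (c₁ : f ≫ b = a ≫ f') (c₂ : g ≫ c = b ≫ g') (c₃ : h ≫ d = c ≫ h') (c₄ : k ≫ e = d ≫ k')
    (ha : IsIso a) (hb : IsIso b) (hd : IsIso d) (he : IsIso e) : IsIso c := by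
  haveI : Mono c := DPerf.four_mono w₁ w₂ e₂ w₁' e₁' c₁ c₂ c₃ inferInstance inferInstance inferInstance
  haveI : Epi c := DPerf.four_epi (fun _ => e₃) w₃ w₂' e₂' w₃' c₂ c₃ c₄ inferInstance inferInstance inferInstance
  exact isIso_of_mono_of_epi c

variable {X : Scheme.{u}} {𝒜 : Type*} [Category* 𝒜] [Abelian 𝒜]

/-- Exactness on distinguished triangles. -/
def HExact (F : DCoh.D X ⥤ 𝒜) : Prop :=
  ∀ T : Triangle (DCoh.D X), T ∈ distTriang _ →
    ∃ w : F.map T.mor₁ ≫ F.map T.mor₂ = 0, (ShortComplex.mk _ _ w).Exact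

theorem isIso_app_obj₃ {F G : DCoh.D X ⥤ 𝒜} (hF : HExact F) (hG : HExact G) (τ : F ⟶ G)
    (T : Triangle (DCoh.D X)) (hT : T ∈ distTriang _)
    (h₁ : IsIso (τ.app T.obj₁)) (h₂ : IsIso (τ.app T.obj₂))
    (h₁' : IsIso (τ.app (T.obj₁⟦(1 : ℤ)⟧))) (h₂' : IsIso (τ.app (T.obj₂⟦(1 : ℤ)⟧))) : IsIso (τ.app T.obj₃) := by
  have r₁ := rot_of_distTriang _ hT
  have r₂ := rot_of_distTriang _ r₁
  obtain ⟨_, e₁⟩ := hF T hT
  obtain ⟨_, e₂⟩ := hF _ r₁
  obtain ⟨_, e₃⟩ := hF _ r₂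
  obtain ⟨_, e₁'⟩ := hG T hT
  obtain ⟨_, e₂'⟩ := hG _ r₁
  obtain ⟨_, e₃'⟩ := hG _ r₂
  exact five_isIso e₁ e₂ e₃ e₁' e₂' e₃' (τ.naturality _) (τ.naturality _) (τ.naturality _) (τ.naturality _)
    h₁ h₂ h₁' h₂'

theorem hExact_rhom (K : CochainComplex X.Modules ℤ) [DCoh.HasLTensorCx K] [DCoh.HasRSheafHom K] (j : ℤ) :
    HExact (DCoh.RSheafHom K ⋙ DerivedCategory.homologyFunctor X.Modules j) := by
  intro T hT
  haveI : (DCoh.RSheafHom K).Additive := (DCoh.RSheafHomAdj K).right_adjoint_additive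
  have w : (DCoh.RSheafHom K).map T.mor₁ ≫ (DCoh.RSheafHom K).map T.mor₂ = 0 := by
    rw [← Functor.map_comp, comp_distTriang_mor_zero₁₂ _ hT, Functor.map_zero]
  refine ⟨by rw [Functor.comp_map, Functor.comp_map, ← Functor.map_comp, w, Functor.map_zero],
    exact_homology_of_homExact _ _ w (fun {S} t ht => ?_) j⟩
  let A := DCoh.RSheafHomAdj K
  have h1 : (A.homEquiv _ _).symm t ≫ T.mor₂ = 0 := by
    rw [← A.homEquiv_naturality_right_symm, ht, Adjunction.homEquiv_counit, Functor.map_zero, zero_comp]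
  obtain ⟨x, hx⟩ := Triangle.coyoneda_exact₂ _ hT _ h1
  refine ⟨(A.homEquiv _ _) x, ?_⟩
  rw [← A.homEquiv_naturality_right, ← hx, Equiv.apply_symm_apply]

/-- If maps out of `X ⟶ Y ⟶ Z` form exact sequences then homology does too. -/
theorem exact_homology_of_homExact' {A B C : DCoh.D X} (f : A ⟶ B) (g : B ⟶ C) (w : f ≫ g = 0)
    (h : ∀ {T : DCoh.D X} (t : B ⟶ T), f ≫ t = 0 → ∃ t', t = g ≫ t') (j : ℤ) :
    (ShortComplex.mk ((DerivedCategory.homologyFunctor X.Modules j).map f)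
      ((DerivedCategory.homologyFunctor X.Modules j).map g)
      (by rw [← Functor.map_comp, w, Functor.map_zero])).Exact := by
  obtain ⟨C', q, δ, hT⟩ := distinguished_cocone_triangle f
  obtain ⟨χ, hχ⟩ := h q (comp_distTriang_mor_zero₁₂ _ hT)
  have hex := DerivedCategory.HomologySequence.exact₂ (Triangle.mk f q δ) hT j
  rw [ShortComplex.exact_iff_exact_up_to_refinements] at hex ⊢
  intro W y hy
  exact hex y (by
    change y ≫ (DerivedCategory.homologyFunctor X.Modules j).map q = 0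
    refine (congrArg (y ≫ ·) ((congrArg _ hχ).trans (Functor.map_comp _ _ _))).trans ?_
    exact (Category.assoc _ _ _).symm.trans ((congrArg (· ≫ _) hy).trans zero_comp))

theorem hExact_lt (E : CochainComplex X.Modules ℤ) [DCoh.HasLTensorCx E] (j : ℤ) :
    HExact (DCoh.LTensorCx E ⋙ DerivedCategory.homologyFunctor X.Modules j) := by
  intro T hT
  have w : (DCoh.LTensorCx E).map T.mor₁ ≫ (DCoh.LTensorCx E).map T.mor₂ = 0 := by
    rw [← Functor.map_comp, comp_distTriang_mor_zero₁₂ _ hT, Functor.map_zero]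
  exact ⟨by rw [Functor.comp_map, Functor.comp_map, ← Functor.map_comp, w, Functor.map_zero],
    exact_homology_of_homExact' _ _ w (fun t ht => homExact_LT E T hT t ht) j⟩

theorem isIso_of_isIso_homology {A B : DCoh.D X} (f : A ⟶ B)
    (h : ∀ j, IsIso ((DerivedCategory.homologyFunctor X.Modules j).map f)) : IsIso f :=
  (DerivedCategory.isIso_iff X.Modules f).2 h

/-- Invertibility of a natural transformation at all shifts of an object. -/
def IsoAt {F G : DCoh.D X ⥤ DCoh.D X} (τ : F ⟶ G) (Z : DCoh.D X) : Prop :=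
  ∀ n : ℤ, IsIso (τ.app (Z⟦n⟧))

theorem IsoAt.app {F G : DCoh.D X ⥤ DCoh.D X} {τ : F ⟶ G} {Z : DCoh.D X} (h : IsoAt τ Z) :
    IsIso (τ.app Z) :=
  (NatTrans.isIso_app_iff_of_iso τ ((shiftFunctorZero (DCoh.D X) ℤ).app Z)).1 (h 0)

theorem isoAt_obj₃ {F G : DCoh.D X ⥤ DCoh.D X} (τ : F ⟶ G)
    (hF : ∀ j, HExact (F ⋙ DerivedCategory.homologyFunctor X.Modules j))
    (hG : ∀ j, HExact (G ⋙ DerivedCategory.homologyFunctor X.Modules j))
    (T : Triangle (DCoh.D X)) (hT : T ∈ distTriang _) (h₁ : IsoAt τ T.obj₁) (h₂ : IsoAt τ T.obj₂) :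
    IsoAt τ T.obj₃ := fun n => isIso_of_isIso_homology _ fun j => by
  have e : ∀ Z : DCoh.D X, IsoAt τ Z → ∀ m, IsIso (τ.app ((Z⟦n⟧)⟦m⟧)) := fun Z h m =>
    (NatTrans.isIso_app_iff_of_iso τ ((shiftFunctorAdd (DCoh.D X) n m).app Z)).1 (h (n + m))
  haveI := h₁ n
  haveI := h₂ n
  haveI := e _ h₁ 1
  haveI := e _ h₂ 1
  exact isIso_app_obj₃ (hF j) (hG j) (Functor.whiskerRight τ (DerivedCategory.homologyFunctor X.Modules j))
    _ (Triangle.shift_distinguished T hT n)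
    (inferInstanceAs (IsIso ((DerivedCategory.homologyFunctor X.Modules j).map (τ.app (T.obj₁⟦n⟧)))))
    (inferInstanceAs (IsIso ((DerivedCategory.homologyFunctor X.Modules j).map (τ.app (T.obj₂⟦n⟧)))))
    (inferInstanceAs (IsIso ((DerivedCategory.homologyFunctor X.Modules j).map (τ.app ((T.obj₁⟦n⟧)⟦(1 : ℤ)⟧)))))
    (inferInstanceAs (IsIso ((DerivedCategory.homologyFunctor X.Modules j).map (τ.app ((T.obj₂⟦n⟧)⟦(1 : ℤ)⟧)))))

/-- Invertibility at colimits of discrete diagrams. -/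
theorem isIso_app_of_isColimit {𝒞 𝒟 : Type*} [Category* 𝒞] [Category* 𝒟] {F G : 𝒞 ⥤ 𝒟} (τ : F ⟶ G)
    {J : Type*} [Category* J] {K : J ⥤ 𝒞} [PreservesColimit K F] [PreservesColimit K G] {c : Cocone K}
    (hc : IsColimit c) (h : ∀ j, IsIso (τ.app (K.obj j))) : IsIso (τ.app c.pt) := by
  let e : K ⋙ F ≅ K ⋙ G := NatIso.ofComponents (fun j => @asIso _ _ _ _ (τ.app (K.obj j)) (h j))
    fun f => τ.naturality _
  let i := IsColimit.coconePointsIsoOfNatIso (isColimitOfPreserves F hc) (isColimitOfPreserves G hc) e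
  have : τ.app c.pt = i.hom := (isColimitOfPreserves F hc).hom_ext fun j => by
    refine Eq.trans (τ.naturality (c.ι.app j)) ?_
    exact (IsColimit.comp_coconePointsIsoOfNatIso_hom (isColimitOfPreserves F hc) (isColimitOfPreserves G hc) e j).symm
  rw [this]
  infer_instance

theorem loc_isoAt {F G : DCoh.D X ⥤ DCoh.D X} (τ : F ⟶ G)
    (hF : ∀ j, HExact (F ⋙ DerivedCategory.homologyFunctor X.Modules j))
    (hG : ∀ j, HExact (G ⋙ DerivedCategory.homologyFunctor X.Modules j))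
    [F.PreservesZeroMorphisms] [G.PreservesZeroMorphisms]
    [∀ ι : Type u, PreservesColimitsOfShape (Discrete ι) F]
    [∀ ι : Type u, PreservesColimitsOfShape (Discrete ι) G] : Loc (IsoAt τ) where
  iso e h n := (NatTrans.isIso_app_iff_of_iso τ ((shiftFunctor (DCoh.D X) n).mapIso e)).1 (h n)
  zero hZ n := (F.map_isZero ((shiftFunctor (DCoh.D X) n).map_isZero hZ)).isIso
    (G.map_isZero ((shiftFunctor (DCoh.D X) n).map_isZero hZ)) _
  cone T hT h₁ h₂ := isoAt_obj₃ τ hF hG T hT h₁ h₂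
  shift {Z} m h n := (NatTrans.isIso_app_iff_of_iso τ ((shiftFunctorAdd (DCoh.D X) m n).app Z)).1 (h (m + n))
  coprod Z h n := isIso_app_of_isColimit τ
    (isColimitOfPreserves (shiftFunctor (DCoh.D X) n) (KInjLib.isColimitSigma Z)) fun i => h i.as n

end Groth.Agent.RHom
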