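import Groth.Agent.Lib.RHom.Shift
import Groth.Agent.Lib.KFlat.Symm

/-! The unit on the left of a total tensor product. -/

set_option autoImplicit false
set_option linter.unusedSectionVars false
set_option linter.style.haveILetI false
set_option backward.isDefEq.respectTransparency false
set_option backward.isDefEq.respectTransparency.types false

universe u

open CategoryTheory CategoryTheory.Limits AlgebraicGeometry

attribute [local instance] HasDerivedCategory.standard

namespace Groth.Agent.RHom

open KFlat KFlat.Sch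

variable {X : Scheme.{u}}

/-- `L ⊗ P ≅ P ⊗ L`. -/
noncomputable def commCx (L P : CochainComplex X.Modules ℤ) :
    ((tcx (TX X)).obj L).obj P ≅ ((tcx (TX X)).obj P).obj L :=
  symmCxIso L P ≪≫ flipIso (TX X) L P

theorem symmCxIso_natural (L : CochainComplex X.Modules ℤ) {P P' : CochainComplex X.Modules ℤ} (g : P ⟶ P') :
    ((tcx (TX X)).obj L).map g ≫ (symmCxIso L P').hom = (symmCxIso L P).hom ≫ ((tcx (TX X).flip).obj L).map g := by
  have h := transferIso_naturality (TX X) (TX X).flip (𝟭 _) (𝟭 _) (𝟭 _) (𝟭 _) (𝟭 _) natural_flipObjIso (𝟙 L) g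
  simp only [CategoryTheory.Functor.map_id] at h
  rw [symmCxIso, symmCxIso, Iso.trans_hom, Iso.trans_hom, Category.assoc, ← Category.assoc]
  refine (congrArg (· ≫ _) ((Functor.mapHomologicalComplexIdIso X.Modules (ComplexShape.up ℤ)).inv.naturality
    (((tcx (TX X)).obj L).map g))).trans ?_
  exact (Category.assoc _ _ _).trans (congrArg (_ ≫ ·) h)

theorem commCx_natural (L : CochainComplex X.Modules ℤ) {P P' : CochainComplex X.Modules ℤ} (g : P ⟶ P') :
    ((tcx (TX X)).obj L).map g ≫ (commCx L P').hom = (commCx L P).hom ≫ ((tcx (TX X)).map g).app L := by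
  rw [commCx, commCx, Iso.trans_hom, Iso.trans_hom, Category.assoc, ← Category.assoc, symmCxIso_natural,
    Category.assoc]
  refine congrArg ((symmCxIso L P).hom ≫ ·) ?_
  exact HomologicalComplex.mapBifunctorFlipIso_hom_naturality (F := TX X) (c := ComplexShape.up ℤ) g (𝟙 L)

/-- `O ⊗ P ≅ P`. -/
noncomputable def lunit :
    (tcx (TX X)).obj (sg 0 (Coh.structureModule X)) ≅ 𝟭 (CochainComplex X.Modules ℤ) :=
  NatIso.ofComponents (fun P => commCx _ P ≪≫ unitCx.app P) fun {P P'} g => by
    rw [Iso.trans_hom, Iso.trans_hom, Iso.app_hom, Iso.app_hom, ← Category.assoc, commCx_natural, Category.assoc,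
      Category.assoc]
    exact congrArg (_ ≫ ·) (unitCx.hom.naturality g)

end Groth.Agent.RHom
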