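import Groth.Agent.Lib.RHom.KNat
import Groth.Agent.Lib.RHom.LeftUnit
import Groth.Agent.Lib.RHom.Five
import Groth.Agent.Lib.ModFlat16.Proj
import Mathlib.CategoryTheory.Shift.CommShift

/-! The comparison `A ⊗^L D ⟶ RHom(K, A)` for a map `D ⊗ K ⟶ O`. -/

set_option autoImplicit false
set_option linter.unusedSectionVars false
set_option linter.style.haveILetI false
set_option backward.isDefEq.respectTransparency false
set_option backward.isDefEq.respectTransparency.types false

universe u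

open CategoryTheory CategoryTheory.Limits AlgebraicGeometry

attribute [local instance] HasDerivedCategory.standard

namespace Groth.Agent.RHom

open KFlat KFlat.Sch

variable {X : Scheme.{u}}

theorem acyclic_shift {L : CochainComplex X.Modules ℤ} (h : L.Acyclic) (n : ℤ) : (L⟦n⟧).Acyclic := fun i =>
  (HomologicalComplex.exactAt_iff_isZero_homology _ _).2
    (((HomologicalComplex.exactAt_iff_isZero_homology _ _).1 (h (n + i))).of_iso
      (((CochainComplex.ShiftSequence.shiftIso X.Modules n i (n + i) rfl).app L)))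

theorem isKFlat_shift {R : CochainComplex X.Modules ℤ} (hR : IsKFlat (TX X) R) (n : ℤ) :
    IsKFlat (TX X) (R⟦n⟧) := fun L hL =>
  acyclic_of_iso (acyclic_shift (hR L hL) n) (CochainComplex.mapBifunctorShift₂Iso L R (TX X) n).symm

theorem isKFlat_sgOne (a : ℤ) : IsKFlat (TX X) (sg a (Coh.structureModule X)) :=
  isKFlat_single a (Coh.structureModule X) ((Site.isFlat_iff (O := X.sheaf) _).2 (ModFlat16.isFlat_unit X.sheaf))

/-- Universal arrows for a left adjoint. -/
def Univ {L R : DCoh.D X ⥤ DCoh.D X} (_ : L ⊣ R) {B A : DCoh.D X} (η : L.obj B ⟶ A) : Prop :=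
  ∀ T : DCoh.D X, Function.Bijective fun y : T ⟶ B => L.map y ≫ η

theorem univ_iff {L R : DCoh.D X ⥤ DCoh.D X} (adj : L ⊣ R) {B A : DCoh.D X} (η : L.obj B ⟶ A) :
    Univ adj η ↔ IsIso (adj.homEquiv B A η) := by
  have e : ∀ (T : DCoh.D X) (y : T ⟶ B), adj.homEquiv T A (L.map y ≫ η) = y ≫ adj.homEquiv B A η :=
    fun T y => adj.homEquiv_naturality_left y η
  constructor
  · intro h
    obtain ⟨y, hy⟩ := (h (R.obj A)).2 ((adj.homEquiv (R.obj A) A).symm (𝟙 _))
    have h1 : y ≫ adj.homEquiv B A η = 𝟙 _ := by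
      have := congrArg (adj.homEquiv (R.obj A) A) hy
      rwa [e, Equiv.apply_symm_apply] at this
    refine ⟨y, (h B).1 ?_, h1⟩
    apply (adj.homEquiv B A).injective
    rw [e, e, Category.id_comp, Category.assoc, h1, Category.comp_id]
  · intro h T
    have : (fun y : T ⟶ B => L.map y ≫ η) =
        (adj.homEquiv T A).symm ∘ fun y : T ⟶ B => y ≫ adj.homEquiv B A η := by
      funext y
      exact ((Equiv.symm_apply_eq _).2 (e T y).symm).symm
    rw [this]
    exact (adj.homEquiv T A).symm.bijective.comp (Iso.homToEquiv (asIso (adj.homEquiv B A η))).bijective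

variable (K D : CochainComplex X.Modules ℤ) [DCoh.HasLTensorCx K] [DCoh.HasLTensorCx D]

/-- A fraction `D ⊗ K ⟵ Z ⟶ O`. -/
structure Pairing where
  /-- the middle -/
  Z : CochainComplex X.Modules ℤ
  /-- the backward map -/
  s : Z ⟶ ((tcx (TX X)).obj D).obj K
  hs : QuasiIso s
  /-- the forward map -/
  g : Z ⟶ sg 0 (Coh.structureModule X)

variable {K D} (e : Pairing K D)

theorem isIso_map_s {R : CochainComplex X.Modules ℤ} (hR : IsKFlat (TX X) R) :
    IsIso (DerivedCategory.Q.map (((tcx (TX X)).obj R).map e.s)) := by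
  haveI := e.hs
  haveI : QuasiIso (((tcx (TX X)).obj R).map e.s) :=
    IsKFlat.quasiIso_map₂ ((isKFlat_flip_iff' _).2 hR) e.s
  infer_instance

/-- The comparison on complexes. -/
noncomputable def core (R : CochainComplex X.Modules ℤ) (hR : IsKFlat (TX X) R) :
    DerivedCategory.Q.obj (((tcx (TX X)).obj (((tcx (TX X)).obj R).obj D)).obj K) ⟶ DerivedCategory.Q.obj R :=
  DerivedCategory.Q.map (assocCx R D K).hom ≫
    @inv _ _ _ _ (DerivedCategory.Q.map (((tcx (TX X)).obj R).map e.s)) (isIso_map_s e hR) ≫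
      DerivedCategory.Q.map (((tcx (TX X)).obj R).map e.g ≫ unitCx.hom.app R)

theorem core_natural {R R' : CochainComplex X.Modules ℤ} (hR : IsKFlat (TX X) R) (hR' : IsKFlat (TX X) R')
    (f : R ⟶ R') :
    DerivedCategory.Q.map (((tcx (TX X)).map (((tcx (TX X)).map f).app D)).app K) ≫ core e R' hR' =
      core e R hR ≫ DerivedCategory.Q.map f := by
  haveI := isIso_map_s e hR
  haveI := isIso_map_s e hR'
  simp only [core, Category.assoc, ← Functor.map_comp, ← Functor.map_comp_assoc]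
  rw [assocCx_natural, DerivedCategory.Q.map_comp, Category.assoc]
  refine congrArg (_ ≫ ·) ?_
  rw [IsIso.eq_inv_comp, ← DerivedCategory.Q.map_comp_assoc, ((tcx (TX X)).map f).naturality e.s,
    DerivedCategory.Q.map_comp, Category.assoc, IsIso.hom_inv_id_assoc, ← DerivedCategory.Q.map_comp]
  refine congrArg DerivedCategory.Q.map ?_
  rw [← Category.assoc, ← ((tcx (TX X)).map f).naturality e.g, Category.assoc]
  exact congrArg (_ ≫ ·) (unitCx.hom.naturality f)

theorem core_shift (R : CochainComplex X.Modules ℤ) (hR : IsKFlat (TX X) R) (n : ℤ) :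
    DerivedCategory.Q.map (((tcx (TX X)).map (sh₁ R D n).hom).app K ≫
        (sh₁ (((tcx (TX X)).obj R).obj D) K n).hom) ≫
      (DerivedCategory.Q.commShiftIso n).hom.app _ ≫ (core e R hR)⟦n⟧' ≫
        (DerivedCategory.Q.commShiftIso n).inv.app R =
      core e (R⟦n⟧) (isKFlat_shift hR n) := by
  haveI := isIso_map_s e hR
  haveI := isIso_map_s e (isKFlat_shift hR n)
  haveI : IsIso (DerivedCategory.Q.map ((((tcx (TX X)).obj R).map e.s)⟦n⟧')) := by
    have h : DerivedCategory.Q.map ((((tcx (TX X)).obj R).map e.s)⟦n⟧') =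
        (DerivedCategory.Q.commShiftIso n).hom.app _ ≫
          (DerivedCategory.Q.map (((tcx (TX X)).obj R).map e.s))⟦n⟧' ≫
            (DerivedCategory.Q.commShiftIso n).inv.app _ :=
      (NatIso.naturality_2 (DerivedCategory.Q.commShiftIso n) (((tcx (TX X)).obj R).map e.s)).symm
    rw [h]
    infer_instance
  have hc : (DerivedCategory.Q.commShiftIso n).hom.app _ ≫ (core e R hR)⟦n⟧' ≫
      (DerivedCategory.Q.commShiftIso n).inv.app R =
      DerivedCategory.Q.map ((assocCx R D K).hom⟦n⟧') ≫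
        inv (DerivedCategory.Q.map ((((tcx (TX X)).obj R).map e.s)⟦n⟧')) ≫
          DerivedCategory.Q.map ((((tcx (TX X)).obj R).map e.g ≫ unitCx.hom.app R)⟦n⟧') := by
    have nat : ∀ {A B : CochainComplex X.Modules ℤ} (φ : A ⟶ B),
        (DerivedCategory.Q.commShiftIso n).hom.app A ≫ (DerivedCategory.Q.map φ)⟦n⟧' =
          DerivedCategory.Q.map (φ⟦n⟧') ≫ (DerivedCategory.Q.commShiftIso n).hom.app B :=
      fun φ => ((DerivedCategory.Q.commShiftIso n).hom.naturality φ).symm
    have hi : (DerivedCategory.Q.commShiftIso n).hom.app _ ≫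
        (inv (DerivedCategory.Q.map (((tcx (TX X)).obj R).map e.s)))⟦n⟧' =
        inv (DerivedCategory.Q.map ((((tcx (TX X)).obj R).map e.s)⟦n⟧')) ≫
          (DerivedCategory.Q.commShiftIso n).hom.app _ := by
      rw [IsIso.eq_inv_comp, ← Category.assoc, ← nat, Category.assoc, ← Functor.map_comp, IsIso.hom_inv_id,
        CategoryTheory.Functor.map_id]
      exact Category.comp_id _
    rw [core, Functor.map_comp, Functor.map_comp, Category.assoc, Category.assoc,
      reassoc_of% (nat (assocCx R D K).hom), reassoc_of% hi,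
      reassoc_of% (nat (((tcx (TX X)).obj R).map e.g ≫ unitCx.hom.app R))]
    refine congrArg (_ ≫ ·) (congrArg (_ ≫ ·) ?_)
    rw [Iso.hom_inv_id_app]
    exact Category.comp_id _
  rw [hc, ← Functor.map_comp_assoc, Category.assoc, sh₁_assoc, Functor.map_comp, Category.assoc, core]
  refine congrArg (_ ≫ ·) ?_
  rw [IsIso.eq_inv_comp, ← Functor.map_comp_assoc, sh₁_natural_right, Functor.map_comp, Category.assoc,
    IsIso.hom_inv_id_assoc, ← Functor.map_comp, sh₁_unit, reassoc_of% (sh₁_natural_right R e.g n)]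
  simp

variable (hK : IsKFlat (TX X) K)

/-- The pairing on the tensor product. -/
noncomputable def eta (R : CochainComplex X.Modules ℤ) (hR : IsKFlat (TX X) R) :
    (DCoh.LTensorCx K).obj (DerivedCategory.Q.obj (((tcx (TX X)).obj R).obj D)) ⟶ DerivedCategory.Q.obj R :=
  (ltCounit K).app _ ≫ core e R hR

/-- The evaluation `(A ⊗^L D) ⊗^L K ⟶ A`. -/
noncomputable def evalD : DCoh.LTensorCx D ⋙ DCoh.LTensorCx K ⟶ 𝟭 (DCoh.D X) :=
  KNat.lift
    { app := fun R hR => (DCoh.LTensorCx K).map ((ltCounit D).app R) ≫ eta e R hR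
      nat := fun {R R'} hR hR' f => by
        have h1 := (ltCounit D).naturality f
        have h2 := (ltCounit K).naturality (((tcx (TX X)).map f).app D)
        dsimp only [Functor.comp_map, Functor.id_map] at h1 h2 ⊢
        rw [← Functor.map_comp_assoc, h1, Functor.map_comp, eta, eta, Category.assoc, Category.assoc,
          Category.assoc]
        refine congrArg (_ ≫ ·) ?_
        rw [← core_natural e hR hR' f]
        exact (Category.assoc _ _ _).symm.trans ((congrArg (· ≫ _) h2).trans (Category.assoc _ _ _)) }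

theorem evalD_app (R : CochainComplex X.Modules ℤ) (hR : IsKFlat (TX X) R) :
    (evalD e).app (DerivedCategory.Q.obj R) = (DCoh.LTensorCx K).map ((ltCounit D).app R) ≫ eta e R hR :=
  KNat.lift_app _ R hR

variable [DCoh.HasRSheafHom K]

/-- `A ⊗^L D ⟶ RHom(K, A)`. -/
noncomputable def phi : DCoh.LTensorCx D ⟶ DCoh.RSheafHom K where
  app A := (DCoh.RSheafHomAdj K).homEquiv _ _ ((evalD e).app A)
  naturality A B f := by
    rw [← (DCoh.RSheafHomAdj K).homEquiv_naturality_left, ← (DCoh.RSheafHomAdj K).homEquiv_naturality_right]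
    exact congrArg _ ((evalD e).naturality f)

theorem isIso_phi_iff (R : CochainComplex X.Modules ℤ) (hR : IsKFlat (TX X) R) :
    IsIso ((phi e).app (DerivedCategory.Q.obj R)) ↔ Univ (DCoh.RSheafHomAdj K) (eta e R hR) := by
  haveI := isIso_counit_kflat D R hR
  rw [univ_iff]
  change IsIso ((DCoh.RSheafHomAdj K).homEquiv _ _ ((evalD e).app (DerivedCategory.Q.obj R))) ↔ _
  rw [evalD_app e R hR, (DCoh.RSheafHomAdj K).homEquiv_naturality_left]
  exact ⟨fun h => @IsIso.of_isIso_comp_left _ _ _ _ _ _ _ ‹_› h, fun h => @IsIso.comp_isIso _ _ _ _ _ _ _ ‹_› h⟩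

include hK in
/-- `LT_K` commutes with shifts. -/
theorem exists_shift_natural (n : ℤ) :
    ∃ ν : ∀ W : CochainComplex X.Modules ℤ, (DCoh.LTensorCx K).obj ((DerivedCategory.Q.obj W)⟦n⟧) ≅
        ((DCoh.LTensorCx K).obj (DerivedCategory.Q.obj W))⟦n⟧,
      (∀ {W W' : CochainComplex X.Modules ℤ} (y : DerivedCategory.Q.obj W ⟶ DerivedCategory.Q.obj W'),
        (DCoh.LTensorCx K).map (y⟦n⟧') ≫ (ν W').hom = (ν W).hom ≫ ((DCoh.LTensorCx K).map y)⟦n⟧') ∧
      ∀ W, (ν W).hom ≫ ((ltCounit K).app W)⟦n⟧' =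
        (DCoh.LTensorCx K).map ((DerivedCategory.Q.commShiftIso n).inv.app W) ≫ (ltCounit K).app (W⟦n⟧) ≫
          DerivedCategory.Q.map (sh₁ W K n).hom ≫ (DerivedCategory.Q.commShiftIso n).hom.app _ := by
  have hc := fun W => isIso_counit_of_kflat_right K hK W
  let ν : ∀ W : CochainComplex X.Modules ℤ, (DCoh.LTensorCx K).obj ((DerivedCategory.Q.obj W)⟦n⟧) ≅
      ((DCoh.LTensorCx K).obj (DerivedCategory.Q.obj W))⟦n⟧ := fun W =>
    (DCoh.LTensorCx K).mapIso ((DerivedCategory.Q.commShiftIso n).app W).symm ≪≫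
      @asIso _ _ _ _ ((ltCounit K).app (W⟦n⟧)) (hc _) ≪≫ DerivedCategory.Q.mapIso (sh₁ W K n) ≪≫
        (DerivedCategory.Q.commShiftIso n).app _ ≪≫
          (shiftFunctor (DCoh.D X) n).mapIso (@asIso _ _ _ _ ((ltCounit K).app W) (hc _)).symm
  have hν : ∀ W, (ν W).hom ≫ ((ltCounit K).app W)⟦n⟧' =
      (DCoh.LTensorCx K).map ((DerivedCategory.Q.commShiftIso n).inv.app W) ≫ (ltCounit K).app (W⟦n⟧) ≫
        DerivedCategory.Q.map (sh₁ W K n).hom ≫ (DerivedCategory.Q.commShiftIso n).hom.app _ := fun W => by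
    haveI := hc W
    simp only [ν, Iso.trans_hom, Functor.mapIso_hom, Iso.symm_hom, asIso_hom, Iso.app_hom, Iso.app_inv,
      Category.assoc]
    rw [← Functor.map_comp, asIso_inv, IsIso.inv_hom_id, CategoryTheory.Functor.map_id]
    exact congrArg (_ ≫ ·) (congrArg (_ ≫ ·) (congrArg (_ ≫ ·) (Category.comp_id _)))
  refine ⟨ν, fun {W W'} y => ?_, hν⟩
  have nat : ∀ {V V' : CochainComplex X.Modules ℤ} (f : V ⟶ V'),
      (DCoh.LTensorCx K).map ((DerivedCategory.Q.map f)⟦n⟧') ≫ (ν V').hom =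
        (ν V).hom ≫ ((DCoh.LTensorCx K).map (DerivedCategory.Q.map f))⟦n⟧' := fun {V V'} f => by
    haveI := hc V'
    rw [← cancel_mono (((ltCounit K).app V')⟦n⟧'), Category.assoc, Category.assoc, hν, ← Functor.map_comp]
    rw [show (DCoh.LTensorCx K).map (DerivedCategory.Q.map f) ≫ (ltCounit K).app V' =
      (ltCounit K).app V ≫ DerivedCategory.Q.map (((tcx (TX X)).map f).app K) from (ltCounit K).naturality f,
      Functor.map_comp, reassoc_of% (hν V), ← Functor.map_comp_assoc,
      show (DerivedCategory.Q.map f)⟦n⟧' ≫ (DerivedCategory.Q.commShiftIso n).inv.app V' =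
        (DerivedCategory.Q.commShiftIso n).inv.app V ≫ DerivedCategory.Q.map (f⟦n⟧') from
        (DerivedCategory.Q.commShiftIso n).inv.naturality f, Functor.map_comp, Category.assoc]
    refine congrArg (_ ≫ ·) ?_
    refine ((Category.assoc _ _ _).symm.trans (congrArg (· ≫ _) ((ltCounit K).naturality (f⟦n⟧')))).trans
      ((Category.assoc _ _ _).trans (congrArg (_ ≫ ·) ?_))
    refine ((Category.assoc _ _ _).symm.trans (congrArg (· ≫ _) ((DerivedCategory.Q.map_comp _ _).symm.trans
      ((congrArg DerivedCategory.Q.map (sh₁_natural_left f K n)).trans (DerivedCategory.Q.map_comp _ _))))).trans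
      ((Category.assoc _ _ _).trans (congrArg (_ ≫ ·) ?_))
    exact (DerivedCategory.Q.commShiftIso n).hom.naturality _
  obtain ⟨V, s, hs, f, rfl⟩ := DerivedCategory.right_fac y
  have h1 := nat s
  have h2 := nat f
  simp only [Functor.map_comp, Functor.map_inv]
  rw [Category.assoc, h2, IsIso.inv_comp_eq, ← Category.assoc, ← Category.assoc, h1, Category.assoc, Category.assoc,
    IsIso.hom_inv_id_assoc]

include hK in
/-- Universality is stable under shift. -/
theorem univ_shift (R : CochainComplex X.Modules ℤ) (hR : IsKFlat (TX X) R)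
    (h : Univ (DCoh.RSheafHomAdj K) (eta e R hR)) (n : ℤ) :
    Univ (DCoh.RSheafHomAdj K) (eta e (R⟦n⟧) (isKFlat_shift hR n)) := by
  obtain ⟨ν, hν, hν'⟩ := exists_shift_natural hK n
  let W := ((tcx (TX X)).obj R).obj D
  let b : (DerivedCategory.Q.obj W)⟦n⟧ ≅ DerivedCategory.Q.obj (((tcx (TX X)).obj (R⟦n⟧)).obj D) :=
    ((DerivedCategory.Q.commShiftIso n).app W).symm ≪≫ DerivedCategory.Q.mapIso (sh₁ R D n).symm
  have key : (DCoh.LTensorCx K).map b.hom ≫ eta e (R⟦n⟧) (isKFlat_shift hR n) =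
      (ν W).hom ≫ (eta e R hR)⟦n⟧' ≫ (DerivedCategory.Q.commShiftIso n).inv.app R := by
    rw [eta, eta, Functor.map_comp, Category.assoc, reassoc_of% (hν' W), ← core_shift e R hR n]
    simp only [b, Iso.trans_hom, Iso.symm_hom, Iso.app_inv, Functor.map_comp, Category.assoc]
    refine congrArg (_ ≫ ·) ?_
    refine ((Category.assoc _ _ _).symm.trans (congrArg (· ≫ _) ((ltCounit K).naturality (sh₁ R D n).inv))).trans
      ((Category.assoc _ _ _).trans (congrArg (_ ≫ ·) ?_))
    refine (reassoc_of% ((DerivedCategory.Q.map_comp _ _).symm.trans ((congrArg DerivedCategory.Q.map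
      ((((tcx (TX X)).flip.obj K).map_comp _ _).symm.trans ((congrArg ((tcx (TX X)).flip.obj K).map
        (sh₁ R D n).inv_hom_id).trans (((tcx (TX X)).flip.obj K).map_id _)))).trans
        (DerivedCategory.Q.map_id _)))) _
  intro T
  let eT : (DerivedCategory.Q.obj (DerivedCategory.Q.objPreimage (T⟦-n⟧)))⟦n⟧ ≅ T :=
    (shiftFunctor (DCoh.D X) n).mapIso (DerivedCategory.Q.objObjPreimageIso (T⟦-n⟧)) ≪≫
      (shiftFunctorCompIsoId (DCoh.D X) (-n) n (neg_add_cancel n)).app T
  let W₀ := DerivedCategory.Q.objPreimage (T⟦-n⟧)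
  let S := DerivedCategory.Q.obj W₀
  have hbij : Function.Bijective fun y : S⟦n⟧ ⟶ DerivedCategory.Q.obj (((tcx (TX X)).obj (R⟦n⟧)).obj D) =>
      (DCoh.LTensorCx K).map y ≫ eta e (R⟦n⟧) (isKFlat_shift hR n) := by
    let α : (S ⟶ DerivedCategory.Q.obj W) → (S⟦n⟧ ⟶ DerivedCategory.Q.obj (((tcx (TX X)).obj (R⟦n⟧)).obj D)) :=
      fun y => y⟦n⟧' ≫ b.hom
    have hα : Function.Bijective α :=
      Function.Bijective.comp (g := fun z => z ≫ b.hom)
        ⟨fun _ _ hz => (cancel_mono b.hom).1 hz, fun z => ⟨z ≫ b.inv, by simp⟩⟩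
        ⟨(shiftFunctor (DCoh.D X) n).map_injective, (shiftFunctor (DCoh.D X) n).map_surjective⟩
    rw [← Function.Bijective.of_comp_iff _ hα]
    have : (fun y : S⟦n⟧ ⟶ _ => (DCoh.LTensorCx K).map y ≫ eta e (R⟦n⟧) (isKFlat_shift hR n)) ∘ α =
        fun y => (ν W₀).hom ≫ ((DCoh.LTensorCx K).map y ≫ eta e R hR)⟦n⟧' ≫
          (DerivedCategory.Q.commShiftIso n).inv.app R := by
      funext y
      change (DCoh.LTensorCx K).map (y⟦n⟧' ≫ b.hom) ≫ _ = _
      rw [Functor.map_comp, Category.assoc, key, reassoc_of% (hν y), Functor.map_comp, Category.assoc]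
    rw [this]
    exact ((Iso.homFromEquiv (ν W₀).symm).bijective.comp ((Iso.homToEquiv
      ((DerivedCategory.Q.commShiftIso n).app R).symm).bijective.comp
        (Function.Bijective.comp ⟨(shiftFunctor (DCoh.D X) n).map_injective, (shiftFunctor (DCoh.D X) n).map_surjective⟩ (h S))))
  have : (fun y : T ⟶ DerivedCategory.Q.obj (((tcx (TX X)).obj (R⟦n⟧)).obj D) =>
      (DCoh.LTensorCx K).map y ≫ eta e (R⟦n⟧) (isKFlat_shift hR n)) =
      fun y => (DCoh.LTensorCx K).map eT.inv ≫ ((DCoh.LTensorCx K).map (eT.hom ≫ y) ≫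
        eta e (R⟦n⟧) (isKFlat_shift hR n)) := by
    funext y
    rw [Functor.map_comp, Category.assoc, ← Functor.map_comp_assoc, eT.inv_hom_id, CategoryTheory.Functor.map_id,
      Category.id_comp]
  rw [this]
  exact (Iso.homFromEquiv ((DCoh.LTensorCx K).mapIso eT)).bijective.comp
    (hbij.comp (Iso.homFromEquiv eT.symm).bijective)

end Groth.Agent.RHom
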