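import Groth.Agent.Lib.RHom.Devissage
import Groth.Agent.Lib.KFlat.FlatCoker
import Mathlib.CategoryTheory.Triangulated.TStructure.TruncLTGE

/-! Amplitude of derived tensor products and internal homs. -/

set_option autoImplicit false
set_option linter.unusedSectionVars false
set_option linter.style.haveILetI false
set_option backward.isDefEq.respectTransparency false
set_option backward.isDefEq.respectTransparency.types false

universe u

open CategoryTheory CategoryTheory.Limits CategoryTheory.Pretriangulated AlgebraicGeometry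

attribute [local instance] HasDerivedCategory.standard

namespace Groth.Agent.RHom

open KFlat KFlat.Sch

variable {X : Scheme.{u}}

theorem isStrictlyLE_tcx (K E : CochainComplex X.Modules ℤ) (p c : ℤ) [K.IsStrictlyLE p]
    [E.IsStrictlyLE c] : (((tcx (TX X)).obj K).obj E).IsStrictlyLE (p + c) := by
  rw [CochainComplex.isStrictlyLE_iff]
  intro n hn
  rw [IsZero.iff_id_eq_zero]
  refine tcx_hom_ext (TX X) fun i j h => IsZero.eq_of_src ?_ _ _
  by_cases hi : p < i
  · exact (((TX X).map_isZero (K.isZero_of_isStrictlyLE p i hi)).obj (E.X j))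
  · exact ((TX X).obj (K.X i)).map_isZero (E.isZero_of_isStrictlyLE c j (by omega))

theorem isLE_LT (E : CochainComplex X.Modules ℤ) (c : ℤ) [E.IsStrictlyLE c] (M : DCoh.D X) (p : ℤ)
    [M.IsLE p] : ((DCoh.LTensorCx E).obj M).IsLE (p + c) := by
  obtain ⟨K, hK, ⟨e⟩⟩ := DerivedCategory.exists_iso_Q_obj_of_isLE M p
  let K' := resObj (cover X) K
  haveI : K'.IsStrictlyLE p := resObj_isStrictlyLE (cover X) K p
  haveI : QuasiIso (resπ (cover X) K) := quasiIso_resπ (cover X) K
  haveI := isIso_counit_kflat E K' (isAdapted_resObj K).1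
  haveI := isStrictlyLE_tcx K' E p c
  haveI : (DerivedCategory.Q.obj (((tcx (TX X)).obj K').obj E)).IsLE (p + c) := inferInstance
  refine @Triangulated.TStructure.isLE_of_iso _ _ _ _ _ _ _ _ _ _
    ((asIso ((ltCounit E).app K')).symm ≪≫
      (DCoh.LTensorCx E).mapIso (asIso (DerivedCategory.Q.map (resπ (cover X) K)) ≪≫ e.symm)) (p + c) this

/-- `RHom` from a complex in degrees `≤ c` into an object in degrees `≥ a` lives in degrees `≥ a - c`. -/
theorem isGE_rhom (E : CochainComplex X.Modules ℤ) (c : ℤ) (hE : (DerivedCategory.Q.obj E).IsLE c)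
    (L : DCoh.D X) (a : ℤ) [L.IsGE a] : ((DCoh.RSheafHom E).obj L).IsGE (a - c) := by
  haveI : E.IsLE c := (DerivedCategory.isLE_Q_obj_iff E c).1 hE
  obtain ⟨r⟩ := nonempty_rhomIso (asIso (DerivedCategory.Q.map (E.ιTruncLE c)))
  refine @Triangulated.TStructure.isGE_of_iso _ _ _ _ _ _ _ _ _ _ (r.app L) (a - c) ?_
  rw [DerivedCategory.TStructure.t.isGE_iff_orthogonal (a - c - 1) (a - c) (by omega)]
  intro M f hM
  haveI : M.IsLE (a - c - 1) := hM
  have h := isLE_LT (E.truncLE c) c M (a - c - 1)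
  apply ((DCoh.RSheafHomAdj (E.truncLE c)).homEquiv M L).symm.injective
  exact (DerivedCategory.TStructure.t.zero_of_isLE_of_isGE _ (a - c - 1 + c) a (by omega) h inferInstance).trans
    (DerivedCategory.TStructure.t.zero_of_isLE_of_isGE _ (a - c - 1 + c) a (by omega) h inferInstance).symm

theorem isZero_HD_rhom (E : CochainComplex X.Modules ℤ) (c : ℤ) (hE : (DerivedCategory.Q.obj E).IsLE c)
    (L : DCoh.D X) (a : ℤ) [L.IsGE a] (j : ℤ) (hj : j < a - c) :
    IsZero (DCoh.HD ((DCoh.RSheafHom E).obj L) j) :=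
  haveI := isGE_rhom E c hE L a
  DerivedCategory.isZero_of_isGE _ (a - c) j hj

theorem goodAt_of_isLE {𝒮 : X.Modules → Prop} (h₀ : ∀ {M : X.Modules}, IsZero M → 𝒮 M) {Y : DCoh.D X}
    (a : ℤ) [Y.IsGE a] (Z : DCoh.D X) (c : ℤ) [Z.IsLE c] (j : ℤ) (hj : j < a - c) :
    GoodAt 𝒮 Y j Z :=
  fun E ⟨e⟩ => h₀ (isZero_HD_rhom E c (DerivedCategory.TStructure.t.isLE_of_iso e.symm c) Y a j hj)

/-- The class holds in degree `j` for an object approximated by a bounded complex of free modules above `m`. -/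
theorem goodAt_of_approx {𝒮 : X.Modules → Prop} (hS : Mid 𝒮) (h₀ : ∀ {M : X.Modules}, IsZero M → 𝒮 M)
    {Y : DCoh.D X} (a : ℤ) [Y.IsGE a] (hY : ∀ j, 𝒮 (DCoh.HD Y j)) {F : DCoh.D X} (m : ℤ)
    (E : CochainComplex X.Modules ℤ) (p q : ℤ) (hv : DCoh.VanishesOutside E p q) (hf : ∀ i, IsFree (E.X i))
    (α : DerivedCategory.Q.obj E ⟶ F) (hα : DPerf.DCond {i | m ≤ i} α) (j : ℤ) (hj : j < a - m) :
    GoodAt 𝒮 Y j F := by
  obtain ⟨C, g, h, hT⟩ := distinguished_cocone_triangle α
  haveI : C.IsLE (m - 1) := (DerivedCategory.isLE_iff C (m - 1)).2 fun i hi =>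
    DPerf.isZero_homology_of_dcond hT hα (show m ≤ i by omega)
  haveI : (C⟦(-1 : ℤ)⟧).IsLE m := DerivedCategory.TStructure.t.isLE_shift C (m - 1) (-1) m (by omega)
  haveI : ((C⟦(-1 : ℤ)⟧)⟦(1 : ℤ)⟧).IsLE (m - 1) :=
    DerivedCategory.TStructure.t.isLE_shift (C⟦(-1 : ℤ)⟧) m 1 (m - 1) (by omega)
  have hE := good_of_free hS hY E p q hv hf
  exact at_obj₃ hS (Triangle.mk α g h).invRotate (inv_rot_of_distTriang _ hT) j
    (fun E' e' => (hE.shift 1).good₀ E' e' j) (goodAt_of_isLE h₀ a ((C⟦(-1 : ℤ)⟧)⟦(1 : ℤ)⟧) (m - 1) j (by omega))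
    (fun E' e' => hE.good₀ E' e' j) (goodAt_of_isLE h₀ a (C⟦(-1 : ℤ)⟧) m j (by omega))

end Groth.Agent.RHom
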