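import Groth.Agent.Lib.RHom.Coprod
import Groth.Agent.Lib.RHom.LeftUnit
import Groth.Agent.Lib.RHom.DualMap
import Groth.Agent.Lib.RHom.Vanish
import Groth.Agent.Lib.DPush.Compact
import Groth.Agent.Lib.DPerf.Noeth
import Groth.Agent.Lib.CohFound.HHBridge
import Groth.Agent.Lib.ModM1.Local
import Groth.Agent.Lib.Brown.Compact
import Groth.Prelude.Def_CohDer

/-! Perfect objects and maps into coproducts. -/

set_option autoImplicit false
set_option linter.unusedSectionVars false
set_option linter.style.haveILetI false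
set_option backward.isDefEq.respectTransparency false
set_option backward.isDefEq.respectTransparency.types false

universe u v w

open CategoryTheory CategoryTheory.Limits CategoryTheory.Pretriangulated AlgebraicGeometry
open CategoryTheory.Triangulated DerivedCategory.TStructure

attribute [local instance] HasDerivedCategory.standard

namespace Groth.Agent.RHom

open KFlat KFlat.Sch DPush

/-! ### Finite cohomological dimension and complexes bounded above -/

section Cd

variable {A : Type u} [Category.{v} A] [Abelian A] [HasExt.{v} A]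
  {P : A} {d : ℕ} (hd : ∀ (M : A) (i : ℕ), d < i → Subsingleton (Abelian.Ext.{v} P M i))
  (J : CochainComplex A ℤ) [∀ n, Injective (J.X n)] {b : ℤ} (hJ : ∀ n, b < n → J.ExactAt n)

include hd hJ in
/-- Cycles of a complex of injectives exact above `b` are acyclic far enough above `b`. -/
theorem subsingleton_ext_cycles : ∀ (t i : ℕ), 1 ≤ i → d < i + t → ∀ n : ℤ, b + t ≤ n →
    Subsingleton (Abelian.Ext.{v} P (kernel (J.d n (n + 1))) i) := by
  intro t
  induction t with
  | zero => exact fun i _ hi n _ => hd _ i (by omega)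
  | succ t ih =>
    intro i hi hdi n hn
    obtain ⟨m, rfl⟩ : ∃ m, n = m + 1 := ⟨n - 1, by omega⟩
    have w : kernel.ι (J.d m (m + 1)) ≫ kernel.lift (J.d (m + 1) (m + 1 + 1)) (J.d m (m + 1))
        (J.d_comp_d _ _ _) = 0 := by
      rw [← cancel_mono (kernel.ι (J.d (m + 1) (m + 1 + 1))), Category.assoc, kernel.lift_ι, kernel.condition,
        zero_comp]
    let S := ShortComplex.mk _ _ w
    let S' := ShortComplex.mk (kernel.ι (J.d m (m + 1))) (J.d m (m + 1)) (kernel.condition _)
    let φ : S ⟶ S' := { τ₁ := 𝟙 _, τ₂ := 𝟙 _, τ₃ := kernel.ι _ }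
    have hex : S.Exact := (ShortComplex.exact_iff_of_epi_of_isIso_of_mono φ).2
      (ShortComplex.exact_of_f_is_kernel _ (kernelIsKernel _))
    haveI : Epi S.g :=
      (ShortComplex.exact_iff_epi_kernel_lift _).1
        ((J.exactAt_iff' m (m + 1) (m + 1 + 1) (by simp) (by simp)).1 (hJ (m + 1) (by omega)))
    have hS : S.ShortExact := ShortComplex.ShortExact.mk' hex inferInstance inferInstance
    haveI := ih (i + 1) (by omega) (by omega) m (by omega)
    refine ⟨fun x y => ?_⟩
    suffices h : ∀ z : Abelian.Ext.{v} P S.X₃ i, z = 0 from (h x).trans (h y).symm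
    intro z
    obtain ⟨z', hz'⟩ := Abelian.Ext.covariant_sequence_exact₃ P hS z rfl (Subsingleton.elim _ _)
    obtain ⟨k, rfl⟩ : ∃ k, i = k + 1 := ⟨i - 1, by omega⟩
    haveI : Injective S.X₂ := inferInstanceAs (Injective (J.X m))
    rw [← hz', Abelian.Ext.eq_zero_of_injective z', Abelian.Ext.zero_comp]

include hd hJ in
/-- Such a complex receives only null homotopic maps from `P`. -/
theorem nonempty_homotopy_zero (hb : b + d < 0) (φ : (HomologicalComplex.single A (ComplexShape.up ℤ) 0).obj P ⟶ J) :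
    Nonempty (Homotopy φ 0) := by
  let e := HomologicalComplex.singleObjXSelf (ComplexShape.up ℤ) (0 : ℤ) P
  have hx : e.inv ≫ φ.f 0 ≫ J.d 0 (0 + 1) = 0 := by
    rw [φ.comm, HomologicalComplex.single_obj_d, zero_comp, comp_zero]
  have w : kernel.ι (J.d (-1) 0) ≫ kernel.lift (J.d 0 (0 + 1)) (J.d (-1) 0) (J.d_comp_d _ _ _) = 0 := by
    rw [← cancel_mono (kernel.ι (J.d 0 (0 + 1))), Category.assoc, kernel.lift_ι, kernel.condition, zero_comp]
  let S := ShortComplex.mk _ _ w
  let S' := ShortComplex.mk (kernel.ι (J.d (-1) 0)) (J.d (-1) 0) (kernel.condition _)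
  let ψ : S ⟶ S' := { τ₁ := 𝟙 _, τ₂ := 𝟙 _, τ₃ := kernel.ι _ }
  have hex : S.Exact := (ShortComplex.exact_iff_of_epi_of_isIso_of_mono ψ).2
    (ShortComplex.exact_of_f_is_kernel _ (kernelIsKernel _))
  haveI : Epi S.g :=
    (ShortComplex.exact_iff_epi_kernel_lift _).1
      ((J.exactAt_iff' (-1) 0 (0 + 1) (by simp) (by simp)).1 (hJ 0 (by omega)))
  have hS : S.ShortExact := ShortComplex.ShortExact.mk' hex inferInstance inferInstance
  haveI : Subsingleton (Abelian.Ext.{v} P S.X₁ 1) := by
    have h := subsingleton_ext_cycles hd J hJ d 1 le_rfl (by omega) (-1) (by omega)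
    have h0 : (-1 : ℤ) + 1 = 0 := rfl
    exact h
  let x : P ⟶ S.X₃ := kernel.lift _ (e.inv ≫ φ.f 0) (by rw [Category.assoc, hx])
  obtain ⟨y', hy'⟩ := Abelian.Ext.covariant_sequence_exact₃ P hS (Abelian.Ext.mk₀ x) (zero_add 1)
    (Subsingleton.elim _ _)
  obtain ⟨y, rfl⟩ := (Abelian.Ext.mk₀_bijective P S.X₂).2 y'
  rw [Abelian.Ext.mk₀_comp_mk₀] at hy'
  have hy : y ≫ J.d (-1) 0 = e.inv ≫ φ.f 0 := by
    have h := congrArg (· ≫ kernel.ι (J.d 0 (0 + 1))) ((Abelian.Ext.mk₀_bijective P S.X₃).1 hy')
    simpa [S, x] using h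
  let h : ∀ i j, (ComplexShape.up ℤ).Rel j i →
      (((HomologicalComplex.single A (ComplexShape.up ℤ) 0).obj P).X i ⟶ J.X j) := fun i j hij =>
    if hi : i = 0 then eqToHom (by rw [hi]) ≫ e.hom ≫ y ≫ eqToHom (congrArg J.X (by
      change j + 1 = i at hij
      omega : (-1 : ℤ) = j)) else 0
  have hφ : φ = Homotopy.nullHomotopicMap' h := by
    refine HomologicalComplex.from_single_hom_ext ?_
    rw [Homotopy.nullHomotopicMap'_f (show (ComplexShape.up ℤ).Rel (-1) 0 by simp)
      (show (ComplexShape.up ℤ).Rel 0 1 by simp), HomologicalComplex.single_obj_d, zero_comp, zero_add]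
    dsimp only [h]
    rw [dif_pos rfl, eqToHom_refl, Category.id_comp, eqToHom_refl, Category.comp_id, Category.assoc, hy,
      Iso.hom_inv_id_assoc]
  rw [hφ]
  exact ⟨Homotopy.nullHomotopy' h⟩

omit [HasExt.{v} A] in
theorem exists_injective_representative [IsGrothendieckAbelian.{v} A] [HasDerivedCategory.{w} A]
    (Z : DerivedCategory A) : ∃ (J : CochainComplex A ℤ), J.IsKInjective ∧ (∀ n, Injective (J.X n)) ∧
      Nonempty (Z ≅ DerivedCategory.Q.obj J) := by
  obtain ⟨I, f, hI, hf, -, hinj⟩ := KInjLib.exists_resolution (DerivedCategory.Q.objPreimage Z)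
  exact ⟨I, hI, hinj, ⟨(DerivedCategory.Q.objObjPreimageIso Z).symm ≪≫ asIso (DerivedCategory.Q.map f)⟩⟩

omit J hJ in
include hd in
/-- Objects bounded above beyond the cohomological dimension receive nothing. -/
theorem subsingleton_hom_of_isLE [IsGrothendieckAbelian.{v} A] [HasDerivedCategory.{w} A]
    (Z : DerivedCategory A) (b : ℤ) [Z.IsLE b] (hb : b + d < 0) :
    Subsingleton (DerivedCategory.Q.obj ((HomologicalComplex.single A (ComplexShape.up ℤ) 0).obj P) ⟶ Z) := by
  obtain ⟨J, hK, hinj, ⟨e⟩⟩ := exists_injective_representative Z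
  haveI := hK
  haveI := hinj
  have hJ : ∀ n, b < n → J.ExactAt n := fun n hn => by
    rw [HomologicalComplex.exactAt_iff_isZero_homology]
    exact ((DerivedCategory.isZero_of_isLE Z b n hn).of_iso
      ((DerivedCategory.homologyFunctor A n).mapIso e).symm).of_iso
        ((DerivedCategory.homologyFunctorFactors A n).app J).symm
  refine ⟨fun f g => ?_⟩
  suffices h : ∀ f' : DerivedCategory.Q.obj ((HomologicalComplex.single A (ComplexShape.up ℤ) 0).obj P) ⟶
      DerivedCategory.Q.obj J, f' = 0 from (cancel_mono e.hom).1 ((h _).trans (h _).symm)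
  intro f'
  obtain ⟨φ, rfl⟩ := KInjLib.exists_map_eq f'
  rw [← DerivedCategory.Q.map_zero, KInjLib.map_eq_iff]
  exact nonempty_homotopy_zero hd J hJ hb φ

end Cd

/-! ### Finite support -/

section Finite

open scoped Classical

variable {C : Type*} [Category* C] [Preadditive C] {ι : Type*}

/-- Finite support is invariant under reindexing. -/
theorem finFac_whisker {ι' : Type*} (K : ι → C) [HasCoproduct K] (K' : ι' → C) [HasCoproduct K']
    (e : ι' ≃ ι) (φ : ∀ i, K' i ≅ K (e i)) {P : C} (g : P ⟶ ∐ K') (hg : FinFac K' g) :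
    FinFac K (g ≫ Sigma.desc fun i => (φ i).hom ≫ Sigma.ι K (e i)) := by
  obtain ⟨s, hs⟩ := hg
  refine ⟨s.map e.toEmbedding, ?_⟩
  have : finProj K' s ≫ (Sigma.desc fun i => (φ i).hom ≫ Sigma.ι K (e i)) =
      (Sigma.desc fun i => (φ i).hom ≫ Sigma.ι K (e i)) ≫ finProj K (s.map e.toEmbedding) :=
    Sigma.hom_ext _ _ fun i => by
      rw [reassoc_of% (ι_finProj K' s i), Sigma.ι_desc_assoc, Category.assoc, ι_finProj]
      by_cases hi : i ∈ s
      · rw [if_pos hi, if_pos (show e i ∈ s.map e.toEmbedding by simpa using hi), Sigma.ι_desc]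
      · rw [if_neg hi, if_neg (show ¬ e i ∈ s.map e.toEmbedding by simpa using hi), zero_comp, comp_zero]
  rw [Category.assoc, ← this, ← Category.assoc, hs]

end Finite

section Sum

variable {D : Type u} [Category.{v} D] [Preadditive D] (K : D) {ι : Type v} (M : ι → D) [HasCoproduct M]

theorem injective_homSumToHomCoprod : Function.Injective (CohDer.homSumToHomCoprod K M) := by
  classical
  refine (injective_iff_map_eq_zero _).2 fun s hs => DFinsupp.ext fun j => ?_
  obtain ⟨t, ht⟩ := Brown.exists_homSumToHomCoprod_eq_sum K M s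
  let π : ∐ M ⟶ M j := Sigma.desc fun i => if h : i = j then eqToHom (by rw [h]) else 0
  have hπ : ∀ x : DirectSum ι (fun i => K ⟶ M i), CohDer.homSumToHomCoprod K M x ≫ π = x j := by
    intro x
    induction x using DirectSum.induction_on with
    | zero => simp
    | of i f =>
      rw [CohDer.homSumToHomCoprod, DirectSum.toAddMonoid_of]
      change (f ≫ Sigma.ι M i) ≫ π = _
      rw [Category.assoc, Sigma.ι_desc]
      by_cases h : i = j
      · subst h
        simp [DirectSum.of_eq_same]
      · rw [dif_neg h, comp_zero]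
        exact (DirectSum.of_eq_of_ne (β := fun i => K ⟶ M i) i j f (Ne.symm h)).symm
    | add x y hx hy => rw [map_add, Preadditive.add_comp, hx, hy]; rfl
  exact (hπ s).symm.trans (by rw [hs, zero_comp]; rfl)

theorem surjective_homSumToHomCoprod (h : ∀ f : K ⟶ ∐ M, FinFac M f) :
    Function.Surjective (CohDer.homSumToHomCoprod K M) := by
  classical
  intro f
  obtain ⟨s, hs⟩ := h f
  refine ⟨∑ i ∈ s, DirectSum.of (fun i => K ⟶ M i) i (f ≫ Sigma.π M i), ?_⟩
  rw [map_sum]
  conv_rhs => rw [← hs, finProj_eq_sum, Preadditive.comp_sum]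
  refine Finset.sum_congr rfl fun i _ => ?_
  rw [CohDer.homSumToHomCoprod, DirectSum.toAddMonoid_of]
  exact Category.assoc _ _ _

end Sum

/-! ### Perfect objects -/

variable {X : Scheme.{u}}

/-- The generator on the whole space is the structure sheaf. -/
noncomputable def topIso : Coh.structureModule X ≅ (DQC.gen X).obj ⊤ :=
  DQC.isoOfHomEquiv (fun M => (DQC.genHom ⊤ M).trans
    { toFun := M1.secHom
      invFun := fun f => f.app ⊤ (M1.one ⊤)
      left_inv := M1.secHom_app_one
      right_inv := fun _ => M1.unit_hom_ext (M1.secHom_app_one _) })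
    fun {M N} a b => by
      simp only [Equiv.trans_apply, Equiv.coe_fn_mk]
      rw [DQC.genHom_comp, M1.secHom_comp]

/-- The structure sheaf as an object of the derived category. -/
noncomputable abbrev qO (X : Scheme.{u}) : DCoh.D X :=
  DerivedCategory.Q.obj (sg 0 (Coh.structureModule X))

/-- Maps out of the structure sheaf into uniformly bounded below sums have finite support. -/
theorem finFac_qO [CompactSpace X] [QuasiSeparatedSpace X] {ι : Type u} (N : ι → DCoh.D X) [HasCoproduct N]
    (a : ℤ) (hN : ∀ i, (N i).IsGE a) (g : qO X ⟶ ∐ N) : FinFac N g := by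
  let e : (DerivedCategory.singleFunctor X.Modules 0).obj ((DQC.gen X).obj ⊤) ≅ qO X :=
    (DerivedCategory.singleFunctor X.Modules 0).mapIso topIso.symm ≪≫
      (DerivedCategory.singleFunctorIsoCompQ X.Modules 0).app _
  obtain ⟨s, hs⟩ := finFac_classes (U := (⊤ : X.Opens)) (by simpa using isCompact_univ)
    (by simpa using isQuasiSeparated_univ) N a hN 0 (e.hom ≫ g)
  exact ⟨s, by rwa [Category.assoc, cancel_epi] at hs⟩

/-- With finite cohomological dimension no bound is needed. -/
theorem finFac_qO_of_cd [CompactSpace X] [QuasiSeparatedSpace X]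
    (hcd : ∃ d : ℕ, ∀ (F : X.Modules) (i : ℕ), d < i → Subsingleton (Coh.HH X F i))
    {ι : Type u} (N : ι → DCoh.D X) [HasCoproduct N] (g : qO X ⟶ ∐ N) : FinFac N g := by
  obtain ⟨d, hd⟩ := hcd
  have hd' : ∀ (M : X.Modules) (i : ℕ), d < i → Subsingleton (Abelian.Ext.{u} (Coh.structureModule X) M i) :=
    fun M i hi =>
      SiteCoh.subsingleton_ext_of_iso topIso.symm i
        (SiteRlim.subsingleton_ext_freeOn X.sheaf ⊤ M i
          ((CohFound.huExt ((CohFound.abF X).obj M) i ⊤).toEquiv.subsingleton_congr.2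
            ((CohFound.subsingleton_HH_iff M i).1 (hd M i hi))))
  let a : ℤ := -(d : ℤ)
  let N' : ι → DCoh.D X := fun i => (t.truncGE a).obj (N i)
  haveI := hasCoproduct_D N'
  let qm : ∐ N ⟶ ∐ N' := Limits.Sigma.map fun i => (t.truncGEπ a).app (N i)
  obtain ⟨s, hs⟩ := finFac_qO N' a (fun i => (inferInstance : t.IsGE ((t.truncGE a).obj (N i)) a)) (g ≫ qm)
  let z := g - g ≫ finProj N s
  have hzq : z ≫ qm = 0 := by
    simp only [z, qm, Preadditive.sub_comp, Category.assoc, finProj_map]
    rw [← Category.assoc, hs, sub_self]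
  haveI : t.IsGE (∐ N') a :=
    isGE_sigma N' a fun i => (inferInstance : t.IsGE ((t.truncGE a).obj (N i)) a)
  obtain ⟨c, hc⟩ : ∃ c, (t.truncGEπ a).app (∐ N) ≫ c = qm := ⟨t.descTruncGE qm a, t.π_descTruncGE qm a⟩
  haveI : IsIso c := (DerivedCategory.isIso_iff X.Modules c).2 fun m => by
    by_cases hm : a ≤ m
    · haveI : IsIso ((DerivedCategory.homologyFunctor X.Modules m).map qm) := isIso_map_sigma _ m fun i =>
        DerTrunc.isIso_homology_truncGEπ (N i) a m hm
      haveI := DerTrunc.isIso_homology_truncGEπ (∐ N) a m hm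
      haveI : IsIso ((DerivedCategory.homologyFunctor X.Modules m).map ((t.truncGEπ a).app (∐ N)) ≫
          (DerivedCategory.homologyFunctor X.Modules m).map c) := by
        rw [← Functor.map_comp, hc]; infer_instance
      exact IsIso.of_isIso_comp_left ((DerivedCategory.homologyFunctor X.Modules m).map ((t.truncGEπ a).app (∐ N))) _
    · haveI : DerivedCategory.IsGE ((t.truncGE a).obj (∐ N)) a := (inferInstance : t.IsGE _ a)
      exact isIso_of_source_target_iso_zero _
        (DerivedCategory.isZero_of_isGE _ a m (by omega)).isoZero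
        (DerivedCategory.isZero_of_isGE (∐ N') a m (by omega)).isoZero
  obtain ⟨z', hz'⟩ := Triangle.coyoneda_exact₂ _ (t.triangleLTGE_distinguished a (∐ N)) z (by
    change z ≫ (t.truncGEπ a).app (∐ N) = 0
    rw [← cancel_mono c, Category.assoc, hc, hzq, zero_comp])
  haveI : DerivedCategory.IsLE ((t.truncLT a).obj (∐ N)) (a - 1) := t.isLE_truncLT_obj _ a (a - 1) (by lia)
  haveI := subsingleton_hom_of_isLE hd' ((t.truncLT a).obj (∐ N)) (a - 1) (by omega)
  have hz : z = 0 := by
    rw [hz', show z' = 0 from Subsingleton.elim (α := qO X ⟶ (t.truncLT a).obj (∐ N)) _ _, zero_comp]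
  exact ⟨s, (sub_eq_zero.1 hz).symm⟩

/-- Maps out of a perfect object into a sum have finite support when maps out of `O` do. -/
theorem bijective_homSumToHomCoprod {K : DCoh.D X} (hK : DCoh.IsPerfect K)
    {I : Type u} (M : I → DCoh.D X) [HasCoproduct fun i : ULift.{u + 1} I => M i.down]
    (hfin : ∀ (E : CochainComplex X.Modules ℤ) [DCoh.HasLTensorCx E] [DCoh.HasRSheafHom E],
      Nonempty (DerivedCategory.Q.obj E ≅ K) → ∀ [HasCoproduct fun i => (DCoh.RSheafHom E).obj (M i)]
        (g : qO X ⟶ ∐ fun i => (DCoh.RSheafHom E).obj (M i)), FinFac _ g) :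
    Function.Bijective (CohDer.homSumToHomCoprod K (fun i : ULift.{u + 1} I => M i.down)) := by
  refine ⟨injective_homSumToHomCoprod _ _, surjective_homSumToHomCoprod _ _ fun f => ?_⟩
  haveI : HasCoproduct M := hasCoproduct_D M
  let M' := fun i : ULift.{u + 1} I => M i.down
  let w : ∐ M ⟶ ∐ M' := Sigma.desc fun i => (Iso.refl _).hom ≫ Sigma.ι M' (Equiv.ulift.symm i)
  let w' : ∐ M' ⟶ ∐ M := Sigma.desc fun i => Sigma.ι M i.down
  have hw : w' ≫ w = 𝟙 _ := Sigma.hom_ext _ _ fun i => by
    rw [Sigma.ι_desc_assoc, Sigma.ι_desc, Iso.refl_hom, Category.id_comp, Category.comp_id]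
    rfl
  suffices hfm : ∀ f' : K ⟶ ∐ M, FinFac M f' by
    have := finFac_whisker M' M Equiv.ulift.symm (fun i => Iso.refl _) _ (hfm (f ≫ w'))
    rwa [Category.assoc, hw, Category.comp_id] at this
  intro f'
  let E := DerivedCategory.Q.objPreimage K
  let eK : DerivedCategory.Q.obj E ≅ K := DerivedCategory.Q.objObjPreimageIso K
  haveI := hasLTensorCx E
  haveI := hasRSheafHom E
  let R := DCoh.RSheafHom E
  haveI : R.Additive := (DCoh.RSheafHomAdj E).right_adjoint_additive
  haveI : IsIso ((ltCounit E).app (sg 0 (Coh.structureModule X))) := isIso_counit_kflat E _ (isKFlat_sgOne 0)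
  let u₀ : (DCoh.LTensorCx E).obj (qO X) ≅ K :=
    asIso ((ltCounit E).app (sg 0 (Coh.structureModule X))) ≪≫ DerivedCategory.Q.mapIso (lunit.app E) ≪≫ eK
  haveI : HasCoproduct fun i => R.obj (M i) := hasCoproduct_D _
  haveI := preservesCoproducts_rhom (ι := I) E (fun x => by
    obtain ⟨V, hxV, hV⟩ := hK x
    exact ⟨V, hxV, fun F ⟨i⟩ => hV F ⟨i ≪≫ eK⟩⟩)
  haveI : IsIso (sigmaComparison R M) := inferInstance
  let A := DCoh.RSheafHomAdj E
  obtain ⟨s, hs⟩ := hfin E ⟨eK⟩ (A.homEquiv _ _ (u₀.hom ≫ f') ≫ inv (sigmaComparison R M))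
  refine ⟨s, (cancel_epi u₀.hom).1 ((A.homEquiv _ _).injective ?_)⟩
  rw [← Category.assoc, A.homEquiv_naturality_right, ← cancel_mono (inv (sigmaComparison R M))]
  refine Eq.trans ?_ hs
  rw [Category.assoc, Category.assoc]
  refine congrArg (A.homEquiv _ _ (u₀.hom ≫ f') ≫ ·) ?_
  rw [IsIso.comp_inv_eq, Category.assoc, finProj_comparison, IsIso.inv_hom_id_assoc]

end Groth.Agent.RHom
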