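import Groth.Agent.Lib.RHom.Restrict

/-! Restriction of tensor products of complexes. -/

set_option autoImplicit false
set_option linter.unusedSectionVars false
set_option linter.style.haveILetI false
set_option backward.isDefEq.respectTransparency false
set_option backward.isDefEq.respectTransparency.types false

universe u

open CategoryTheory CategoryTheory.Limits AlgebraicGeometry

attribute [local instance] HasDerivedCategory.standard

namespace Groth.Agent.RHom

open KFlat KFlat.Sch

variable {X : Scheme.{u}} (W : X.Opens)

theorem natural_restrictTensorIso : Natural₂ (TX X) (TX (W : Scheme.{u})) (𝟭 _) (𝟭 _)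
    (Scheme.Modules.restrictFunctor W.ι) (Scheme.Modules.restrictFunctor W.ι)
    (Scheme.Modules.restrictFunctor W.ι) (M2.restrictTensorIso W.ι) where
  left f N := by
    rw [map_eq_tensorMap_left, map_eq_tensorMap_left, ← CategoryTheory.Functor.map_id]
    exact restrictTensorIso_natural W.ι f (𝟙 N)
  right M {N N'} g := by
    rw [map_eq_tensorMap_right, map_eq_tensorMap_right, ← CategoryTheory.Functor.map_id]
    exact restrictTensorIso_natural W.ι (𝟙 M) g

instance preservesColimits_restrict : PreservesColimitsOfSize.{0, 0} (Scheme.Modules.restrictFunctor W.ι) :=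
  (Scheme.Modules.restrictAdjunction W.ι).leftAdjoint_preservesColimits

/-- Restriction commutes with tensor products of complexes. -/
noncomputable def tensorResIso (A E : CochainComplex X.Modules ℤ) :
    (DCoh.restrictCx W).obj (((tcx (TX X)).obj A).obj E) ≅
      ((tcx (TX (W : Scheme.{u}))).obj ((DCoh.restrictCx W).obj A)).obj ((DCoh.restrictCx W).obj E) :=
  transferIso (TX X) (TX (W : Scheme.{u})) (𝟭 _) (𝟭 _) (Scheme.Modules.restrictFunctor W.ι)
    (Scheme.Modules.restrictFunctor W.ι) (Scheme.Modules.restrictFunctor W.ι) (natural_restrictTensorIso W) A E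

theorem tensorResIso_natural {A A' : CochainComplex X.Modules ℤ} (f : A ⟶ A') (E : CochainComplex X.Modules ℤ) :
    (DCoh.restrictCx W).map (((tcx (TX X)).map f).app E) ≫ (tensorResIso W A' E).hom =
      (tensorResIso W A E).hom ≫
        ((tcx (TX (W : Scheme.{u}))).map ((DCoh.restrictCx W).map f)).app ((DCoh.restrictCx W).obj E) := by
  have := transferIso_naturality (TX X) (TX (W : Scheme.{u})) (𝟭 _) (𝟭 _) (Scheme.Modules.restrictFunctor W.ι)
    (Scheme.Modules.restrictFunctor W.ι) (Scheme.Modules.restrictFunctor W.ι) (natural_restrictTensorIso W) f (𝟙 E)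
  simp only [CategoryTheory.Functor.map_id] at this
  exact this

theorem isIso_restrict_tensor {A A' : CochainComplex X.Modules ℤ} (f : A ⟶ A')
    (h : IsIso ((DCoh.restrictCx W).map f)) (E : CochainComplex X.Modules ℤ) :
    IsIso ((DCoh.restrictCx W).map (((tcx (TX X)).map f).app E)) := by
  haveI : IsIso ((DCoh.restrictCx W).map (((tcx (TX X)).map f).app E) ≫ (tensorResIso W A' E).hom) := by
    rw [tensorResIso_natural]
    infer_instance
  exact IsIso.of_isIso_comp_right _ (tensorResIso W A' E).hom

end Groth.Agent.RHom
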