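import Groth.Agent.Lib.RHom.DualMap
import Groth.Agent.Lib.RHom.TensorRes
import Groth.Agent.Lib.RHom.Support
import Groth.Agent.Lib.RHom.Coprod
import Groth.Agent.Lib.RHom.Generate

/-! `A ⊗^L K^∨ ≅ RHom(K, A)` for perfect `K`. -/

set_option autoImplicit false
set_option linter.unusedSectionVars false
set_option linter.style.haveILetI false
set_option backward.isDefEq.respectTransparency false
set_option backward.isDefEq.respectTransparency.types false

universe u

open CategoryTheory CategoryTheory.Limits CategoryTheory.Pretriangulated AlgebraicGeometry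

attribute [local instance] HasDerivedCategory.standard

namespace Groth.Agent.RHom

open KFlat KFlat.Sch

variable {X : Scheme.{u}}

theorem mid_stalkZero (x : X) : Mid (StalkZero (X := X) x) where
  iso e h := stalkZero_iso e h
  mid _ _ _ _ _ _ _ _ e₂ _ _ hB hD _ := stalkZero_middle x e₂ hB hD

variable {K D : CochainComplex X.Modules ℤ} [DCoh.HasLTensorCx K] [DCoh.HasLTensorCx D] [DCoh.HasRSheafHom K]

set_option maxHeartbeats 1600000 in
/-- A pairing from an identification of `D` with the dual of `K`. -/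
theorem exists_pairing (hK : IsKFlat (TX X) K)
    (eD : DerivedCategory.Q.obj D ≅
      (DCoh.RSheafHom K).obj (DerivedCategory.Q.obj (sg 0 (Coh.structureModule X)))) :
    ∃ e : Pairing K D,
      IsIso ((phi e).app (DerivedCategory.Q.obj (sg 0 (Coh.structureModule X)))) := by
  let O := sg 0 (Coh.structureModule X)
  let A := DCoh.RSheafHomAdj K
  haveI := fun W => isIso_counit_of_kflat_right K hK W
  let t₀ : (DCoh.LTensorCx K).obj (DerivedCategory.Q.obj D) ⟶ DerivedCategory.Q.obj O :=
    (A.homEquiv _ _).symm eD.hom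
  let DK := ((tcx (TX X)).obj D).obj K
  let t : DerivedCategory.Q.obj DK ⟶ DerivedCategory.Q.obj O := inv ((ltCounit K).app D) ≫ t₀
  let a : DerivedCategory.Q.obj DK ⟶ DerivedCategory.Q.obj DK :=
    inv (DerivedCategory.Q.map (lunit.hom.app DK)) ≫ inv (DerivedCategory.Q.map (assocCx O D K).hom) ≫
      DerivedCategory.Q.map (((tcx (TX X)).flip.obj K).map (lunit.hom.app D))
  let c : DerivedCategory.Q.obj O ⟶ DerivedCategory.Q.obj O :=
    inv (DerivedCategory.Q.map (lunit.hom.app O)) ≫ DerivedCategory.Q.map (unitCx.hom.app O)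
  obtain ⟨Z, s, hs, g, hg⟩ := DerivedCategory.right_fac (a ≫ t ≫ inv c)
  haveI := hs
  haveI : QuasiIso s := (DerivedCategory.isIso_Q_map_iff_quasiIso (C := X.Modules) _).1 inferInstance
  let e : Pairing K D := ⟨Z, s, inferInstance, g⟩
  refine ⟨e, (isIso_phi_iff e O (isKFlat_sgOne 0)).2 ?_⟩
  haveI := isIso_map_s e (R := O) (isKFlat_sgOne 0)
  have hcore : core e O (isKFlat_sgOne 0) =
      DerivedCategory.Q.map (((tcx (TX X)).flip.obj K).map (lunit.hom.app D)) ≫ t := by
    have hs' : DerivedCategory.Q.map (((tcx (TX X)).obj O).map e.s) ≫ DerivedCategory.Q.map (lunit.hom.app DK) =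
        DerivedCategory.Q.map (lunit.hom.app Z) ≫ DerivedCategory.Q.map s := by
      rw [← Functor.map_comp, ← Functor.map_comp]
      exact congrArg DerivedCategory.Q.map (lunit.hom.naturality s)
    have hg' : DerivedCategory.Q.map (((tcx (TX X)).obj O).map e.g) ≫ DerivedCategory.Q.map (lunit.hom.app O) =
        DerivedCategory.Q.map (lunit.hom.app Z) ≫ DerivedCategory.Q.map g := by
      rw [← Functor.map_comp, ← Functor.map_comp]
      exact congrArg DerivedCategory.Q.map (lunit.hom.naturality g)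
    have h1 : inv (DerivedCategory.Q.map (((tcx (TX X)).obj O).map e.s)) ≫
        DerivedCategory.Q.map (((tcx (TX X)).obj O).map e.g ≫ unitCx.hom.app O) =
        DerivedCategory.Q.map (lunit.hom.app DK) ≫ (inv (DerivedCategory.Q.map s) ≫ DerivedCategory.Q.map g) ≫ c := by
      rw [IsIso.inv_comp_eq, reassoc_of% hs', Category.assoc, IsIso.hom_inv_id_assoc, ← reassoc_of% hg',
        Functor.map_comp]
      simp only [c, IsIso.hom_inv_id_assoc]
    rw [core, h1, ← hg]
    simp only [a, Category.assoc, IsIso.inv_hom_id, Category.comp_id, IsIso.hom_inv_id_assoc]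
  have heta : eta e O (isKFlat_sgOne 0) =
      (DCoh.LTensorCx K).map (DerivedCategory.Q.map (lunit.hom.app D)) ≫ t₀ := by
    rw [eta, hcore, ← Category.assoc]
    refine (congrArg (· ≫ t) ((ltCounit K).naturality (lunit.hom.app D)).symm).trans ?_
    exact (Category.assoc _ _ _).trans (congrArg (_ ≫ ·) (IsIso.hom_inv_id_assoc _ _))
  rw [univ_iff, heta, A.homEquiv_naturality_left]
  have ht : A.homEquiv (DerivedCategory.Q.obj D) (DerivedCategory.Q.obj O) t₀ = eD.hom :=
    Equiv.apply_symm_apply _ _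
  haveI : IsIso (A.homEquiv (DerivedCategory.Q.obj D) (DerivedCategory.Q.obj O) t₀) := by rw [ht]; infer_instance
  exact @IsIso.comp_isIso _ _ _ _ _ _ _ inferInstance this

variable (e : Pairing K D)

theorem isoAt_phi_sgOne (hK : IsKFlat (TX X) K)
    (h : IsIso ((phi e).app (DerivedCategory.Q.obj (sg 0 (Coh.structureModule X))))) :
    IsoAt (phi e) (DerivedCategory.Q.obj (sg 0 (Coh.structureModule X))) := fun n =>
  (NatTrans.isIso_app_iff_of_iso (phi e) ((DerivedCategory.Q.commShiftIso n).app (sg 0 (Coh.structureModule X)))).1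
    ((isIso_phi_iff e _ (isKFlat_shift (isKFlat_sgOne 0) n)).2
      (univ_shift e hK _ (isKFlat_sgOne 0) ((isIso_phi_iff e _ (isKFlat_sgOne 0)).1 h) n))

theorem isIso_phi_single (hK : IsKFlat (TX X) K)
    (h : IsIso ((phi e).app (DerivedCategory.Q.obj (sg 0 (Coh.structureModule X))))) (a : ℤ) :
    IsIso ((phi e).app (DerivedCategory.Q.obj (sg a (Coh.structureModule X)))) := by
  let M := Coh.structureModule X
  have i : (DerivedCategory.Q.obj (sg 0 M))⟦-a⟧ ≅ DerivedCategory.Q.obj (sg a M) :=
    (shiftFunctor (DCoh.D X) (-a)).mapIso ((DerivedCategory.singleFunctorIsoCompQ X.Modules 0).app M).symm ≪≫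
      (((DerivedCategory.singleFunctors X.Modules).shiftIso (-a) a 0 (by omega)).app M) ≪≫
      (DerivedCategory.singleFunctorIsoCompQ X.Modules a).app M
  exact (NatTrans.isIso_app_iff_of_iso (phi e) i).1 (isoAt_phi_sgOne e hK h (-a))

variable (W : X.Opens)

theorem exists_genMap : ∃ g : gen W ⟶ Coh.structureModule X,
    IsIso ((Scheme.Modules.restrictFunctor W.ι).map g) := by
  let adj := CxOX.extZeroAdj W.ι
  let u := (Scheme.Modules.restrictUnitIso W.ι : (Coh.structureModule X).restrict W.ι ≅ _).inv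
  refine ⟨(adj.homEquiv _ _).symm u, ?_⟩
  have h : adj.unit.app _ ≫ (Scheme.Modules.restrictFunctor W.ι).map ((adj.homEquiv _ _).symm u) = u := by
    exact (adj.homEquiv_unit _ _ _).symm.trans (Equiv.apply_symm_apply _ _)
  haveI : IsIso (adj.unit.app (Coh.structureModule (W : Scheme.{u})) ≫
      (Scheme.Modules.restrictFunctor W.ι).map ((adj.homEquiv _ _).symm u)) := by
    rw [h]
    exact inferInstanceAs (IsIso (Scheme.Modules.restrictUnitIso W.ι).inv)
  exact IsIso.of_isIso_comp_left (adj.unit.app (Coh.structureModule (W : Scheme.{u}))) _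

theorem stalkZero_HD_jCx (C : CochainComplex (W : Scheme.{u}).Modules ℤ) {x : X} (hx : x ∉ W) (i : ℤ) :
    StalkZero x (DCoh.HD (DerivedCategory.Q.obj ((jCx W).obj C)) i) :=
  stalkZero_iso (((DerivedCategory.homologyFunctorFactors X.Modules i).app ((jCx W).obj C)) ≪≫
    (C.sc i).mapHomologyIso (CxOX.extZero W.ι)).symm (stalkZero_extZero W _ hx)

/-- `RHom` out of a perfect object does not increase the support. -/
theorem stalkZero_HD_rhom (hKp : DCoh.IsPerfect (DCoh.toD X K)) (Y : DCoh.D X) (x : X)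
    (hY : ∀ i, StalkZero x (DCoh.HD Y i)) (i : ℤ) :
    StalkZero x (DCoh.HD ((DCoh.RSheafHom K).obj Y) i) := by
  obtain ⟨V, hxV, hV⟩ := (DPerf.isPerfect_iff_free _).1 hKp x
  obtain ⟨P, a, b, hv, hf, ⟨q⟩⟩ := hV K ⟨Iso.refl _⟩
  haveI := hasLTensorCx ((DCoh.restrictCx V).obj K)
  haveI := hasRSheafHom ((DCoh.restrictCx V).obj K)
  let G := DPerf.resD V.ι
  have hY' : ∀ j, StalkZero (⟨x, hxV⟩ : (V : Scheme.{u})) (DCoh.HD (G.obj Y) j) := fun j =>
    stalkZero_iso (DPerf.hdResIso V.ι Y j).symm ((stalkZero_restrict_iff V.ι ⟨x, hxV⟩ _).2 (hY j))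
  have h := (good_of_free (mid_stalkZero _) hY' P a b hv hf).good₀ ((DCoh.restrictCx V).obj K) ⟨q⟩ i
  refine (stalkZero_restrict_iff V.ι ⟨x, hxV⟩ _).1 ?_
  exact stalkZero_iso ((DerivedCategory.homologyFunctor _ i).mapIso ((restrictRHomIso V K).app Y).symm ≪≫
    DPerf.hdResIso V.ι ((DCoh.RSheafHom K).obj Y) i) h

theorem isIso_phi_gen (hK : IsKFlat (TX X) K) (hKp : DCoh.IsPerfect (DCoh.toD X K))
    (h : IsIso ((phi e).app (DerivedCategory.Q.obj (sg 0 (Coh.structureModule X))))) (a : ℤ) :
    IsIso ((phi e).app (DerivedCategory.Q.obj (sg a (gen W)))) := by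
  obtain ⟨g, hg⟩ := exists_genMap W
  let S := HomologicalComplex.single X.Modules (ComplexShape.up ℤ) a
  let R := sg a (gen W)
  let R₀ := sg a (Coh.structureModule X)
  let ε : R ⟶ R₀ := S.map g
  let σ : (jCx W).obj (sg a (Coh.structureModule (W : Scheme.{u}))) ≅ R :=
    (HomologicalComplex.singleMapHomologicalComplex (CxOX.extZero W.ι) (ComplexShape.up ℤ) a).app _
  have hR : IsKFlat (TX X) R := (isKFlat_jCx W (isKFlat_sgOne a)).of_iso σ
  have hε : IsIso ((DCoh.restrictCx W).map ε) := by
    haveI := hg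
    haveI : IsIso ((Scheme.Modules.restrictFunctor W.ι ⋙
        HomologicalComplex.single (W : Scheme.{u}).Modules (ComplexShape.up ℤ) a).map g) :=
      inferInstanceAs (IsIso ((HomologicalComplex.single (W : Scheme.{u}).Modules (ComplexShape.up ℤ) a).map
        ((Scheme.Modules.restrictFunctor W.ι).map g)))
    exact (NatIso.isIso_map_iff (HomologicalComplex.singleMapHomologicalComplex
      (Scheme.Modules.restrictFunctor W.ι) (ComplexShape.up ℤ) a) g).2 inferInstance
  haveI := isIso_counit_kflat D R hR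
  haveI := isIso_counit_kflat D R₀ (isKFlat_sgOne a)
  haveI hres : IsIso ((DPerf.resD W.ι).map (DerivedCategory.Q.map ε)) :=
    (NatIso.isIso_map_iff (DPerf.resFac W.ι) ε).2
      (haveI := hε; inferInstanceAs (IsIso (DerivedCategory.Q.map ((DCoh.restrictCx W).map ε))))
  haveI hlt : IsIso ((DPerf.resD W.ι).map ((DCoh.LTensorCx D).map (DerivedCategory.Q.map ε))) := by
    haveI := isIso_restrict_tensor W ε hε D
    haveI : IsIso ((DPerf.resD W.ι).map (DerivedCategory.Q.map (((tcx (TX X)).map ε).app D))) :=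
      (NatIso.isIso_map_iff (DPerf.resFac W.ι) (((tcx (TX X)).map ε).app D)).2
        (inferInstanceAs (IsIso (DerivedCategory.Q.map ((DCoh.restrictCx W).map (((tcx (TX X)).map ε).app D)))))
    have hn : (DCoh.LTensorCx D).map (DerivedCategory.Q.map ε) =
        (ltCounit D).app R ≫ DerivedCategory.Q.map (((tcx (TX X)).map ε).app D) ≫ inv ((ltCounit D).app R₀) := by
      rw [← Category.assoc, IsIso.eq_comp_inv]
      exact (ltCounit D).naturality ε
    rw [hn, Functor.map_comp, Functor.map_comp]
    infer_instance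
  haveI hrh : IsIso ((DPerf.resD W.ι).map ((DCoh.RSheafHom K).map (DerivedCategory.Q.map ε))) := by
    haveI := hasLTensorCx ((DCoh.restrictCx W).obj K)
    haveI := hasRSheafHom ((DCoh.restrictCx W).obj K)
    haveI : IsIso ((DCoh.restrictD W.ι).map (DerivedCategory.Q.map ε)) := hres
    exact (NatIso.isIso_map_iff (restrictRHomIso W K) (DerivedCategory.Q.map ε)).2
      (inferInstanceAs (IsIso ((DCoh.RSheafHom ((DCoh.restrictCx W).obj K)).map
        ((DCoh.restrictD W.ι).map (DerivedCategory.Q.map ε)))))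
  haveI := isIso_phi_single e hK h a
  refine isIso_of_restrict_of_stalkZero W _ ?_ (fun x i hx => ?_) fun x i hx => ?_
  · haveI : IsIso ((DPerf.resD W.ι).map ((phi e).app (DerivedCategory.Q.obj R)) ≫
        (DPerf.resD W.ι).map ((DCoh.RSheafHom K).map (DerivedCategory.Q.map ε))) := by
      rw [← Functor.map_comp, ← (phi e).naturality (DerivedCategory.Q.map ε), Functor.map_comp]
      infer_instance
    exact IsIso.of_isIso_comp_right _ ((DPerf.resD W.ι).map ((DCoh.RSheafHom K).map (DerivedCategory.Q.map ε)))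
  · refine stalkZero_iso ((DerivedCategory.homologyFunctor X.Modules i).mapIso
      (DerivedCategory.Q.mapIso (projCxIso W (sg a (Coh.structureModule (W : Scheme.{u}))) D ≪≫
          ((tcx (TX X)).mapIso σ).app D) ≪≫
        (asIso ((ltCounit D).app R)).symm)) (stalkZero_HD_jCx W _ hx i)
  · exact stalkZero_HD_rhom hKp _ x (fun j => stalkZero_iso
      ((DerivedCategory.homologyFunctor X.Modules j).mapIso (DerivedCategory.Q.mapIso σ))
      (stalkZero_HD_jCx W _ hx j)) i

/-- The comparison is invertible everywhere. -/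
theorem isIso_phi (hK : IsKFlat (TX X) K) (hKp : DCoh.IsPerfect (DCoh.toD X K))
    (h : IsIso ((phi e).app (DerivedCategory.Q.obj (sg 0 (Coh.structureModule X))))) : IsIso (phi e) := by
  haveI : (DCoh.RSheafHom K).Additive := (DCoh.RSheafHomAdj K).right_adjoint_additive
  haveI : (DCoh.LTensorCx D).PreservesZeroMorphisms :=
    inferInstance
  haveI := fun ι : Type u => preservesCoproducts_LT D ι
  haveI := fun ι : Type u => preservesCoproducts_rhom (ι := ι) K hKp
  have hP := loc_isoAt (phi e) (hExact_lt D) (hExact_rhom K)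
  refine @NatIso.isIso_of_isIso_app _ _ _ _ _ _ (phi e) fun Z => (hP.all (fun W a n => ?_) Z).app
  exact (NatTrans.isIso_app_iff_of_iso (phi e)
    ((shiftFunctor (DCoh.D X) n).mapIso ((DerivedCategory.singleFunctorIsoCompQ X.Modules a).app (gen W)).symm ≪≫
      ((DerivedCategory.singleFunctors X.Modules).shiftIso n (a - n) a (by omega)).app (gen W) ≪≫
      (DerivedCategory.singleFunctorIsoCompQ X.Modules (a - n)).app (gen W))).2
    (isIso_phi_gen e W hK hKp h (a - n))

/-- Tensoring with the dual of a perfect complex is `RHom` out of it. -/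
theorem nonempty_dualIso (hK : IsKFlat (TX X) K) (hKp : DCoh.IsPerfect (DCoh.toD X K))
    (eD : DerivedCategory.Q.obj D ≅
      (DCoh.RSheafHom K).obj (DerivedCategory.Q.obj (sg 0 (Coh.structureModule X)))) :
    Nonempty (DCoh.LTensorCx D ≅ DCoh.RSheafHom K) := by
  obtain ⟨e, he⟩ := exists_pairing hK eD
  haveI := isIso_phi e hK hKp he
  exact ⟨asIso (phi e)⟩

end Groth.Agent.RHom
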