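import Groth.Agent.Lib.RHom.Devissage
import Groth.Agent.Lib.RHom.Restrict
import Groth.Agent.Lib.DPerf.Free
import Groth.Agent.Lib.DQC.Pull
import Groth.Agent.Lib.DPush.QCoh

/-! Internal hom out of a perfect object preserves quasi-coherent cohomology. -/

set_option autoImplicit false
set_option linter.unusedSectionVars false
set_option linter.style.haveILetI false
set_option backward.isDefEq.respectTransparency false
set_option backward.isDefEq.respectTransparency.types false

universe u

open CategoryTheory CategoryTheory.Limits AlgebraicGeometry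

attribute [local instance] HasDerivedCategory.standard

namespace Groth.Agent.RHom

variable {X : Scheme.{u}}

theorem mid_qcoh : Mid (fun M : X.Modules => Coh.IsQCoh M) where
  iso e h := M1.isQCoh_of_isIso e h
  mid {A B C D E} f g h k w₁ w₂ w₃ e₁ e₂ e₃ hA hB hD hE := by
    -- `coker f → C → ker k`
    let g' : cokernel f ⟶ C := cokernel.desc f g w₁
    let h' : C ⟶ kernel k := kernel.lift k h w₃
    haveI : Mono g' := e₁.mono_cokernelDesc
    haveI : Epi h' := e₃.epi_kernelLift
    have w : g' ≫ h' = 0 := by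
      rw [← cancel_epi (cokernel.π f), ← cancel_mono (kernel.ι k)]
      simp [g', h', w₂]
    let S := ShortComplex.mk g' h' w
    have hex : S.Exact := by
      rw [ShortComplex.exact_iff_exact_up_to_refinements]
      intro W y hy
      have hy' : y ≫ h = 0 := by
        have := congrArg (· ≫ kernel.ι k) hy
        simpa [S, h'] using this
      rw [ShortComplex.exact_iff_exact_up_to_refinements] at e₂
      obtain ⟨W', π, hπ, x, hx⟩ := e₂ y hy'
      refine ⟨W', π, hπ, x ≫ cokernel.π f, hx.trans ?_⟩
      simp [S, g']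
    have hS : S.ShortExact := ShortComplex.ShortExact.mk' hex inferInstance inferInstance
    exact M1.isQCoh_of_shortExact hS (M1.isQCoh_cokernel hA hB f) (M1.isQCoh_kernel hD hE k)

/-- Quasi-coherence of the cohomology of `RHom(E, Y)` for bounded complexes of finite free modules. -/
theorem isQCohD_rhom_free (E : CochainComplex X.Modules ℤ) (a b : ℤ) (hv : DCoh.VanishesOutside E a b)
    (hf : ∀ i, IsFree (E.X i)) (Y : DCoh.D X) (hY : DCoh.IsQCohD Y) :
    DCoh.IsQCohD ((DCoh.RSheafHom E).obj Y) := fun j =>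
  (good_of_free mid_qcoh hY E a b hv hf).good₀ E ⟨Iso.refl _⟩ j

/-- Internal hom out of a perfect object preserves quasi-coherent cohomology. -/
theorem isQCohD_rhom_perfect (K : CochainComplex X.Modules ℤ) [DCoh.HasLTensorCx K] [DCoh.HasRSheafHom K]
    (hK : DCoh.IsPerfect (DCoh.toD X K)) (L : DCoh.D X) (hL : DCoh.IsQCohD L) :
    DCoh.IsQCohD ((DCoh.RSheafHom K).obj L) := by
  refine DQC.isQCohD_of_cover fun x => ?_
  obtain ⟨V, hxV, hV⟩ := (DPerf.isPerfect_iff_free _).1 hK x
  obtain ⟨P, a, b, hv, hf, ⟨e⟩⟩ := hV K ⟨Iso.refl _⟩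
  refine ⟨V, V.ι, inferInstance, ⟨⟨x, hxV⟩, rfl⟩, ?_⟩
  obtain ⟨r⟩ := nonempty_rhomIso e
  exact DQC.isQCohD_of_iso ((r.app _).symm ≪≫ ((restrictRHomIso V K).app L).symm)
    (isQCohD_rhom_free P a b hv hf _ (DQC.isQCohD_resD V.ι hL))

end Groth.Agent.RHom
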