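import Groth.Agent.Lib.RHom.Vanish
import Groth.Agent.Lib.RHom.QCoh
import Groth.Agent.Lib.DPerf.Noeth

/-! Cohomology of internal hom out of pseudo-coherent objects. -/

set_option autoImplicit false
set_option linter.unusedSectionVars false
set_option linter.style.haveILetI false
set_option backward.isDefEq.respectTransparency false
set_option backward.isDefEq.respectTransparency.types false

universe u

open CategoryTheory CategoryTheory.Limits CategoryTheory.Pretriangulated AlgebraicGeometry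

attribute [local instance] HasDerivedCategory.standard

namespace Groth.Agent.RHom

variable {X : Scheme.{u}}

theorem isGE_resD {Z : Scheme.{u}} (j : Z ⟶ X) [IsOpenImmersion j] (L : DCoh.D X) (a : ℤ) [L.IsGE a] :
    ((DPerf.resD j).obj L).IsGE a :=
  (DerivedCategory.isGE_iff _ a).2 fun i hi =>
    ((Scheme.Modules.restrictFunctor j).map_isZero (DerivedCategory.isZero_of_isGE L a i hi)).of_iso
      (DPerf.hdResIso j L i)

/-- Around each point, a pseudo-coherent complex is approximated by a bounded complex of free modules. -/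
theorem exists_free_approx {F : CochainComplex X.Modules ℤ} {m : ℤ}
    (hF : DCoh.IsPseudoCoherentD m (DCoh.toD X F)) (x : X) :
    ∃ (V : X.Opens) (_ : x ∈ V) (E : CochainComplex (V : Scheme.{u}).Modules ℤ) (p q : ℤ)
      (α : DerivedCategory.Q.obj E ⟶ DerivedCategory.Q.obj ((DCoh.restrictCx V).obj F)),
      DCoh.VanishesOutside E p q ∧ (∀ i, IsFree (E.X i)) ∧ DPerf.DCond {i | m ≤ i} α := by
  obtain ⟨V, hxV, hV⟩ := (DPerf.approx_of_isPseudoCoherentD hF).exists_opens x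
  obtain ⟨E, hE, α, hα⟩ := hV V le_rfl
  obtain ⟨W, hxW, hW⟩ := DPerf.exists_free_nhd hE ⟨x, hxV⟩
  obtain ⟨V', k, hk, hxV', hkj⟩ := DPerf.exists_opens (W.ι ≫ V.ι) (x := x) ⟨⟨⟨x, hxV⟩, hxW⟩, rfl⟩
  obtain ⟨⟨p, q, hv⟩, -⟩ := id hE
  have hkj' : (k ≫ W.ι) ≫ V.ι = V'.ι := by rw [Category.assoc, hkj]
  let e₁ : (DPerf.resD ((k ≫ W.ι) ≫ V.ι)).obj (DCoh.toD X F) ≅ (DPerf.resD V'.ι).obj (DCoh.toD X F) :=
    eqToIso (by congr 1; simp only [hkj'])
  refine ⟨V', hxV', (DPerf.resX k).obj ((DPerf.resX W.ι).obj E), p, q,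
    ((DPerf.resFac (k ≫ W.ι)).app E ≪≫
      DerivedCategory.Q.mapIso ((DPerf.resCompIso W.ι k).app E)).inv ≫ (DPerf.resD (k ≫ W.ι)).map α ≫
      ((DPerf.resDComp V.ι (k ≫ W.ι)).app _ ≪≫ e₁ ≪≫ (DPerf.resFac V'.ι).app F).hom,
    fun i hi => (Scheme.Modules.restrictFunctor k).map_isZero
      ((Scheme.Modules.restrictFunctor W.ι).map_isZero (hv i hi)), fun i => ?_, ?_⟩
  · obtain ⟨n, ⟨e⟩⟩ := hW i
    exact ⟨n, ⟨(Scheme.Modules.restrictFunctor k).mapIso e ≪≫ M2.freeModRestrictIso k n⟩⟩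
  · exact (DPerf.dcond_of_isIso _).comp ((DPerf.dcond_map _ hα).comp (DPerf.dcond_of_isIso _))

/-- Local dévissage: the degree `j` cohomology of `RHom(F, G)` near a point. -/
theorem exists_mem_HD_rhom (𝒮 : ∀ (Z : Scheme.{u}), Z.Modules → Prop) (F : CochainComplex X.Modules ℤ)
    (G : DCoh.D X) (a : ℤ) [G.IsGE a] {m : ℤ} (hF : DCoh.IsPseudoCoherentD m (DCoh.toD X F))
    (hS : ∀ V : X.Opens, Mid (𝒮 (V : Scheme.{u})))
    (h₀ : ∀ (V : X.Opens) {M : (V : Scheme.{u}).Modules}, IsZero M → 𝒮 (V : Scheme.{u}) M)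
    (hG : ∀ (V : X.Opens) j, 𝒮 (V : Scheme.{u}) (DCoh.HD ((DPerf.resD V.ι).obj G) j))
    [DCoh.HasLTensorCx F] [DCoh.HasRSheafHom F] (j : ℤ) (hj : j < a - m) (x : X) :
    ∃ V : X.Opens, x ∈ V ∧ 𝒮 (V : Scheme.{u}) ((DCoh.HD ((DCoh.RSheafHom F).obj G) j).restrict V.ι) := by
  obtain ⟨V, hxV, E, p, q, α, hv, hf, hα⟩ := exists_free_approx hF x
  haveI := isGE_resD V.ι G a
  refine ⟨V, hxV, (hS V).iso ?_ (goodAt_of_approx (hS V) (h₀ V) a (hG V) m E p q hv hf α hα j hj
    ((DCoh.restrictCx V).obj F) ⟨Iso.refl _⟩)⟩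
  exact (DerivedCategory.homologyFunctor _ j).mapIso ((restrictRHomIso V F).app G).symm ≪≫
    DPerf.hdResIso V.ι _ j

/-- Quasi-coherence in a degree, for a pseudo-coherent source. -/
theorem isQCoh_HD_rhom (F : CochainComplex X.Modules ℤ) (G : DCoh.D X) (a : ℤ) [G.IsGE a] {m : ℤ}
    (hF : DCoh.IsPseudoCoherentD m (DCoh.toD X F)) [DCoh.HasLTensorCx F] [DCoh.HasRSheafHom F]
    (hG : DCoh.IsQCohD G) (j : ℤ) (hj : j < a - m) :
    Coh.IsQCoh (DCoh.HD ((DCoh.RSheafHom F).obj G) j) := by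
  choose V hxV hV using exists_mem_HD_rhom (fun Z M => Coh.IsQCoh (X := Z) M) F G a hF (fun _ => mid_qcoh)
    (fun _ _ h => DPush.isQCoh_of_isZero h) (fun V => DQC.isQCohD_resD V.ι hG) j hj
  exact M1.isQCoh_of_openImmersion_cover (j := fun x => (V x).ι) (fun x => ⟨x, ⟨x, hxV x⟩, rfl⟩) hV

theorem isCoh_of_shortExact [IsLocallyNoetherian X] {S : ShortComplex X.Modules} (hS : S.ShortExact)
    (h₁ : Coh.IsCoh S.X₁) (h₃ : Coh.IsCoh S.X₃) : Coh.IsCoh S.X₂ := by
  have hq := M1.isQCoh_of_shortExact hS h₁.1 h₃.1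
  refine ⟨hq, M1.isFT_of_finite_sections hq fun U hU => ?_⟩
  haveI := M1.finite_sections h₁.1 h₁.2 hU
  haveI := M1.finite_sections h₃.1 h₃.2 hU
  let f : Γ(S.X₁, U) →ₗ[Γ(X, U)] Γ(S.X₂, U) :=
    { toFun := S.f.app U, map_add' := map_add (S.f.app U).hom, map_smul' := S.f.app_smul }
  let g : Γ(S.X₂, U) →ₗ[Γ(X, U)] Γ(S.X₃, U) :=
    { toFun := S.g.app U, map_add' := map_add (S.g.app U).hom, map_smul' := S.g.app_smul }
  haveI := hS.epi_g
  haveI := hS.mono_f
  have hg : Function.Surjective g := M1.app_surjective_affine_of_isQCoh hq h₃.1 S.g hU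
  refine Module.finite_def.2 (Submodule.fg_of_fg_map_of_fg_inf_ker g ?_ ?_)
  · rw [Submodule.map_top, LinearMap.range_eq_top.2 hg]
    exact Module.finite_def.1 inferInstance
  · rw [top_inf_eq]
    have : LinearMap.ker g = LinearMap.range f := by
      refine le_antisymm (fun b hb => M1.sections_exact hS.exact U b hb) ?_
      rintro _ ⟨a, rfl⟩
      show S.g.app U (S.f.app U a) = 0
      rw [← ConcreteCategory.comp_apply, ← Scheme.Modules.Hom.comp_app, S.zero]
      simp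
    rw [this, LinearMap.range_eq_map]
    exact (Module.finite_def.1 inferInstance).map f

theorem mid_coh [IsLocallyNoetherian X] : Mid (fun M : X.Modules => Coh.IsCoh M) where
  iso e h := ⟨M1.isQCoh_of_isIso e h.1, M1.isFT_of_isIso e h.2⟩
  mid {A B C D E} f g h k w₁ w₂ w₃ e₁ e₂ e₃ hA hB hD hE := by
    let g' : cokernel f ⟶ C := cokernel.desc f g w₁
    let h' : C ⟶ kernel k := kernel.lift k h w₃
    haveI : Mono g' := e₁.mono_cokernelDesc
    haveI : Epi h' := e₃.epi_kernelLift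
    have w : g' ≫ h' = 0 := by
      rw [← cancel_epi (cokernel.π f), ← cancel_mono (kernel.ι k)]
      simp [g', h', w₂]
    let S := ShortComplex.mk g' h' w
    have hex : S.Exact := by
      rw [ShortComplex.exact_iff_exact_up_to_refinements]
      intro W y hy
      have hy' : y ≫ h = 0 := by
        have := congrArg (· ≫ kernel.ι k) hy
        simpa [S, h'] using this
      rw [ShortComplex.exact_iff_exact_up_to_refinements] at e₂
      obtain ⟨W', π, hπ, x, hx⟩ := e₂ y hy'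
      refine ⟨W', π, hπ, x ≫ cokernel.π f, hx.trans ?_⟩
      simp [S, g']
    exact isCoh_of_shortExact (ShortComplex.ShortExact.mk' hex inferInstance inferInstance)
      (M1.isCoh_cokernel hA.1 hB f) (M1.isCoh_kernel hD hE.1 k)

/-- Coherence in a degree, for a pseudo-coherent source on a locally Noetherian scheme. -/
theorem isCoh_HD_rhom [IsLocallyNoetherian X] (F : CochainComplex X.Modules ℤ) (G : DCoh.D X) (a : ℤ)
    [G.IsGE a] {m : ℤ} (hF : DCoh.IsPseudoCoherentD m (DCoh.toD X F)) [DCoh.HasLTensorCx F]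
    [DCoh.HasRSheafHom F] (hG : DCoh.IsCohD G) (j : ℤ) (hj : j < a - m) :
    Coh.IsCoh (DCoh.HD ((DCoh.RSheafHom F).obj G) j) := by
  choose V hxV hV using exists_mem_HD_rhom (fun Z M => Coh.IsCoh (X := Z) M) F G a hF (fun _ => mid_coh)
    (fun _ _ h => DPerf.isCoh_of_isZero h)
    (fun V i => ⟨M1.isQCoh_of_isIso (DPerf.hdResIso V.ι G i).symm (DPerf.isCoh_restrict (hG i) V.ι).1,
      M1.isFT_of_isIso (DPerf.hdResIso V.ι G i).symm (DPerf.isCoh_restrict (hG i) V.ι).2⟩) j hj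
  exact ⟨M1.isQCoh_of_openImmersion_cover (j := fun x => (V x).ι) (fun x => ⟨x, ⟨x, hxV x⟩, rfl⟩)
      fun x => (hV x).1,
    M1.isFT_of_openImmersion_cover (fun x => (V x).ι) (fun x => ⟨x, ⟨x, hxV x⟩, rfl⟩) fun x => (hV x).2⟩

end Groth.Agent.RHom
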