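import Groth.Agent.Lib.RHom.Exist
import Mathlib.CategoryTheory.Adjunction.Mates

/-! Internal hom is contravariant in the complex, exactly. -/

set_option autoImplicit false
set_option linter.unusedSectionVars false
set_option linter.style.haveILetI false
set_option backward.isDefEq.respectTransparency false
set_option backward.isDefEq.respectTransparency.types false

universe u

open CategoryTheory CategoryTheory.Limits CategoryTheory.Pretriangulated AlgebraicGeometry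

attribute [local instance] HasDerivedCategory.standard

namespace Groth.Agent.RHom

open KFlat KFlat.Sch

variable {X : Scheme.{u}} {P Q : CochainComplex X.Modules ℤ} [DCoh.HasLTensorCx P] [DCoh.HasLTensorCx Q]

/-- The natural transformation of derived tensor products induced by a chain map. -/
noncomputable def ltMap (f : P ⟶ Q) : DCoh.LTensorCx P ⟶ DCoh.LTensorCx Q :=
  (DCoh.LTensorCx Q).leftDerivedLift (ltCounit Q) (HomologicalComplex.quasiIso X.Modules (ComplexShape.up ℤ))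
    (DCoh.LTensorCx P) (ltCounit P ≫ Functor.whiskerRight ((tcx (TX X)).flip.map f) DerivedCategory.Q)

theorem ltMap_fac (f : P ⟶ Q) (A : CochainComplex X.Modules ℤ) :
    (ltMap f).app (DerivedCategory.Q.obj A) ≫ (ltCounit Q).app A =
      (ltCounit P).app A ≫ DerivedCategory.Q.map (((tcx (TX X)).obj A).map f) :=
  Functor.leftDerived_fac_app (DCoh.LTensorCx Q) (ltCounit Q)
    (HomologicalComplex.quasiIso X.Modules (ComplexShape.up ℤ)) (DCoh.LTensorCx P) _ A

/-- Exactness of `Hom(A ⊗ -, Y)` for degreewise split sequences. -/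
theorem lt_exact (S : ShortComplex (CochainComplex X.Modules ℤ))
    (hS : ∀ i : ℤ, Nonempty ((S.map (HomologicalComplex.eval X.Modules (ComplexShape.up ℤ) i)).Splitting))
    [DCoh.HasLTensorCx S.X₁] [DCoh.HasLTensorCx S.X₂] [DCoh.HasLTensorCx S.X₃] (A Y : DCoh.D X)
    (φ : (DCoh.LTensorCx S.X₂).obj A ⟶ Y) (h : (ltMap S.f).app A ≫ φ = 0) :
    ∃ χ : (DCoh.LTensorCx S.X₃).obj A ⟶ Y, φ = (ltMap S.g).app A ≫ χ := by
  obtain ⟨R, hR, ⟨eA⟩⟩ : ∃ R : CochainComplex X.Modules ℤ, IsKFlat (TX X) R ∧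
      Nonempty (DerivedCategory.Q.obj R ≅ A) := by
    obtain ⟨R, q, hR, hq⟩ := exists_kflat_res (DerivedCategory.Q.objPreimage A)
    exact ⟨R, hR, ⟨asIso (DerivedCategory.Q.map q) ≪≫ DerivedCategory.Q.objObjPreimageIso A⟩⟩
  haveI := isIso_counit_kflat S.X₁ R hR
  haveI := isIso_counit_kflat S.X₂ R hR
  haveI := isIso_counit_kflat S.X₃ R hR
  let T := DerivedCategory.triangleOfSES ((splitPres_left (TX X) R).shortExact S hS)
  have hT : T ∈ distTriang _ := DerivedCategory.triangleOfSES_distinguished _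
  let ψ : T.obj₂ ⟶ Y := inv ((ltCounit S.X₂).app R) ≫ (DCoh.LTensorCx S.X₂).map eA.hom ≫ φ
  have h0 : T.mor₁ ≫ ψ = 0 := by
    rw [← cancel_epi ((ltCounit S.X₁).app R), comp_zero]
    change (ltCounit S.X₁).app R ≫ DerivedCategory.Q.map (((tcx (TX X)).obj R).map S.f) ≫ ψ = 0
    rw [← reassoc_of% (ltMap_fac S.f R)]
    simp only [ψ, IsIso.hom_inv_id_assoc]
    rw [← reassoc_of% ((ltMap S.f).naturality eA.hom), h, comp_zero]
  obtain ⟨χ, hχ⟩ := Triangle.yoneda_exact₂ T hT ψ h0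
  refine ⟨(DCoh.LTensorCx S.X₃).map eA.inv ≫ (ltCounit S.X₃).app R ≫ χ, ?_⟩
  rw [← cancel_epi ((DCoh.LTensorCx S.X₂).map eA.hom), reassoc_of% ((ltMap S.g).naturality eA.hom)]
  rw [← Functor.map_comp_assoc, eA.hom_inv_id, CategoryTheory.Functor.map_id, Category.id_comp,
    reassoc_of% (ltMap_fac S.g R)]
  exact (IsIso.inv_comp_eq _).1 hχ

theorem ltMap_comp_eq_zero (S : ShortComplex (CochainComplex X.Modules ℤ))
    [DCoh.HasLTensorCx S.X₁] [DCoh.HasLTensorCx S.X₂] [DCoh.HasLTensorCx S.X₃] (A : DCoh.D X) :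
    (ltMap S.f).app A ≫ (ltMap S.g).app A = 0 := by
  obtain ⟨R, hR, ⟨eA⟩⟩ : ∃ R : CochainComplex X.Modules ℤ, IsKFlat (TX X) R ∧
      Nonempty (DerivedCategory.Q.obj R ≅ A) := by
    obtain ⟨R, q, hR, hq⟩ := exists_kflat_res (DerivedCategory.Q.objPreimage A)
    exact ⟨R, hR, ⟨asIso (DerivedCategory.Q.map q) ≪≫ DerivedCategory.Q.objObjPreimageIso A⟩⟩
  haveI := isIso_counit_kflat S.X₃ R hR
  rw [← cancel_epi ((DCoh.LTensorCx S.X₁).map eA.hom), comp_zero,
    reassoc_of% ((ltMap S.f).naturality eA.hom), (ltMap S.g).naturality eA.hom, ← Category.assoc]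
  suffices (ltMap S.f).app (DerivedCategory.Q.obj R) ≫ (ltMap S.g).app (DerivedCategory.Q.obj R) = 0 by
    rw [this, zero_comp]
  rw [← cancel_mono ((ltCounit S.X₃).app R), zero_comp, Category.assoc, ltMap_fac,
    reassoc_of% (ltMap_fac S.f R), ← DerivedCategory.Q.map_comp, ← Functor.map_comp, S.zero, ((tcx (TX X)).obj R).map_zero,
    DerivedCategory.Q.map_zero, comp_zero]

variable [DCoh.HasRSheafHom P] [DCoh.HasRSheafHom Q]

/-- Internal hom is contravariant. -/
noncomputable def rhomMap (f : P ⟶ Q) : DCoh.RSheafHom Q ⟶ DCoh.RSheafHom P :=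
  conjugateEquiv (DCoh.RSheafHomAdj Q) (DCoh.RSheafHomAdj P) (ltMap f)

theorem rhomMap_homEquiv (f : P ⟶ Q) {T Y : DCoh.D X} (φ : (DCoh.LTensorCx Q).obj T ⟶ Y) :
    (DCoh.RSheafHomAdj Q).homEquiv _ _ φ ≫ (rhomMap f).app Y =
      (DCoh.RSheafHomAdj P).homEquiv _ _ ((ltMap f).app T ≫ φ) := by
  have h1 := unit_conjugateEquiv (DCoh.RSheafHomAdj Q) (DCoh.RSheafHomAdj P) (ltMap f) T
  rw [Adjunction.homEquiv_unit, Adjunction.homEquiv_unit, Category.assoc, (rhomMap f).naturality φ,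
    Functor.map_comp, ← Category.assoc, ← Category.assoc]
  exact congrArg (· ≫ _) h1

section Exact

variable (S : ShortComplex (CochainComplex X.Modules ℤ))
  [DCoh.HasLTensorCx S.X₁] [DCoh.HasLTensorCx S.X₂] [DCoh.HasLTensorCx S.X₃]
  [DCoh.HasRSheafHom S.X₁] [DCoh.HasRSheafHom S.X₂] [DCoh.HasRSheafHom S.X₃]

theorem rhomMap_comp_eq_zero (Y : DCoh.D X) : (rhomMap S.g).app Y ≫ (rhomMap S.f).app Y = 0 := by
  have h : ∀ {T : DCoh.D X} (t : T ⟶ (DCoh.RSheafHom S.X₃).obj Y),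
      (t ≫ (rhomMap S.g).app Y) ≫ (rhomMap S.f).app Y = 0 := fun {T} t => by
    obtain ⟨φ, rfl⟩ := ((DCoh.RSheafHomAdj S.X₃).homEquiv _ _).surjective t
    rw [rhomMap_homEquiv, rhomMap_homEquiv, ← Category.assoc, ltMap_comp_eq_zero, zero_comp,
      Adjunction.homEquiv_unit, Functor.map_zero, comp_zero]
  simpa using h (𝟙 _)

/-- Exactness of `RHom(-, Y)` for degreewise split sequences, on maps out of any object. -/
theorem rhom_exact
    (hS : ∀ i : ℤ, Nonempty ((S.map (HomologicalComplex.eval X.Modules (ComplexShape.up ℤ) i)).Splitting))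
    {T Y : DCoh.D X} (t : T ⟶ (DCoh.RSheafHom S.X₂).obj Y) (h : t ≫ (rhomMap S.f).app Y = 0) :
    ∃ t' : T ⟶ (DCoh.RSheafHom S.X₃).obj Y, t = t' ≫ (rhomMap S.g).app Y := by
  obtain ⟨φ, rfl⟩ := ((DCoh.RSheafHomAdj S.X₂).homEquiv _ _).surjective t
  rw [rhomMap_homEquiv] at h
  have h0 : (ltMap S.f).app T ≫ φ = 0 := by
    apply ((DCoh.RSheafHomAdj S.X₁).homEquiv _ _).injective
    rw [h, Adjunction.homEquiv_unit, Functor.map_zero, comp_zero]
  obtain ⟨χ, rfl⟩ := lt_exact S hS T Y φ h0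
  exact ⟨(DCoh.RSheafHomAdj S.X₃).homEquiv _ _ χ, (rhomMap_homEquiv S.g χ).symm⟩

end Exact

end Groth.Agent.RHom

namespace Groth.Agent.RHom

open KFlat KFlat.Sch

variable {X : Scheme.{u}} {P Q Q' : CochainComplex X.Modules ℤ}
  [DCoh.HasLTensorCx P] [DCoh.HasLTensorCx Q] [DCoh.HasLTensorCx Q']

theorem ltMap_comp (f : P ⟶ Q) (g : Q ⟶ Q') : ltMap (f ≫ g) = ltMap f ≫ ltMap g := by
  refine Functor.leftDerived_ext (DCoh.LTensorCx Q') (ltCounit Q')
    (HomologicalComplex.quasiIso X.Modules (ComplexShape.up ℤ)) _ _ _ ?_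
  ext A : 2
  simp only [NatTrans.comp_app, Functor.whiskerLeft_app, Category.assoc]
  rw [ltMap_fac, ltMap_fac, reassoc_of% (ltMap_fac f A), Functor.map_comp, DerivedCategory.Q.map_comp]

theorem ltMap_id : ltMap (𝟙 P) = 𝟙 _ := by
  refine Functor.leftDerived_ext (DCoh.LTensorCx P) (ltCounit P)
    (HomologicalComplex.quasiIso X.Modules (ComplexShape.up ℤ)) _ _ _ ?_
  ext A : 2
  simp only [NatTrans.comp_app, Functor.whiskerLeft_app, NatTrans.id_app]
  rw [ltMap_fac, ((tcx (TX X)).obj A).map_id]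
  refine (congrArg (_ ≫ ·) (DerivedCategory.Q.map_id _)).trans ?_
  exact (Category.comp_id _).trans (Category.id_comp _).symm

theorem isIso_ltMap (f : P ⟶ Q) [QuasiIso f] : IsIso (ltMap f) := by
  suffices ∀ A, IsIso ((ltMap f).app A) from NatIso.isIso_of_isIso_app _
  intro A
  obtain ⟨R, hR, ⟨eA⟩⟩ : ∃ R : CochainComplex X.Modules ℤ, IsKFlat (TX X) R ∧
      Nonempty (DerivedCategory.Q.obj R ≅ A) := by
    obtain ⟨R, q, hR, hq⟩ := exists_kflat_res (DerivedCategory.Q.objPreimage A)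
    exact ⟨R, hR, ⟨asIso (DerivedCategory.Q.map q) ≪≫ DerivedCategory.Q.objObjPreimageIso A⟩⟩
  rw [← NatTrans.isIso_app_iff_of_iso (ltMap f) eA]
  haveI := isIso_counit_kflat P R hR
  haveI := isIso_counit_kflat Q R hR
  haveI : QuasiIso (((tcx (TX X)).obj R).map f) := by
    have h : IsKFlat (TX X).flip R := (isKFlat_flip_iff' _).2 hR
    exact IsKFlat.quasiIso_map₂ h f
  haveI : IsIso (DerivedCategory.Q.map (((tcx (TX X)).obj R).map f)) := inferInstance
  haveI : IsIso ((ltMap f).app (DerivedCategory.Q.obj R) ≫ (ltCounit Q).app R) := by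
    rw [ltMap_fac]
    infer_instance
  exact IsIso.of_isIso_comp_right ((ltMap f).app (DerivedCategory.Q.obj R)) ((ltCounit Q).app R)

variable [DCoh.HasRSheafHom P] [DCoh.HasRSheafHom Q] [DCoh.HasRSheafHom Q']

theorem rhomMap_comp (f : P ⟶ Q) (g : Q ⟶ Q') : rhomMap (f ≫ g) = rhomMap g ≫ rhomMap f := by
  rw [rhomMap, ltMap_comp, rhomMap, rhomMap, conjugateEquiv_comp]

theorem isIso_rhomMap (f : P ⟶ Q) [QuasiIso f] : IsIso (rhomMap f) :=
  haveI := isIso_ltMap f
  conjugateEquiv_iso _ _ _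

/-- `RHom(cone f, -) → RHom(Q, -) → RHom(P, -)` is exact on maps. -/
theorem rhom_exact_cone (f : P ⟶ Q) [DCoh.HasLTensorCx (CochainComplex.mappingCone f)]
    [DCoh.HasRSheafHom (CochainComplex.mappingCone f)] {T Y : DCoh.D X}
    (t : T ⟶ (DCoh.RSheafHom Q).obj Y) (h : t ≫ (rhomMap f).app Y = 0) :
    ∃ t' : T ⟶ (DCoh.RSheafHom (CochainComplex.mappingCone f)).obj Y,
      t = t' ≫ (rhomMap (CochainComplex.mappingCone.inr f)).app Y := by
  haveI := hasLTensorCx (cylSC f).X₁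
  haveI := hasLTensorCx (cylSC f).X₂
  haveI := hasLTensorCx (cylSC f).X₃
  haveI := hasRSheafHom (cylSC f).X₁
  haveI := hasRSheafHom (cylSC f).X₂
  haveI := hasRSheafHom (cylSC f).X₃
  let p : Q ⊞ CochainComplex.mappingCone (𝟙 P) ⟶ Q := biprod.fst
  haveI : QuasiIso p := inferInstanceAs (QuasiIso
    (fstHomotopyEquiv (X := Q) (CochainComplex.mappingCone.homotopyToZeroOfId P)).hom)
  let i : Q ⟶ Q ⊞ CochainComplex.mappingCone (𝟙 P) := biprod.inl
  have h1 : (t ≫ (rhomMap p).app Y) ≫ (rhomMap (cylSC f).f).app Y = 0 := by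
    rw [Category.assoc, ← NatTrans.comp_app, ← rhomMap_comp]
    have e : (cylSC f).f ≫ p = f := biprod.lift_fst _ _
    exact (congrArg (fun x => t ≫ (rhomMap x).app Y) e).trans h
  obtain ⟨t', ht'⟩ := rhom_exact (cylSC f) (cylSC_splitting f) _ h1
  haveI := isIso_rhomMap (cylCokerIsoCone f).inv
  refine ⟨t' ≫ (rhomMap (cylCokerIsoCone f).inv).app Y, ?_⟩
  have h2 := congrArg (· ≫ (rhomMap i).app Y) ht'
  rw [Category.assoc, Category.assoc, ← NatTrans.comp_app, ← NatTrans.comp_app, ← rhomMap_comp, ← rhomMap_comp] at h2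
  have e1 : i ≫ p = 𝟙 Q := biprod.inl_fst
  have e2 : i ≫ (cylSC f).g = CochainComplex.mappingCone.inr f ≫ (cylCokerIsoCone f).inv := by
    rw [← cancel_mono (cylCokerIsoCone f).hom, Category.assoc, Category.assoc, Iso.inv_hom_id, Category.comp_id]
    change biprod.inl ≫ cokernel.π (cylHom f) ≫ cylCokerToCone f = _
    rw [cylCokerToCone, cokernel.π_desc, cylToCone, biprod.inl_desc]
  rw [Category.assoc, ← NatTrans.comp_app, ← rhomMap_comp, ← e2, ← h2, e1]
  simp [rhomMap, ltMap_id]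

theorem rhomMap_inr_comp (f : P ⟶ Q) [DCoh.HasLTensorCx (CochainComplex.mappingCone f)]
    [DCoh.HasRSheafHom (CochainComplex.mappingCone f)] (Y : DCoh.D X) :
    (rhomMap (CochainComplex.mappingCone.inr f)).app Y ≫ (rhomMap f).app Y = 0 := by
  haveI := hasLTensorCx (cylSC f).X₁
  haveI := hasLTensorCx (cylSC f).X₂
  haveI := hasLTensorCx (cylSC f).X₃
  haveI := hasRSheafHom (cylSC f).X₁
  haveI := hasRSheafHom (cylSC f).X₂
  haveI := hasRSheafHom (cylSC f).X₃
  let p : Q ⊞ CochainComplex.mappingCone (𝟙 P) ⟶ Q := biprod.fst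
  let i : Q ⟶ Q ⊞ CochainComplex.mappingCone (𝟙 P) := biprod.inl
  haveI := isIso_rhomMap (cylCokerIsoCone f).inv
  haveI := isIso_rhomMap (cylCokerIsoCone f).hom
  have hc : biprod.desc (CochainComplex.mappingCone.inr f)
      (-CochainComplex.mappingCone.map (𝟙 P) f (𝟙 P) f (by simp)) = (cylSC f).g ≫ (cylCokerIsoCone f).hom :=
    (cokernel.π_desc (cylHom f) _ (cylHom_cylToCone f)).symm
  have h0 := rhomMap_comp_eq_zero (cylSC f) Y
  have hinr : CochainComplex.mappingCone.inr f = i ≫ (cylSC f).g ≫ (cylCokerIsoCone f).hom := by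
    rw [← hc, biprod.inl_desc]
  haveI : QuasiIso p := inferInstanceAs (QuasiIso
    (fstHomotopyEquiv (X := Q) (CochainComplex.mappingCone.homotopyToZeroOfId P)).hom)
  haveI := isIso_rhomMap p
  have e1 : (rhomMap p).app Y ≫ (rhomMap i).app Y = 𝟙 _ := by
    rw [← NatTrans.comp_app, ← rhomMap_comp, show i ≫ p = 𝟙 Q from biprod.inl_fst]
    simp [rhomMap, ltMap_id]
  have e2 : (rhomMap i).app Y ≫ (rhomMap p).app Y = 𝟙 _ := by
    rw [IsIso.eq_inv_of_hom_inv_id e1]
    simp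
  have e3 : (rhomMap f).app Y = (rhomMap p).app Y ≫ (rhomMap (cylSC f).f).app Y := by
    rw [← NatTrans.comp_app, ← rhomMap_comp]
    exact congrArg (fun x => (rhomMap x).app Y) (biprod.lift_fst f _).symm
  rw [hinr, rhomMap_comp, rhomMap_comp, e3]
  simp only [NatTrans.comp_app, Category.assoc]
  rw [reassoc_of% e2, h0, comp_zero]

end Groth.Agent.RHom
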