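import Groth.Agent.Lib.KFlat.LpullTensor
import Groth.Agent.Lib.KFlat.PullbackKFlat
import Groth.Agent.Lib.ModM1.ClosedImm
import Groth.Agent.Lib.RHom.Adj
import Groth.Agent.Lib.RHom.Trans
import Groth.Agent.Lib.KFlat.StalkCx
import Groth.Agent.Lib.RHom.Assoc
import Mathlib.Algebra.Homology.DerivedCategory.Basic

/-! The projection formula for closed immersions. -/

set_option autoImplicit false
set_option linter.unusedSectionVars false
set_option linter.style.haveILetI false
set_option backward.isDefEq.respectTransparency false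
set_option backward.isDefEq.respectTransparency.types false

universe u

open CategoryTheory CategoryTheory.Limits AlgebraicGeometry TopologicalSpace Opposite TensorProduct

attribute [local instance] HasDerivedCategory.standard

namespace Groth.Agent.RHom

open KFlat KFlat.Sch

variable {X Y : Scheme.{u}} (i : X ⟶ Y)

local notation "Pu" => Scheme.Modules.pushforward i
local notation "Pb" => Scheme.Modules.pullback i

/-- `i_* M ⊗ P ⟶ i_*(M ⊗ i^* P)`. -/
noncomputable def pushProj (M : X.Modules) (P : Y.Modules) :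
    ((TX Y).obj ((Pu).obj M)).obj P ⟶ (Pu).obj (((TX X).obj M).obj ((Pb).obj P)) :=
  M2.tensorMap (𝟙 _) ((Scheme.Modules.pullbackPushforwardAdjunction i).unit.app P) ≫
    M2.pushLax i M ((Pb).obj P)

theorem pushProj_tsec (M : X.Modules) (P : Y.Modules) {U : Y.Opens} (s : Γ((Pu).obj M, U)) (t : Γ(P, U)) :
    (pushProj i M P).app U (M2.tsec ((Pu).obj M) P s t) =
      M2.tsec M ((Pb).obj P) (U := i ⁻¹ᵁ U) s (M2.pullSec i P t) := by
  refine (congrArg ((M2.pushLax i M ((Pb).obj P)).app U)
    (M2.tensorMap_tsec (L := (Pu).obj M) (M := P) (𝟙 _) _ s t)).trans ?_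
  exact M2.mkHom_tsec (M2.laxBiMap i M ((Pb).obj P)) _ _

theorem pushProj_natural {M M' : X.Modules} (a : M ⟶ M') {P P' : Y.Modules} (b : P ⟶ P') :
    M2.tensorMap ((Pu).map a) b ≫ pushProj i M' P' =
      pushProj i M P ≫ (Pu).map (M2.tensorMap a ((Pb).map b)) := by
  refine M2.tensorMod_hom_ext fun U s t => ?_
  refine (congrArg ((pushProj i M' P').app U) (M2.tensorMap_tsec (L := (Pu).obj M) (M := P) _ b s t)).trans ?_
  refine (pushProj_tsec i M' P' _ _).trans ?_
  refine Eq.trans ?_ (congrArg (((Pu).map (M2.tensorMap a ((Pb).map b))).app U) (pushProj_tsec i M P s t)).symm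
  refine Eq.trans ?_ (M2.tensorMap_tsec (L := M) (M := (Pb).obj P) a ((Pb).map b) (U := i ⁻¹ᵁ U) s (M2.pullSec i P t)).symm
  refine congrArg (M2.tsec M' ((Pb).obj P') (U := i ⁻¹ᵁ U) _) ?_
  exact congrArg (fun φ => φ.app U t) ((Scheme.Modules.pullbackPushforwardAdjunction i).unit.naturality b)

section Closed

variable [IsClosedImmersion i]

theorem bijective_stalkPush (N : X.Modules) (z : X) :
    Function.Bijective (TopCat.Presheaf.stalkPushforward AddCommGrpCat.{u} i.base N.presheaf z) := by
  have := TopCat.Presheaf.stalkPushforward.stalkPushforward_iso_of_isInducing (C := AddCommGrpCat.{u})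
    (f := i.base) i.isClosedEmbedding.isInducing N.presheaf z
  exact ConcreteCategory.bijective_of_isIso _

theorem stalkPush_germ (N : X.Modules) (z : X) {U : Y.Opens} (h : i z ∈ U) (s : Γ((Pu).obj N, U)) :
    TopCat.Presheaf.stalkPushforward AddCommGrpCat.{u} i.base N.presheaf z
      (((Pu).obj N).presheaf.germ U (i z) h s) = N.presheaf.germ (i ⁻¹ᵁ U) z h s :=
  ConcreteCategory.congr_hom (TopCat.Presheaf.stalkPushforward_germ AddCommGrpCat.{u} i.base N.presheaf U z h) s

/-- The stalk of a direct image along a closed immersion. -/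
noncomputable def stalkPushEquiv (N : X.Modules) (z : X) :
    (M2.st (M2.pm ((Pu).obj N)) (i z) : Type u) ≃ₗ[Y.presheaf.stalk (i z)] (N.presheaf.stalk z : Type u) :=
  LinearEquiv.ofBijective (show (M2.st (M2.pm ((Pu).obj N)) (i z) : Type u) →ₗ[Y.presheaf.stalk (i z)]
      (N.presheaf.stalk z : Type u) from
    { toFun := fun a => TopCat.Presheaf.stalkPushforward AddCommGrpCat.{u} i.base N.presheaf z a
      map_add' := fun a b => map_add (TopCat.Presheaf.stalkPushforward AddCommGrpCat.{u} i.base N.presheaf z).hom a b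
      map_smul' := fun r a => by
        obtain ⟨U, hU, s, rfl⟩ := ((Pu).obj N).presheaf.exists_germ_eq a
        obtain ⟨V, hV, c, rfl⟩ := Y.presheaf.exists_germ_eq r
        have hW : i z ∈ U ⊓ V := ⟨hU, hV⟩
        rw [← TopCat.Presheaf.germ_res_apply ((Pu).obj N).presheaf (homOfLE (inf_le_left : U ⊓ V ≤ U)) (i z) hW s,
          ← TopCat.Presheaf.germ_res_apply Y.presheaf (homOfLE (inf_le_right : U ⊓ V ≤ V)) (i z) hW c,
          RingHom.id_apply]
        refine Eq.trans (congrArg _ (M2.sg_smul (M2.pm ((Pu).obj N)) hW _ _).symm) ?_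
        refine (stalkPush_germ i N z hW _).trans ?_
        rw [stalkPush_germ]
        refine (M2.sg_smul (M2.pm N) (U := i ⁻¹ᵁ (U ⊓ V)) (x := z) hW _ _).trans ?_
        refine Eq.trans ?_ (algebraMap_smul (M := (N.presheaf.stalk z : Type u)) (X.presheaf.stalk z) _ _)
        rw [M2.algebraMap_stAlg, Scheme.Hom.germ_stalkMap_apply]
        rfl })
    (bijective_stalkPush i N z)

set_option maxHeartbeats 1600000 in
theorem bijective_stalk_pushProj (M : X.Modules) (P : Y.Modules) (x : Y) :
    Function.Bijective ((M1.stalkAb x).map (pushProj i M P)) := by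
  by_cases hx : x ∈ Set.range i
  · obtain ⟨z, rfl⟩ := hx
    let A := Y.presheaf.stalk (i z)
    let B := X.presheaf.stalk z
    let N := ((TX X).obj M).obj ((Pb).obj P)
    let G := (TensorProduct.congr (stalkPushEquiv i M z) (LinearEquiv.refl A (P.presheaf.stalk (i z) : Type u))).toEquiv.trans
      ((TensorProduct.AlgebraTensorModule.cancelBaseChange A B B (M.presheaf.stalk z : Type u)
          (P.presheaf.stalk (i z) : Type u)).symm.toEquiv.trans
        (TensorProduct.congr (LinearEquiv.refl B (M.presheaf.stalk z : Type u)) (M2.pullStalkEquiv i z P)).toEquiv)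
    suffices e : ∀ a, M2.stalkEquiv M ((Pb).obj P) z
        (TopCat.Presheaf.stalkPushforward AddCommGrpCat.{u} i.base N.presheaf z
          (M2.stMap ((M2.pmF Y).map (pushProj i M P)) (i z) a)) =
        G (M2.stalkEquiv ((Pu).obj M) P (i z) a) by
      change Function.Bijective (M2.stMap ((M2.pmF Y).map (pushProj i M P)) (i z))
      refine (Function.Bijective.of_comp_iff'
        ((M2.stalkEquiv M ((Pb).obj P) z).bijective.comp (bijective_stalkPush i N z)) _).1 ?_
      rw [show (_ ∘ _) ∘ _ = fun a => G (M2.stalkEquiv ((Pu).obj M) P (i z) a) from funext e]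
      exact G.bijective.comp (M2.stalkEquiv ((Pu).obj M) P (i z)).bijective
    intro a
    obtain ⟨b, rfl⟩ := (M2.stalkEquiv ((Pu).obj M) P (i z)).symm.surjective a
    induction b using TensorProduct.induction_on with
    | zero => simp [G]
    | add b b' hb hb' =>
      simp only [map_add, hb, hb']
      simp [G]
    | tmul m n =>
      obtain ⟨U, hU, s, t, rfl, rfl⟩ := M2.exists_sg₂ (M2.pm ((Pu).obj M)) (M2.pm P) m n
      rw [LinearEquiv.apply_symm_apply]
      have e1 : (M2.stalkEquiv ((Pu).obj M) P (i z)).symm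
          (((Pu).obj M).presheaf.germ U (i z) hU s ⊗ₜ P.presheaf.germ U (i z) hU t) =
          (CohB1.tensorMod ((Pu).obj M) P).presheaf.germ U (i z) hU (M2.tsec ((Pu).obj M) P s t) :=
        (LinearEquiv.symm_apply_eq _).mpr (M2.stalkEquiv_tsec ((Pu).obj M) P (i z) hU s t).symm
      erw [e1]
      refine (congrArg (fun w => M2.stalkEquiv M ((Pb).obj P) z
        (TopCat.Presheaf.stalkPushforward AddCommGrpCat.{u} i.base N.presheaf z w))
        ((M2.stMap_sg ((M2.pmF Y).map (pushProj i M P)) _ _).trans (congrArg _ (pushProj_tsec i M P s t)))).trans ?_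
      refine (congrArg (M2.stalkEquiv M ((Pb).obj P) z) (stalkPush_germ i N z hU _)).trans ?_
      refine (M2.stalkEquiv_tsec _ _ z hU _ _).trans ?_
      change _ = (TensorProduct.congr (LinearEquiv.refl B (M.presheaf.stalk z : Type u)) (M2.pullStalkEquiv i z P))
        ((TensorProduct.AlgebraTensorModule.cancelBaseChange A B B (M.presheaf.stalk z : Type u)
          (P.presheaf.stalk (i z) : Type u)).symm
          ((TensorProduct.congr (stalkPushEquiv i M z) (LinearEquiv.refl A (P.presheaf.stalk (i z) : Type u)))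
            (M2.sg (M2.pm ((Pu).obj M)) U hU s ⊗ₜ[A] M2.sg (M2.pm P) U hU t)))
      refine Eq.trans ?_ (congrArg (fun w => (TensorProduct.congr (LinearEquiv.refl B (M.presheaf.stalk z : Type u))
        (M2.pullStalkEquiv i z P)) ((TensorProduct.AlgebraTensorModule.cancelBaseChange A B B
          (M.presheaf.stalk z : Type u) (P.presheaf.stalk (i z) : Type u)).symm w))
        (TensorProduct.congr_tmul _ _ _ _)).symm
      refine Eq.trans ?_ (congrArg (TensorProduct.congr (LinearEquiv.refl B (M.presheaf.stalk z : Type u))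
        (M2.pullStalkEquiv i z P)) (TensorProduct.AlgebraTensorModule.cancelBaseChange_symm_tmul A B B _ _)).symm
      refine Eq.trans ?_ (TensorProduct.congr_tmul _ _ _ _).symm
      exact congrArg₂ (fun a b => a ⊗ₜ[B] b) (stalkPush_germ i M z hU s).symm (M2.pullStalkEquiv_tmul i z P hU t).symm
  · have h1 : ∀ (N : X.Modules) (a : ((Pu).obj N).presheaf.stalk x), a = 0 := fun N a =>
      M1.eq_zero_stalk_push i N hx a
    haveI : Subsingleton (((Pu).obj M).presheaf.stalk x) := ⟨fun a b => (h1 M a).trans (h1 M b).symm⟩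
    haveI : Subsingleton ((CohB1.tensorMod ((Pu).obj M) P).presheaf.stalk x) :=
      (M2.stalkEquiv ((Pu).obj M) P x).toEquiv.subsingleton_congr.2 inferInstance
    exact ⟨fun a b _ => Subsingleton.elim (α := (CohB1.tensorMod ((Pu).obj M) P).presheaf.stalk x) a b,
      fun b => ⟨0, (map_zero _).trans (h1 _ b).symm⟩⟩

/-- `i_* M ⊗ P ≅ i_*(M ⊗ i^* P)`. -/
noncomputable def pushProjIso (M : X.Modules) (P : Y.Modules) :
    (Pu).obj (((TX X).obj M).obj ((Pb).obj P)) ≅ ((TX Y).obj ((Pu).obj M)).obj P :=
  haveI : IsIso (pushProj i M P) := (M1.isIso_iff_stalk _).mpr (bijective_stalk_pushProj i M P)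
  (asIso (pushProj i M P)).symm

theorem natural_pushProjIso : Natural₂ (TX X) (TX Y) (𝟭 _) (Pb) (Pu) (𝟭 _) (Pu) (pushProjIso i) where
  left {M M'} a P := by
    haveI : IsIso (pushProj i M P) := (M1.isIso_iff_stalk _).mpr (bijective_stalk_pushProj i M P)
    haveI : IsIso (pushProj i M' P) := (M1.isIso_iff_stalk _).mpr (bijective_stalk_pushProj i M' P)
    change (Pu).map (((TX X).map a).app ((Pb).obj P)) ≫ inv (pushProj i M' P) =
      inv (pushProj i M P) ≫ ((TX Y).map ((Pu).map a)).app P
    rw [IsIso.eq_inv_comp, ← Category.assoc, IsIso.comp_inv_eq, map_eq_tensorMap_left, map_eq_tensorMap_left,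
      pushProj_natural, CategoryTheory.Functor.map_id]
  right M {P P'} b := by
    haveI : IsIso (pushProj i M P) := (M1.isIso_iff_stalk _).mpr (bijective_stalk_pushProj i M P)
    haveI : IsIso (pushProj i M P') := (M1.isIso_iff_stalk _).mpr (bijective_stalk_pushProj i M P')
    change (Pu).map (((TX X).obj M).map ((Pb).map b)) ≫ inv (pushProj i M P') =
      inv (pushProj i M P) ≫ ((TX Y).obj ((Pu).obj M)).map b
    rw [IsIso.eq_inv_comp, ← Category.assoc, IsIso.comp_inv_eq, map_eq_tensorMap_right, map_eq_tensorMap_right,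
      ← (Pu).map_id M, pushProj_natural]

theorem preservesFiniteColimits_push : PreservesFiniteColimits (Pu) := by
  haveI : PreservesLimitsOfSize.{0, 0} (Pu) :=
    (Scheme.Modules.pullbackPushforwardAdjunction i).rightAdjoint_preservesLimits
  haveI : PreservesFiniteLimits (Pu) := inferInstance
  haveI : (Pu).Additive := inferInstance
  haveI : (Pu).PreservesEpimorphisms := ⟨fun {M N} f hf => by
    rw [M1.epi_iff_stalk] at hf ⊢
    intro x b
    by_cases hx : x ∈ Set.range i
    · obtain ⟨z, rfl⟩ := hx
      obtain ⟨c, hc⟩ := hf z (TopCat.Presheaf.stalkPushforward AddCommGrpCat.{u} i.base N.presheaf z b)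
      obtain ⟨a, rfl⟩ := (bijective_stalkPush i M z).2 c
      refine ⟨a, (bijective_stalkPush i N z).1 (Eq.trans ?_ hc)⟩
      obtain ⟨U, hU, s, rfl⟩ := ((Pu).obj M).presheaf.exists_germ_eq a
      refine (congrArg _ (TopCat.Presheaf.stalkFunctor_map_germ_apply U (i z) hU
        ((Scheme.Modules.toPresheaf Y).map ((Pu).map f)) s)).trans ?_
      refine (stalkPush_germ i N z hU _).trans ?_
      refine Eq.trans ?_ (congrArg _ (stalkPush_germ i M z hU s)).symm
      exact (TopCat.Presheaf.stalkFunctor_map_germ_apply (i ⁻¹ᵁ U) z hU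
        ((Scheme.Modules.toPresheaf X).map f) s).symm
    · exact ⟨0, (map_zero _).trans (M1.eq_zero_stalk_push i N hx b).symm⟩⟩
  haveI : (Pu).PreservesHomology := Functor.preservesHomology_of_preservesEpis_and_kernels _
  exact Functor.preservesFiniteColimits_of_preservesHomology _

instance preservesColimits_pushforward_of_isClosedImmersion : PreservesFiniteColimits (Pu) :=
  preservesFiniteColimits_push i

instance preservesLimits_pushforward : PreservesFiniteLimits (Pu) := by
  haveI : PreservesLimitsOfSize.{0, 0} (Pu) :=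
    (Scheme.Modules.pullbackPushforwardAdjunction i).rightAdjoint_preservesLimits
  infer_instance

/-- Stalks of direct images at points of the image. -/
noncomputable def stalkPushIso (z : X) : (Pu) ⋙ M1.stalkAb (i z) ≅ M1.stalkAb z :=
  NatIso.ofComponents
    (fun N => @asIso _ _ _ _ (TopCat.Presheaf.stalkPushforward AddCommGrpCat.{u} i.base N.presheaf z)
      (TopCat.Presheaf.stalkPushforward.stalkPushforward_iso_of_isInducing (C := AddCommGrpCat.{u})
        (f := i.base) i.isClosedEmbedding.isInducing N.presheaf z))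
    fun {N N'} f => by
      ext a
      obtain ⟨U, hU, s, rfl⟩ := ((Pu).obj N).presheaf.exists_germ_eq a
      change TopCat.Presheaf.stalkPushforward AddCommGrpCat.{u} i.base N'.presheaf z
          ((M1.stalkAb (i z)).map ((Pu).map f) (((Pu).obj N).presheaf.germ U (i z) hU s)) =
        (M1.stalkAb z).map f (TopCat.Presheaf.stalkPushforward AddCommGrpCat.{u} i.base N.presheaf z
          (((Pu).obj N).presheaf.germ U (i z) hU s))
      rw [stalkPush_germ i N z hU s, M1.germ_naturality, M1.germ_naturality]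
      exact stalkPush_germ i N' z hU _

instance preservesColimitsOfSize_pushforward : PreservesColimitsOfSize.{0, 0} (Pu) where
  preservesColimitsOfShape {J} _ := ⟨fun {K} => by
    haveI : IsIso (colimit.post K (Pu)) := by
      rw [M1.isIso_iff_stalk]
      intro x
      by_cases hx : x ∈ Set.range i
      · obtain ⟨z, rfl⟩ := hx
        haveI : PreservesColimit K (Pu ⋙ M1.stalkAb (i z)) :=
          preservesColimit_of_natIso K (stalkPushIso i z).symm
        haveI : IsIso ((M1.stalkAb (i z)).map (colimit.post K (Pu))) := by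
          haveI : IsIso (colimit.post (K ⋙ Pu) (M1.stalkAb (i z)) ≫
              (M1.stalkAb (i z)).map (colimit.post K (Pu))) := by
            rw [colimit.post_post]
            exact inferInstanceAs (IsIso (colimit.post K (Pu ⋙ M1.stalkAb (i z))))
          exact IsIso.of_isIso_comp_left (colimit.post (K ⋙ Pu) (M1.stalkAb (i z))) _
        exact ConcreteCategory.bijective_of_isIso _
      · have h0 : IsZero ((M1.stalkAb x).obj (colimit (K ⋙ Pu))) := by
          rw [IsZero.iff_id_eq_zero]
          refine (isColimitOfPreserves (M1.stalkAb x) (colimit.isColimit (K ⋙ Pu))).hom_ext fun j => ?_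
          ext a
          exact (congrArg _ (M1.eq_zero_stalk_push i (K.obj j) hx a)).trans
            ((map_zero _).trans (by simp))
        haveI := AddCommGrpCat.subsingleton_of_isZero h0
        exact ⟨fun a b _ => Subsingleton.elim a b,
          fun b => ⟨0, (map_zero _).trans (M1.eq_zero_stalk_push i _ hx b).symm⟩⟩
    exact preservesColimit_of_isIso_post (Pu) K⟩

theorem nonempty_rpushIso [DCoh.HasRpush i] : Nonempty (DCoh.Rpush i ≅ (Pu).mapDerivedCategory) := by
  haveI : ((Pu).mapDerivedCategory).IsRightDerivedFunctor (Pu).mapDerivedCategoryFactorsh.inv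
      (HomotopyCategory.quasiIso X.Modules (ComplexShape.up ℤ)) :=
    Functor.isRightDerivedFunctor_of_inverts _ _ _
  exact ⟨Functor.rightDerivedUnique (DCoh.Rpush i) (Pu).mapDerivedCategory
    ((DCoh.pushKh i).totalRightDerivedUnit DerivedCategory.Qh
      (HomotopyCategory.quasiIso X.Modules (ComplexShape.up ℤ)))
    (Pu).mapDerivedCategoryFactorsh.inv (HomotopyCategory.quasiIso X.Modules (ComplexShape.up ℤ))⟩

theorem nonempty_projection [DCoh.HasRpush i] (P : CochainComplex Y.Modules ℤ) (hP : IsKFlat (TX Y) P)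
    [DCoh.HasLTensorCx P] [DCoh.HasLTensorCx (((Pb).mapHomologicalComplex (ComplexShape.up ℤ)).obj P)]
    (E : DCoh.D X) :
    Nonempty ((DCoh.LTensorCx P).obj ((DCoh.Rpush i).obj E) ≅
      (DCoh.Rpush i).obj ((DCoh.LTensorCx (((Pb).mapHomologicalComplex (ComplexShape.up ℤ)).obj P)).obj E)) := by
  obtain ⟨r⟩ := nonempty_rpushIso i
  let E₀ := DerivedCategory.Q.objPreimage E
  let eE := DerivedCategory.Q.objObjPreimageIso E
  let P' := ((Pb).mapHomologicalComplex (ComplexShape.up ℤ)).obj P
  let F := (Pu).mapHomologicalComplex (ComplexShape.up ℤ)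
  haveI := isIso_counit_of_kflat_right P' (isKFlat_pullback i hP) E₀
  haveI := isIso_counit_of_kflat_right P hP (F.obj E₀)
  let c₁ : F.obj (((tcx (TX X)).obj E₀).obj P') ≅ ((tcx (TX Y)).obj (F.obj E₀)).obj P :=
    transferIso (TX X) (TX Y) (𝟭 _) (Pb) (Pu) (𝟭 _) (Pu) (natural_pushProjIso i) E₀ P
  exact ⟨(DCoh.LTensorCx P).mapIso (r.app E ≪≫ (Pu).mapDerivedCategory.mapIso eE.symm ≪≫
      (Pu).mapDerivedCategoryFactors.app E₀) ≪≫ asIso ((ltCounit P).app (F.obj E₀)) ≪≫
    DerivedCategory.Q.mapIso c₁.symm ≪≫ ((Pu).mapDerivedCategoryFactors.app _).symm ≪≫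
    (Pu).mapDerivedCategory.mapIso ((asIso ((ltCounit P').app E₀)).symm ≪≫ (DCoh.LTensorCx P').mapIso eE) ≪≫
    (r.app _).symm⟩

end Closed

end Groth.Agent.RHom
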