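import Groth.Agent.Lib.RHom.HomExact
import Groth.Agent.Lib.KInj.DerivedBrown
import Mathlib.CategoryTheory.EssentiallySmall
import Mathlib.CategoryTheory.Preadditive.Yoneda.Limits

/-! A model of the derived category with small Hom sets, and right adjoints from Brown representability. -/

set_option autoImplicit false
set_option linter.unusedSectionVars false
set_option linter.style.haveILetI false
set_option backward.isDefEq.respectTransparency false
set_option backward.isDefEq.respectTransparency.types false

universe w w' v u u'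

open CategoryTheory CategoryTheory.Limits CategoryTheory.Pretriangulated Opposite

namespace Groth.Agent.RHom

section Small

variable (A : Type u) [Category.{v} A] [Abelian A] [IsGrothendieckAbelian.{v} A]

theorem locallySmall_derivedCategory [HasDerivedCategory.{w} A] :
    LocallySmall.{v} (DerivedCategory A) where
  hom_small X Y := by
    obtain ⟨I, hI, ⟨e⟩⟩ := KInjLib.exists_iso_kInjective Y
    let K := DerivedCategory.Q.objPreimage X
    let eX := DerivedCategory.Q.objObjPreimageIso X
    refine small_of_surjective (α := K ⟶ I)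
      (f := fun f => eX.inv ≫ DerivedCategory.Q.map f ≫ e.inv) fun φ => ?_
    obtain ⟨f, hf⟩ := KInjLib.exists_map_eq (eX.hom ≫ φ ≫ e.hom)
    exact ⟨f, by dsimp only; rw [hf]; simp⟩

/-- The derived category with shrunk Hom sets. -/
@[instance_reducible]
noncomputable def smallDC : HasDerivedCategory.{v} A :=
  letI := HasDerivedCategory.standard A
  haveI := locallySmall_derivedCategory A
  { D := ShrinkHoms.{max u v} (DerivedCategory A)
    L := DerivedCategory.Q ⋙ (ShrinkHoms.equivalence (DerivedCategory A)).functor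
    hL := Functor.IsLocalization.of_equivalence_target DerivedCategory.Q _ _
      (ShrinkHoms.equivalence (DerivedCategory A)) (Iso.refl _) }

end Small

section Transfer

theorem hasBinaryProducts_of_pretriangulated (A : Type u) [Category.{v} A] [Abelian A] [HasDerivedCategory.{w} A] :
    HasBinaryProducts (DerivedCategory A) := inferInstance

variable (A : Type u) [Category.{v} A] [Abelian A] (h₁ : HasDerivedCategory.{w} A)
  (h₂ : HasDerivedCategory.{w'} A)

/-- The comparison of two models of the derived category. -/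
noncomputable def modelEquiv : @DerivedCategory A _ _ h₁ ≌ @DerivedCategory A _ _ h₂ :=
  Localization.uniq (@DerivedCategory.Q A _ _ h₁) (@DerivedCategory.Q A _ _ h₂)
    (HomologicalComplex.quasiIso A (ComplexShape.up ℤ))

/-- The comparison commutes with the localization functors. -/
noncomputable def modelEquivCompIso :
    @DerivedCategory.Q A _ _ h₁ ⋙ (modelEquiv A h₁ h₂).functor ≅ @DerivedCategory.Q A _ _ h₂ :=
  Localization.compUniqFunctor _ _ _

theorem additive_modelEquiv :
    @Functor.Additive _ _ _ _ (@DerivedCategory.instPreadditive A _ _ h₁) (@DerivedCategory.instPreadditive A _ _ h₂)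
      (modelEquiv A h₁ h₂).functor :=
  haveI : HasBinaryProducts (@DerivedCategory A _ _ h₁) :=
    @hasBinaryProducts_of_pretriangulated A _ _ h₁
  Functor.additive_of_preserves_binary_products _

theorem additive_modelEquiv_inverse :
    @Functor.Additive _ _ _ _ (@DerivedCategory.instPreadditive A _ _ h₂) (@DerivedCategory.instPreadditive A _ _ h₁)
      (modelEquiv A h₁ h₂).inverse :=
  haveI := additive_modelEquiv A h₁ h₂
  inferInstance

end Transfer

section Adjoint

variable {A : Type u} [Category.{v} A] [Abelian A] [IsGrothendieckAbelian.{v} A]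
  {B : Type u'} [Category.{v} B] [Abelian B] [IsGrothendieckAbelian.{v} B]

/-- Brown representability: exact functors preserving coproducts are left adjoints (small model). -/
theorem isLeftAdjoint_small [HasDerivedCategory.{v} A] [HasDerivedCategory.{v} B]
    (F : DerivedCategory A ⥤ DerivedCategory B) [F.Additive] (hF : HomExact F)
    [∀ ι : Type v, PreservesColimitsOfShape (Discrete ι) F] : F.IsLeftAdjoint := by
  have hrep : ∀ Y, (F.op ⋙ preadditiveYoneda.obj Y ⋙ forget AddCommGrpCat.{v}).IsRepresentable := by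
    intro Y
    haveI : ∀ κ : Type v, PreservesColimitsOfShape (Discrete κ)ᵒᵖ F := fun κ =>
      preservesColimitsOfShape_of_equiv (Discrete.opposite κ).symm F
    haveI : ∀ κ : Type v, PreservesLimitsOfShape (Discrete κ) F.op := fun κ =>
      preservesLimitsOfShape_op (Discrete κ) F
    haveI : (F.op ⋙ preadditiveYoneda.obj Y).IsHomological := by
      refine ⟨fun T hT => ?_⟩
      rw [ShortComplex.ab_exact_iff]
      intro (x₂ : F.obj T.obj₂.unop ⟶ Y) (hx₂ : F.map T.mor₂.unop ≫ x₂ = 0)
      obtain ⟨χ, hχ⟩ := hF _ (unop_distinguished T hT) x₂ hx₂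
      exact ⟨χ, hχ.symm⟩
    exact KInjLib.isRepresentable_derivedCategory (F.op ⋙ preadditiveYoneda.obj Y)
  choose G r using fun Y => (hrep Y).has_representation
  exact (Adjunction.adjunctionOfEquivRight (G_obj := G)
    (fun X Y => ((r Y).some.homEquiv (X := X)).symm)
    (fun X' X Y f g => ((r Y).some.comp_homEquiv_symm g f).symm)).isLeftAdjoint

/-- Exactness does not depend on the model of the derived category. -/
theorem homExact_transfer (hA₁ : HasDerivedCategory.{w} A) (hB₁ : HasDerivedCategory.{w} B)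
    (hA₂ : HasDerivedCategory.{w'} A) (hB₂ : HasDerivedCategory.{w'} B)
    (F : @DerivedCategory A _ _ hA₁ ⥤ @DerivedCategory B _ _ hB₁) (hF : @HomExact A _ _ hA₁ B _ _ hB₁ F)
    (F' : @DerivedCategory A _ _ hA₂ ⥤ @DerivedCategory B _ _ hB₂)
    (e : @DerivedCategory.Q A _ _ hA₁ ⋙ F ⋙ (modelEquiv B hB₁ hB₂).functor ≅
      @DerivedCategory.Q A _ _ hA₂ ⋙ F') : @HomExact A _ _ hA₂ B _ _ hB₂ F' := by
  intro T hT Y ψ hψ
  obtain ⟨X₀, Y₀, f, ⟨e₀⟩⟩ := (@DerivedCategory.mem_distTriang_iff A _ _ hA₂ T).1 hT
  refine @homExact_of_iso_triangle A _ _ hA₂ B _ _ hB₂ F' T _ e₀.symm (fun {Y} ψ hψ => ?_) Y ψ hψ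
  let eB := modelEquiv B hB₁ hB₂
  haveI := additive_modelEquiv B hB₁ hB₂
  obtain ⟨ψ', hψ'⟩ := eB.functor.map_surjective (e.hom.app Y₀ ≫ ψ ≫ (eB.counitIso.app Y).inv)
  have n₁ : eB.functor.map (F.map ((@DerivedCategory.Q A _ _ hA₁).map f)) ≫ e.hom.app Y₀ =
      e.hom.app X₀ ≫ F'.map ((@DerivedCategory.Q A _ _ hA₂).map f) := e.hom.naturality f
  have n₂ : eB.functor.map (F.map ((@DerivedCategory.Q A _ _ hA₁).map (CochainComplex.mappingCone.inr f))) ≫
      e.hom.app (CochainComplex.mappingCone f) =
      e.hom.app Y₀ ≫ F'.map ((@DerivedCategory.Q A _ _ hA₂).map (CochainComplex.mappingCone.inr f)) :=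
    e.hom.naturality _
  have hψ₀ : F'.map ((@DerivedCategory.Q A _ _ hA₂).map f) ≫ ψ = 0 := hψ
  have h0 : F.map ((@DerivedCategory.Q A _ _ hA₁).map f) ≫ ψ' = 0 := by
    apply eB.functor.map_injective
    rw [Functor.map_comp, hψ', eB.functor.map_zero, reassoc_of% n₁, reassoc_of% hψ₀, zero_comp, comp_zero]
  obtain ⟨χ', hχ'⟩ := hF _ (@DerivedCategory.mappingCone_triangle_distinguished A _ _ hA₁ _ _ f) ψ' h0
  refine ⟨e.inv.app _ ≫ eB.functor.map χ' ≫ (eB.counitIso.app Y).hom, ?_⟩
  change ψ = F'.map ((@DerivedCategory.Q A _ _ hA₂).map (CochainComplex.mappingCone.inr f)) ≫ _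
  rw [← cancel_epi (e.hom.app Y₀), ← reassoc_of% n₂]
  erw [Iso.hom_inv_id_app_assoc]
  rw [← Functor.map_comp_assoc]
  change _ = eB.functor.map (F.map _ ≫ χ') ≫ _
  rw [show F.map ((@DerivedCategory.Q A _ _ hA₁).map (CochainComplex.mappingCone.inr f)) ≫ χ' = ψ' from hχ'.symm,
    hψ']
  simp

/-- Brown representability: exact functors preserving coproducts are left adjoints. -/
theorem isLeftAdjoint_of_homExact [dA : HasDerivedCategory.{w} A] [dB : HasDerivedCategory.{w} B]
    (F : DerivedCategory A ⥤ DerivedCategory B) [F.Additive] (hF : HomExact F)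
    [∀ ι : Type v, PreservesColimitsOfShape (Discrete ι) F] : F.IsLeftAdjoint := by
  let hA := smallDC A
  let hB := smallDC B
  let eA := modelEquiv A dA hA
  let eB := modelEquiv B dB hB
  let F' := eA.inverse ⋙ F ⋙ eB.functor
  let u : eA.functor ⋙ F' ≅ F ⋙ eB.functor :=
    (Functor.associator _ _ _).symm ≪≫ Functor.isoWhiskerRight eA.unitIso.symm (F ⋙ eB.functor) ≪≫
      Functor.leftUnitor _
  let e : @DerivedCategory.Q A _ _ dA ⋙ F ⋙ eB.functor ≅ @DerivedCategory.Q A _ _ hA ⋙ F' :=
    Functor.isoWhiskerLeft _ u.symm ≪≫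
      (Functor.associator _ _ _).symm ≪≫ Functor.isoWhiskerRight (modelEquivCompIso A dA hA) F'
  haveI := additive_modelEquiv_inverse A dA hA
  haveI := additive_modelEquiv B dB hB
  haveI : F'.Additive := inferInstance
  haveI : ∀ κ : Type v, PreservesColimitsOfShape (Discrete κ) F' := fun κ => inferInstance
  haveI := @isLeftAdjoint_small A _ _ _ B _ _ _ hA hB F' _ (homExact_transfer dA dB hA hB F hF F' e) _
  exact Functor.isLeftAdjoint_of_iso (F := eA.functor ⋙ F' ⋙ eB.inverse)
    ((Functor.associator _ _ _).symm ≪≫ Functor.isoWhiskerRight u eB.inverse ≪≫ Functor.associator _ _ _ ≪≫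
      Functor.isoWhiskerLeft F eB.unitIso.symm ≪≫ Functor.rightUnitor _)

end Adjoint

end Groth.Agent.RHom
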