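import Groth.Agent.Lib.RHom.K0Db
import Groth.Agent.Lib.RHom.PCoh
import Groth.Agent.Lib.DPerf.Top
import Groth.Prelude.Def_CohB1

/-! Serre subcategories of coherent modules, and perfect complexes with supports. -/

set_option autoImplicit false
set_option linter.unusedSectionVars false
set_option linter.style.haveILetI false
set_option backward.isDefEq.respectTransparency false

universe u

open CategoryTheory CategoryTheory.Limits CategoryTheory.Pretriangulated AlgebraicGeometry

attribute [local instance] HasDerivedCategory.standard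

namespace Groth.Agent.K0Coh

variable {X : Scheme.{u}} [IsNoetherian X]

theorem serre_coh : K0Db.Serre (fun M : X.Modules => Coh.IsCoh M) where
  zero h := DPerf.isCoh_of_isZero h
  iso e h := RHom.mid_coh.iso e h
  ker f hM hN := M1.isCoh_kernel hM hN.1 f
  coker f hM hN := M1.isCoh_cokernel hM.1 hN f
  ext hS h₁ h₃ := RHom.isCoh_of_shortExact hS h₁ h₃

theorem serre_supported (Y : Set X) :
    K0Db.Serre (fun M : X.Modules => Coh.IsCoh M ∧ CohB1.support M ⊆ Y) where
  zero {M} h := ⟨DPerf.isCoh_of_isZero h, fun x hx => (hx (ModuleCat.subsingleton_of_isZero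
    ((KFlat.Sch.stF x).map_isZero h))).elim⟩
  iso {M N} e h := ⟨serre_coh.iso e h.1, fun x hx => h.2 fun hM =>
    hx (@Function.Surjective.subsingleton _ _ _ hM ((M1.epi_iff_stalk e.hom).1 inferInstance x))⟩
  ker {M N} f hM hN := ⟨serre_coh.ker f hM.1 hN.1, fun x hx => hM.2 fun h =>
    hx (@Function.Injective.subsingleton _ _ _ ((KFlat.Sch.mono_iff_stalk (kernel.ι f)).1 inferInstance x) h)⟩
  coker {M N} f hM hN := ⟨serre_coh.coker f hM.1 hN.1, fun x hx => hN.2 fun h =>
    hx (@Function.Surjective.subsingleton _ _ _ h ((M1.epi_iff_stalk (cokernel.π f)).1 inferInstance x))⟩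
  ext {S} hS h₁ h₃ := ⟨serre_coh.ext hS h₁.1 h₃.1, fun x hx => by
    by_contra hY
    have h1 : Subsingleton ((S.map (KFlat.Sch.stF x)).X₁) := not_not.1 fun h => hY (h₁.2 h)
    have h3 : Subsingleton ((S.map (KFlat.Sch.stF x)).X₃) := not_not.1 fun h => hY (h₃.2 h)
    exact hx (ModuleCat.subsingleton_of_isZero ((DPerf.shortExact_stF hS x).exact.isZero_of_both_zeros
      ((ModuleCat.isZero_of_subsingleton _).eq_of_src _ _) ((ModuleCat.isZero_of_subsingleton _).eq_of_tgt _ _)))⟩

theorem bd_of_isPerfect {K : DCoh.D X} (hK : DCoh.IsPerfect K) :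
    (∀ i, Coh.IsCoh (DCoh.HD K i)) ∧ ∃ a b : ℤ, K.IsGE a ∧ K.IsLE b := by
  have hpc : ∀ m, DCoh.IsPseudoCoherentD m K := fun m => DPerf.isPseudoCoherentD_of_approx
    (DPerf.Approx.mono_set (Set.subset_univ _) (DPerf.isPerfect_iff_approx.1 hK))
  obtain ⟨a, ha⟩ := DPerf.exists_isGE_of_perfect hK
  obtain ⟨b, hb⟩ := DPerf.exists_isLE_of_pseudoCoherent (hpc 0)
  exact ⟨fun i => DPerf.isCoh_HD_of_pseudoCoherent (m := i - 1) (hpc _) (DPerf.isQCoh_HD (hpc (i - 1)) (by omega)) (by omega), a, b, ha, hb⟩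

theorem isPerfect_of_bd (P : ObjectProperty X.Modules) (hP : K0Db.Serre P)
    (hperf : ∀ G : X.Modules, P G → DCoh.IsPerfect (DCoh.inD X G)) {K : DCoh.D X} (hK : K0Db.BdP P K) :
    DCoh.IsPerfect K :=
  DPerf.isPerfect_iff_approx.2 (K0Db.induction_bd (P := P) (fun L => DPerf.Approx Set.univ L)
    (fun e h => h.of_iso e) (fun T hT h₁ h₃ => DPerf.approx_univ₂ T hT h₁ h₃) (fun _ n h => h.shift_univ n)
    (fun M hM => DPerf.isPerfect_iff_approx.1 (hperf M hM)) (fun e => hP.iso e) K hK)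

end Groth.Agent.K0Coh
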