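import Groth.Agent.Lib.RHom.Adj
import Groth.Agent.Lib.RHom.Small
import Groth.Agent.Lib.DPush.Compact
import Groth.Agent.Lib.KFlat.Cone

/-! Derived tensor products preserve coproducts and have right adjoints. -/

set_option autoImplicit false
set_option linter.unusedSectionVars false
set_option linter.style.haveILetI false
set_option backward.isDefEq.respectTransparency false
set_option backward.isDefEq.respectTransparency.types false

universe u

open CategoryTheory CategoryTheory.Limits AlgebraicGeometry

attribute [local instance] HasDerivedCategory.standard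

namespace Groth.Agent.RHom

open KFlat KFlat.Sch

variable {X : Scheme.{u}} (E : CochainComplex X.Modules ℤ) [DCoh.HasLTensorCx E]

/-- The counit of `- ⊗^L E`. -/
noncomputable abbrev ltCounit :
    DerivedCategory.Q ⋙ DCoh.LTensorCx E ⟶ (tcx (TX X)).flip.obj E ⋙ DerivedCategory.Q :=
  (DCoh.tensorCxQ E).totalLeftDerivedCounit DerivedCategory.Q
    (HomologicalComplex.quasiIso X.Modules (ComplexShape.up ℤ))

omit E in
theorem exists_kflat_res (K : CochainComplex X.Modules ℤ) :
    ∃ (K' : CochainComplex X.Modules ℤ) (q : K' ⟶ K), IsKFlat (TX X) K' ∧ QuasiIso q :=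
  ⟨resObj (cover X) K, resπ (cover X) K, (isAdapted_resObj K).1, quasiIso_resπ (cover X) K⟩

omit E in
theorem preservesColimitsOfShape_TX (ι : Type u) (M : X.Modules) :
    PreservesColimitsOfShape (Discrete ι) ((TX X).obj M) ∧
      PreservesColimitsOfShape (Discrete ι) ((TX X).flip.obj M) :=
  ⟨KFlat.Site.preservesColimitsOfShape_obj (O := X.sheaf) M, KFlat.Site.preservesColimitsOfShape_flip_obj (O := X.sheaf) M⟩

omit E in
theorem isKFlat_sigma {ι : Type u} (Z : ι → CochainComplex X.Modules ℤ) (h : ∀ i, IsKFlat (TX X) (Z i)) :
    IsKFlat (TX X) (∐ Z) := by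
  haveI : HasFiniteBiproducts X.Modules := Abelian.hasFiniteBiproducts
  haveI : AB4OfSize.{u} X.Modules := AB4.of_AB5 X.Modules
  haveI := fun M : X.Modules => (preservesColimitsOfShape_TX ι M).1
  haveI := fun M : X.Modules => (preservesColimitsOfShape_TX ι M).2
  exact IsKFlat.colimit (coproductIsCoproduct Z) fun i => h i.as

/-- `- ⊗^L E` preserves coproducts. -/
theorem preservesCoproducts_LT (ι : Type u) : PreservesColimitsOfShape (Discrete ι) (DCoh.LTensorCx E) := by
  haveI := fun M : X.Modules => (preservesColimitsOfShape_TX ι M).1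
  haveI := fun M : X.Modules => (preservesColimitsOfShape_TX ι M).2
  haveI := preservesColimitsOfShape_right (T := TX X) (J := Discrete ι) E
  exact preservesCoproducts_of_adapted (fun Z => preservesColimit_of_preserves_colimit_cocone (coproductIsCoproduct Z)
      ((Cofan.isColimitMapCoconeEquiv _ _ _).symm (KInjLib.isColimitSigma Z)))
    (DCoh.LTensorCx E) (fun K => IsKFlat (TX X) K) exists_kflat_res isKFlat_sigma (ltCounit E)
    (fun K hK => isIso_counit_kflat E K hK)

instance additive_LT : (DCoh.LTensorCx E).Additive := by
  haveI := preservesCoproducts_LT E (ULift.{u} WalkingPair)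
  haveI : PreservesColimitsOfShape (Discrete WalkingPair) (DCoh.LTensorCx E) :=
    preservesColimitsOfShape_of_equiv (Discrete.equivalence Equiv.ulift) _
  haveI := preservesCoproducts_LT E PEmpty.{u + 1}
  haveI : PreservesColimitsOfShape (Discrete PEmpty.{1}) (DCoh.LTensorCx E) :=
    preservesColimitsOfShape_of_equiv (Discrete.equivalence (Equiv.equivPEmpty PEmpty.{u + 1}).symm.symm) _
  haveI : (DCoh.LTensorCx E).PreservesZeroMorphisms := inferInstance
  haveI := preservesBinaryBiproducts_of_preservesBinaryCoproducts (DCoh.LTensorCx E)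
  exact Functor.additive_of_preservesBinaryBiproducts _

/-- `- ⊗^L E` turns triangles into exact sequences. -/
theorem homExact_LT : HomExact (DCoh.LTensorCx E) := by
  refine homExact_of_adapted (DCoh.LTensorCx E) (splitPres_right (TX X) E) (fun K => IsKFlat (TX X) K)
    exists_kflat_res (fun {K L} φ hK hL => ?_) (ltCounit E) (fun K hK => isIso_counit_kflat E K hK)
  exact ⟨hL.biprod (isKFlat_of_contractible (CochainComplex.mappingCone.homotopyToZeroOfId K)),
    IsKFlat.cylCoker φ hK hL⟩

/-- The derived category of a scheme is closed: internal hom exists. -/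
theorem hasRSheafHom : DCoh.HasRSheafHom E :=
  haveI := fun ι : Type u => preservesCoproducts_LT E ι
  isLeftAdjoint_of_homExact (DCoh.LTensorCx E) (homExact_LT E)

end Groth.Agent.RHom
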