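import Groth.Agent.Lib.RHom.Adj
import Groth.Agent.Lib.RHom.Exist

/-! Natural transformations given on K-flat complexes. -/

set_option autoImplicit false
set_option linter.unusedSectionVars false
set_option linter.style.haveILetI false
set_option backward.isDefEq.respectTransparency false
set_option backward.isDefEq.respectTransparency.types false

universe u

open CategoryTheory CategoryTheory.Limits AlgebraicGeometry

attribute [local instance] HasDerivedCategory.standard

namespace Groth.Agent.RHom

open KFlat KFlat.Sch

variable {X : Scheme.{u}} {F G : DCoh.D X ⥤ DCoh.D X}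

/-- A natural family on K-flat complexes. -/
structure KNat (F G : DCoh.D X ⥤ DCoh.D X) where
  /-- the components -/
  app : ∀ R : CochainComplex X.Modules ℤ, IsKFlat (TX X) R →
    (F.obj (DerivedCategory.Q.obj R) ⟶ G.obj (DerivedCategory.Q.obj R))
  nat : ∀ {R R' : CochainComplex X.Modules ℤ} (hR : IsKFlat (TX X) R) (hR' : IsKFlat (TX X) R') (f : R ⟶ R'),
    F.map (DerivedCategory.Q.map f) ≫ app R' hR' = app R hR ≫ G.map (DerivedCategory.Q.map f)

/-- The family after resolution. -/
noncomputable def KNat.res (τ : KNat F G) :
    resFunctor (cover X) ⋙ DerivedCategory.Q ⋙ F ⟶ resFunctor (cover X) ⋙ DerivedCategory.Q ⋙ G where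
  app K := τ.app (resObj (cover X) K) (isAdapted_resObj K).1
  naturality K K' f := τ.nat (isAdapted_resObj K).1 (isAdapted_resObj K').1 ((resFunctor (cover X)).map f)

/-- The natural transformation extending the family. -/
noncomputable def KNat.lift (τ : KNat F G) : F ⟶ G :=
  Localization.liftNatTrans DerivedCategory.Q (HomologicalComplex.quasiIso X.Modules (ComplexShape.up ℤ))
    (DerivedCategory.Q ⋙ F) (DerivedCategory.Q ⋙ G) F G
    (Functor.whiskerRight (resQIso (cover X)).inv F ≫ τ.res ≫ Functor.whiskerRight (resQIso (cover X)).hom G)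

theorem KNat.lift_app (τ : KNat F G) (R : CochainComplex X.Modules ℤ) (hR : IsKFlat (TX X) R) :
    τ.lift.app (DerivedCategory.Q.obj R) = τ.app R hR := by
  rw [KNat.lift, Localization.liftNatTrans_app]
  have h : (resQIso (cover X)).hom.app R = DerivedCategory.Q.map (resπ (cover X) R) := rfl
  simp only [Localization.Lifting.iso, Iso.refl_hom, Iso.refl_inv, NatTrans.id_app,
    NatTrans.comp_app, Functor.whiskerRight_app, Category.assoc]
  haveI : IsIso (F.map ((resQIso (cover X)).hom.app R)) := inferInstance
  refine (Category.id_comp _).trans ?_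
  refine (congrArg (fun t => _ ≫ τ.res.app R ≫ t) (Category.comp_id _)).trans ?_
  rw [← cancel_epi (F.map ((resQIso (cover X)).hom.app R)), ← Category.assoc, ← Functor.map_comp,
    Iso.hom_inv_id_app, CategoryTheory.Functor.map_id, Category.id_comp, h]
  exact (τ.nat (isAdapted_resObj R).1 hR (resπ (cover X) R)).symm

end Groth.Agent.RHom
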