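import Groth.Agent.Lib.KFlat.Cone
import Groth.Agent.Lib.KInj.Derived
import Mathlib.Algebra.Homology.DerivedCategory.ShortExact
import Mathlib.CategoryTheory.Triangulated.Yoneda
import Mathlib.Algebra.Homology.DerivedCategory.Fractions

/-! Functors on derived categories which turn triangles into exact sequences of maps. -/

set_option autoImplicit false
set_option linter.unusedSectionVars false
set_option linter.style.haveILetI false
set_option backward.isDefEq.respectTransparency false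
set_option backward.isDefEq.respectTransparency.types false

universe w w' v v' u u'

open CategoryTheory CategoryTheory.Limits CategoryTheory.Pretriangulated

namespace Groth.Agent.RHom

variable {A : Type u} [Category.{v} A] [Abelian A] [HasDerivedCategory.{w} A]
  {B : Type u'} [Category.{v'} B] [Abelian B] [HasDerivedCategory.{w'} B]

/-- `Hom(F -, Y)` is exact at the middle of distinguished triangles. -/
def HomExact (F : DerivedCategory A ⥤ DerivedCategory B) : Prop :=
  ∀ T : Triangle (DerivedCategory A), T ∈ distTriang _ → ∀ {Y : DerivedCategory B} (ψ : F.obj T.obj₂ ⟶ Y),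
    F.map T.mor₁ ≫ ψ = 0 → ∃ χ : F.obj T.obj₃ ⟶ Y, ψ = F.map T.mor₂ ≫ χ

/-- It suffices to test exactness after moving along an isomorphism of triangles. -/
theorem homExact_of_iso_triangle (F : DerivedCategory A ⥤ DerivedCategory B) {T T' : Triangle (DerivedCategory A)}
    (e : T' ≅ T)
    (h : ∀ {Y : DerivedCategory B} (ψ : F.obj T'.obj₂ ⟶ Y), F.map T'.mor₁ ≫ ψ = 0 →
      ∃ χ : F.obj T'.obj₃ ⟶ Y, ψ = F.map T'.mor₂ ≫ χ)
    {Y : DerivedCategory B} (ψ : F.obj T.obj₂ ⟶ Y) (hψ : F.map T.mor₁ ≫ ψ = 0) :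
    ∃ χ : F.obj T.obj₃ ⟶ Y, ψ = F.map T.mor₂ ≫ χ := by
  have h1 : F.map T'.mor₁ ≫ F.map e.hom.hom₂ ≫ ψ = 0 := by
    rw [← F.map_comp_assoc, e.hom.comm₁, F.map_comp_assoc, hψ, comp_zero]
  obtain ⟨χ, hχ⟩ := h _ h1
  refine ⟨F.map e.inv.hom₃ ≫ χ, ?_⟩
  rw [← F.map_comp_assoc, e.inv.comm₂, F.map_comp_assoc, ← hχ, ← F.map_comp_assoc,
    e.inv_hom_id_triangle_hom₂]
  simp

variable {G : CochainComplex A ℤ ⥤ CochainComplex B ℤ} [G.Additive]

/-- A functor computed by a split-preserving functor on an adapted class is exact on triangles. -/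
theorem homExact_of_adapted (F : DerivedCategory A ⥤ DerivedCategory B) (hG : KFlat.SplitPres G)
    (P : CochainComplex A ℤ → Prop) (hres : ∀ K, ∃ (K' : CochainComplex A ℤ) (q : K' ⟶ K), P K' ∧ QuasiIso q)
    (hcyl : ∀ {K L : CochainComplex A ℤ} (φ : K ⟶ L), P K → P L →
      P (L ⊞ CochainComplex.mappingCone (𝟙 K)) ∧ P (KFlat.cylCoker φ))
    (η : DerivedCategory.Q ⋙ F ⟶ G ⋙ DerivedCategory.Q) (hη : ∀ K, P K → IsIso (η.app K)) :
    HomExact F := by
  intro T hT Y ψ hψ
  obtain ⟨K₀, L₀, φ₀, ⟨e₀⟩⟩ := (DerivedCategory.mem_distTriang_iff T).1 hT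
  obtain ⟨L, t, hL, ht⟩ := hres L₀
  obtain ⟨Z, s, hs, g, hg⟩ := DerivedCategory.right_fac
    (DerivedCategory.Q.map φ₀ ≫ inv (DerivedCategory.Q.map t))
  obtain ⟨K, r, hK, hr⟩ := hres Z
  let φ : K ⟶ L := r ≫ g
  obtain ⟨hcone, hC⟩ := hcyl φ hK hL
  let S := KFlat.cylSC φ
  have hS := KFlat.cylSC_shortExact φ
  let a : DerivedCategory.Q.obj K ≅ DerivedCategory.Q.obj K₀ :=
    asIso (DerivedCategory.Q.map r ≫ DerivedCategory.Q.map s)
  haveI : IsIso (DerivedCategory.Q.map (biprod.fst : L ⊞ CochainComplex.mappingCone (𝟙 K) ⟶ L)) := by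
    rw [DerivedCategory.isIso_Q_map_iff_quasiIso]
    exact inferInstanceAs (QuasiIso
      (KFlat.fstHomotopyEquiv (X := L) (CochainComplex.mappingCone.homotopyToZeroOfId K)).hom)
  let b : DerivedCategory.Q.obj S.X₂ ≅ DerivedCategory.Q.obj L₀ :=
    asIso (DerivedCategory.Q.map (biprod.fst : L ⊞ CochainComplex.mappingCone (𝟙 K) ⟶ L)) ≪≫
      asIso (DerivedCategory.Q.map t)
  have hab : DerivedCategory.Q.map S.f ≫ b.hom = a.hom ≫ DerivedCategory.Q.map φ₀ := by
    have h1 : DerivedCategory.Q.map S.f ≫ DerivedCategory.Q.map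
        (biprod.fst : L ⊞ CochainComplex.mappingCone (𝟙 K) ⟶ L) = DerivedCategory.Q.map φ := by
      rw [← Functor.map_comp]
      exact congrArg _ (biprod.lift_fst _ _)
    have h2 : DerivedCategory.Q.map g ≫ DerivedCategory.Q.map t =
        DerivedCategory.Q.map s ≫ DerivedCategory.Q.map φ₀ := by
      have h3 := congrArg (fun x => DerivedCategory.Q.map s ≫ x ≫ DerivedCategory.Q.map t) hg
      simpa using h3.symm
    simp only [a, b, Iso.trans_hom, asIso_hom, Category.assoc]
    rw [reassoc_of% h1]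
    simp only [φ, Functor.map_comp, Category.assoc, h2]
  let e : DerivedCategory.triangleOfSES hS ≅ T :=
    isoTriangleOfIso₁₂ _ _ (DerivedCategory.triangleOfSES_distinguished hS)
      (DerivedCategory.mappingCone_triangle_distinguished φ₀) a b hab ≪≫ e₀.symm
  refine homExact_of_iso_triangle F e (fun {Y} ψ hψ => ?_) ψ hψ
  have hi₁ := hη _ hK
  have hi₂ := hη _ hcone
  have hi₃ := hη _ hC
  let T' := DerivedCategory.triangleOfSES (hG.shortExact S (KFlat.cylSC_splitting φ))
  have hT' : T' ∈ distTriang _ := DerivedCategory.triangleOfSES_distinguished _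
  have n₁ : F.map (DerivedCategory.Q.map S.f) ≫ η.app S.X₂ = η.app S.X₁ ≫ DerivedCategory.Q.map (G.map S.f) :=
    η.naturality S.f
  have n₂ : F.map (DerivedCategory.Q.map S.g) ≫ η.app S.X₃ = η.app S.X₂ ≫ DerivedCategory.Q.map (G.map S.g) :=
    η.naturality S.g
  have h0 : T'.mor₁ ≫ @inv _ _ _ _ (η.app S.X₂) hi₂ ≫ ψ = 0 := by
    rw [← cancel_epi (η.app S.X₁), comp_zero]
    change η.app S.X₁ ≫ DerivedCategory.Q.map (G.map S.f) ≫ _ ≫ ψ = 0
    rw [← reassoc_of% n₁, IsIso.hom_inv_id_assoc]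
    exact hψ
  obtain ⟨χ, hχ⟩ := Triangle.yoneda_exact₂ T' hT' _ h0
  refine ⟨η.app S.X₃ ≫ χ, ?_⟩
  change ψ = F.map (DerivedCategory.Q.map S.g) ≫ η.app S.X₃ ≫ χ
  rw [reassoc_of% n₂]
  exact (IsIso.inv_comp_eq _).1 hχ

/-- A functor computed by a coproduct-preserving functor on an adapted class preserves coproducts. -/
theorem preservesCoproducts_of_adapted {ι : Type v} [IsGrothendieckAbelian.{v} A]
    (hQ : ∀ Z : ι → CochainComplex B ℤ, PreservesColimit (Discrete.functor Z)
      (DerivedCategory.Q : CochainComplex B ℤ ⥤ DerivedCategory B))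
    (F : DerivedCategory A ⥤ DerivedCategory B) [PreservesColimitsOfShape (Discrete ι) G]
    (P : CochainComplex A ℤ → Prop) (hres : ∀ K, ∃ (K' : CochainComplex A ℤ) (q : K' ⟶ K), P K' ∧ QuasiIso q)
    (hsum : ∀ Z : ι → CochainComplex A ℤ, (∀ i, P (Z i)) → P (∐ Z))
    (η : DerivedCategory.Q ⋙ F ⟶ G ⋙ DerivedCategory.Q) (hη : ∀ K, P K → IsIso (η.app K)) :
    PreservesColimitsOfShape (Discrete ι) F := by
  refine ⟨fun {K} => ?_⟩
  choose Z q hZ hq using fun i => hres (DerivedCategory.Q.objPreimage (K.obj ⟨i⟩))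
  let W : Discrete ι ⥤ CochainComplex A ℤ := Discrete.functor Z
  let e : W ⋙ DerivedCategory.Q ≅ K := Discrete.natIso fun i =>
    @asIso _ _ _ _ (DerivedCategory.Q.map (q i.as))
      ((DerivedCategory.isIso_Q_map_iff_quasiIso (C := A) _).2 (hq i.as)) ≪≫
        DerivedCategory.Q.objObjPreimageIso (K.obj i)
  haveI : PreservesColimit W (DerivedCategory.Q : CochainComplex A ℤ ⥤ DerivedCategory A) :=
    preservesColimit_of_preserves_colimit_cocone (coproductIsCoproduct Z)
      ((Cofan.isColimitMapCoconeEquiv _ _ _).symm (KInjLib.isColimitSigma Z))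
  have hc : IsColimit ((G ⋙ DerivedCategory.Q).mapCocone (Cofan.mk (∐ Z) (Sigma.ι Z))) := by
    haveI : PreservesColimit (W ⋙ G) (DerivedCategory.Q : CochainComplex B ℤ ⥤ DerivedCategory B) :=
      haveI := hQ fun i => G.obj (Z i)
      preservesColimit_of_iso_diagram (K₁ := Discrete.functor fun i => G.obj (Z i)) _
        (Discrete.natIso fun _ => Iso.refl _)
    exact isColimitOfPreserves (G ⋙ DerivedCategory.Q) (coproductIsCoproduct Z)
  haveI : PreservesColimit (W ⋙ DerivedCategory.Q) F := by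
    refine preservesColimit_of_preserves_colimit_cocone
      (isColimitOfPreserves DerivedCategory.Q (coproductIsCoproduct Z)) ?_
    let α : W ⋙ DerivedCategory.Q ⋙ F ≅ W ⋙ G ⋙ DerivedCategory.Q :=
      NatIso.ofComponents (fun i => @asIso _ _ _ _ (η.app (W.obj i)) (hη _ (hZ i.as)))
        fun f => η.naturality (W.map f)
    refine (IsColimit.equivOfNatIsoOfIso α _ _ ?_).symm hc
    exact Cocone.ext (@asIso _ _ _ _ (η.app (∐ Z)) (hη _ (hsum Z hZ))) fun i => by
      have := η.naturality (Sigma.ι Z i.as)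
      dsimp [α] at this ⊢
      rw [Category.assoc, IsIso.inv_comp_eq]
      exact this
  exact preservesColimit_of_iso_diagram F e

end Groth.Agent.RHom
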