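import Groth.Agent.Lib.RHom.Assoc
import Groth.Agent.Lib.RHom.Devissage
import Mathlib.Algebra.Homology.BifunctorShift

/-! Shifting the first factor of total tensor products. -/

set_option autoImplicit false
set_option linter.unusedSectionVars false
set_option linter.style.haveILetI false
set_option backward.isDefEq.respectTransparency false
set_option backward.isDefEq.respectTransparency.types false

universe u

open CategoryTheory CategoryTheory.Limits AlgebraicGeometry

attribute [local instance] HasDerivedCategory.standard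

namespace Groth.Agent.RHom

open KFlat KFlat.Sch

variable {X : Scheme.{u}}

/-- `R[n] ⊗ P ≅ (R ⊗ P)[n]`, without signs. -/
noncomputable def sh₁ (R P : CochainComplex X.Modules ℤ) (n : ℤ) :
    ((tcx (TX X)).obj (R⟦n⟧)).obj P ≅ (((tcx (TX X)).obj R).obj P)⟦n⟧ :=
  CochainComplex.mapBifunctorShift₁Iso R P (TX X) n

theorem ι_sh₁ (R P : CochainComplex X.Modules ℤ) (n p q m : ℤ) (h : p + q = m) :
    ιt (TX X) (R⟦n⟧) P p q m h ≫ (sh₁ R P n).hom.f m = ιt (TX X) R P (p + n) q (m + n) (by omega) := by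
  refine (CochainComplex.ι_mapBifunctorShift₁Iso_hom_f R P (TX X) n p q m h (p + n) (m + n) rfl rfl).trans ?_
  simp [CochainComplex.shiftFunctorObjXIso, HomologicalComplex.XIsoOfEq]
  exact (congrArg (· ≫ _) ((NatTrans.congr_app ((TX X).map_id (R.X (p + n))) (P.X q)))).trans (Category.id_comp _)

theorem sh₁_natural_left {R R' : CochainComplex X.Modules ℤ} (f : R ⟶ R') (P : CochainComplex X.Modules ℤ) (n : ℤ) :
    ((tcx (TX X)).map (f⟦n⟧')).app P ≫ (sh₁ R' P n).hom =
      (sh₁ R P n).hom ≫ (((tcx (TX X)).map f).app P)⟦n⟧' := by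
  refine HomologicalComplex.hom_ext _ _ fun m => tcx_hom_ext (TX X) fun p q h => ?_
  rw [HomologicalComplex.comp_f, HomologicalComplex.comp_f, ← Category.assoc, ι_tcx_map₁, Category.assoc, ι_sh₁,
    ← Category.assoc, ι_sh₁]
  exact (ι_tcx_map₁ (TX X) f P (p + n) q (m + n) (by omega)).symm

theorem sh₁_natural_right (R : CochainComplex X.Modules ℤ) {P P' : CochainComplex X.Modules ℤ} (g : P ⟶ P') (n : ℤ) :
    ((tcx (TX X)).obj (R⟦n⟧)).map g ≫ (sh₁ R P' n).hom =
      (sh₁ R P n).hom ≫ (((tcx (TX X)).obj R).map g)⟦n⟧' := by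
  refine HomologicalComplex.hom_ext _ _ fun m => tcx_hom_ext (TX X) fun p q h => ?_
  rw [HomologicalComplex.comp_f, HomologicalComplex.comp_f, ← Category.assoc, ι_tcx_map₂, Category.assoc, ι_sh₁,
    ← Category.assoc, ι_sh₁]
  exact (ι_tcx_map₂ (TX X) R g (p + n) q (m + n) (by omega)).symm

theorem ι₂₃_sh₁ (R D K : CochainComplex X.Modules ℤ) (n i j k m : ℤ) (h : i + j + k = m) :
    HomologicalComplex.mapBifunctor₂₃.ι (TX X) (TX X) (R⟦n⟧) D K (ComplexShape.up ℤ) (ComplexShape.up ℤ)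
          (ComplexShape.up ℤ) i j k m h ≫ (sh₁ R (((tcx (TX X)).obj D).obj K) n).hom.f m =
      HomologicalComplex.mapBifunctor₂₃.ι (TX X) (TX X) R D K (ComplexShape.up ℤ) (ComplexShape.up ℤ)
          (ComplexShape.up ℤ) (i + n) j k (m + n) (show i + n + j + k = m + n by omega) := by
  have h1 : i + (j + k) = m := by omega
  have h2 : i + n + (j + k) = m + n := by omega
  rw [HomologicalComplex.mapBifunctor₂₃.ι_eq _ _ _ _ _ _ _ _ i j k (j + k) m rfl h1,
    HomologicalComplex.mapBifunctor₂₃.ι_eq _ _ _ _ _ _ _ _ (i + n) j k (j + k) (m + n) rfl h2]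
  exact (Category.assoc _ _ _).trans (congrArg (_ ≫ ·) (ι_sh₁ R (((tcx (TX X)).obj D).obj K) n i (j + k) m h1))

theorem ι₁₂_sh₁ (R D K : CochainComplex X.Modules ℤ) (n i j k m : ℤ) (h : i + j + k = m) :
    HomologicalComplex.mapBifunctor₁₂.ι (TX X) (TX X) (R⟦n⟧) D K (ComplexShape.up ℤ) (ComplexShape.up ℤ)
        i j k m h ≫ (((tcx (TX X)).map (sh₁ R D n).hom).app K).f m ≫
          (sh₁ (((tcx (TX X)).obj R).obj D) K n).hom.f m =
      HomologicalComplex.mapBifunctor₁₂.ι (TX X) (TX X) R D K (ComplexShape.up ℤ) (ComplexShape.up ℤ)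
        (i + n) j k (m + n) (show i + n + j + k = m + n by omega) := by
  have h1 : i + n + j = i + j + n := by omega
  have h2 : i + j + n + k = m + n := by omega
  rw [HomologicalComplex.mapBifunctor₁₂.ι_eq _ _ _ _ _ _ _ i j k (i + j) m rfl h,
    HomologicalComplex.mapBifunctor₁₂.ι_eq _ _ _ _ _ _ _ (i + n) j k (i + j + n) (m + n) h1 h2]
  refine (Category.assoc _ _ _).trans ((congrArg (_ ≫ ·) ((Category.assoc _ _ _).symm.trans
      ((congrArg (· ≫ _) (ι_tcx_map₁ (TX X) (sh₁ R D n).hom K (i + j) k m h)).trans ((Category.assoc _ _ _).trans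
        (congrArg (_ ≫ ·) (ι_sh₁ (((tcx (TX X)).obj R).obj D) K n (i + j) k m h)))))).trans ?_)
  refine (Category.assoc _ _ _).symm.trans (congrArg (· ≫ _) ?_)
  exact (NatTrans.congr_app (((TX X).map_comp _ _).symm.trans
    (congrArg (TX X).map (ι_sh₁ R D n i j (i + j) rfl))) (K.X k))

theorem ι_assocCx (A D K : CochainComplex X.Modules ℤ) (i j k m : ℤ) (h : i + j + k = m) :
    HomologicalComplex.mapBifunctor₁₂.ι (TX X) (TX X) A D K (ComplexShape.up ℤ) (ComplexShape.up ℤ)
        i j k m h ≫ (assocCx A D K).hom.f m =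
      (((assocT X).hom.app (A.X i)).app (D.X j)).app (K.X k) ≫
        HomologicalComplex.mapBifunctor₂₃.ι (TX X) (TX X) A D K (ComplexShape.up ℤ) (ComplexShape.up ℤ)
          (ComplexShape.up ℤ) i j k m h :=
  HomologicalComplex.ι_mapBifunctorAssociatorX_hom (assocT X) A D K (ComplexShape.up ℤ) (ComplexShape.up ℤ)
    (ComplexShape.up ℤ) i j k m h

set_option maxHeartbeats 1000000 in
/-- The shift is compatible with associativity. -/
theorem sh₁_assoc (R D K : CochainComplex X.Modules ℤ) (n : ℤ) :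
    ((tcx (TX X)).map (sh₁ R D n).hom).app K ≫ (sh₁ (((tcx (TX X)).obj R).obj D) K n).hom ≫
        (assocCx R D K).hom⟦n⟧' =
      (assocCx (R⟦n⟧) D K).hom ≫ (sh₁ R (((tcx (TX X)).obj D).obj K) n).hom := by
  refine HomologicalComplex.hom_ext _ _ fun m => HomologicalComplex.mapBifunctor₁₂.hom_ext fun i j k h => ?_
  have h' : i + j + k = m := h
  rw [HomologicalComplex.comp_f, HomologicalComplex.comp_f, HomologicalComplex.comp_f,
    CochainComplex.shiftFunctor_map_f']
  have hL := ι_assocCx R D K (i + n) j k (m + n) (by omega)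
  have hR := ι_assocCx (R⟦n⟧) D K i j k m h'
  have h1 := ι₁₂_sh₁ R D K n i j k m h'
  have h2 := ι₂₃_sh₁ R D K n i j k m h'
  generalize assocCx R D K = eL at hL ⊢
  generalize assocCx (R⟦n⟧) D K = eR at hR ⊢
  generalize sh₁ R (((tcx (TX X)).obj D).obj K) n = eS at h2 ⊢
  generalize (((tcx (TX X)).map (sh₁ R D n).hom).app K).f m = eA at h1 ⊢
  generalize sh₁ (((tcx (TX X)).obj R).obj D) K n = eB at h1 ⊢
  refine ((congrArg (_ ≫ ·) (Category.assoc _ _ _).symm).trans ((Category.assoc _ _ _).symm.trans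
    ((congrArg (· ≫ _) h1).trans hL))).trans ?_
  exact (((Category.assoc _ _ _).symm.trans (congrArg (· ≫ _) hR)).trans
    ((Category.assoc _ _ _).trans (congrArg (_ ≫ ·) h2))).symm

/-- `R ⊗ O ≅ R`. -/
noncomputable def unitCx :
    (tcx (TX X)).flip.obj (sg 0 (Coh.structureModule X)) ≅ 𝟭 (CochainComplex X.Modules ℤ) :=
  singleFunIso 0 ≪≫ shiftFunctorZero' (CochainComplex X.Modules ℤ) (-0 : ℤ) neg_zero

theorem eqToHom_unit (R : CochainComplex X.Modules ℤ) {a b : ℤ} (h : a = b) :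
    ((TX X).map (eqToHom (congrArg R.X h))).app (Coh.structureModule X) ≫ unitorNatIso.hom.app (R.X b) ≫
      eqToHom (congrArg R.X h.symm) = (M2.tensorRUnit (R.X a)).hom := by
  subst h
  simp only [eqToHom_refl, CategoryTheory.Functor.map_id, NatTrans.id_app, Category.comp_id]
  exact Category.id_comp _

theorem ι_unitCx (R : CochainComplex X.Modules ℤ) (m : ℤ) :
    ιt (TX X) R (sg 0 (Coh.structureModule X)) m 0 m (add_zero m) ≫ (unitCx.hom.app R).f m =
      ((TX X).obj (R.X m)).map (HomologicalComplex.singleObjXSelf (ComplexShape.up ℤ) 0 (Coh.structureModule X)).hom ≫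
        (M2.tensorRUnit (R.X m)).hom := by
  have hz : ((shiftFunctorZero' (CochainComplex X.Modules ℤ) (-0 : ℤ) neg_zero).hom.app R).f m =
      eqToHom (congrArg R.X (show m + -0 = m by omega)) := by
    simp [shiftFunctorZero', CochainComplex.shiftFunctorZero_eq, HomologicalComplex.XIsoOfEq]
  change ιt (TX X) R (sg 0 (Coh.structureModule X)) m 0 m (add_zero m) ≫
    ((HomologicalComplex.mapBifunctorDesc fun p q h => stTo (TX X) 0 (Coh.structureModule X) R m p q h) ≫
      unitorNatIso.hom.app (R.X (m + -0)) ≫ 𝟙 _) ≫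
      ((shiftFunctorZero' (CochainComplex X.Modules ℤ) (-0 : ℤ) neg_zero).hom.app R).f m = _
  rw [hz, Category.comp_id, ← Category.assoc, ← Category.assoc, ι_desc, stTo_self, mul_zero, Int.negOnePow_zero,
    one_smul, Category.assoc, Category.assoc]
  exact congrArg (_ ≫ ·) (eqToHom_unit R (show m = m + -0 by omega))

theorem sh₁_unit (R : CochainComplex X.Modules ℤ) (n : ℤ) :
    unitCx.hom.app (R⟦n⟧) = (sh₁ R (sg 0 (Coh.structureModule X)) n).hom ≫ (unitCx.hom.app R)⟦n⟧' := by
  suffices key : ∀ (u : ((tcx (TX X)).obj (R⟦n⟧)).obj (sg 0 (Coh.structureModule X)) ⟶ R⟦n⟧)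
      (v : ((tcx (TX X)).obj R).obj (sg 0 (Coh.structureModule X)) ⟶ R),
      (∀ m, ιt (TX X) (R⟦n⟧) _ m 0 m (add_zero m) ≫ u.f m = ιt (TX X) R _ (m + n) 0 (m + n) (add_zero _) ≫ v.f (m + n)) →
      u = (sh₁ R (sg 0 (Coh.structureModule X)) n).hom ≫ v⟦n⟧' from
    key _ _ fun m => (ι_unitCx (R⟦n⟧) m).trans (ι_unitCx R (m + n)).symm
  intro u v huv
  refine HomologicalComplex.hom_ext _ _ fun m => tcx_hom_ext (TX X) fun p q h => ?_
  by_cases hq : q = 0
  · subst hq
    obtain rfl : p = m := by omega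
    rw [HomologicalComplex.comp_f, CochainComplex.shiftFunctor_map_f']
    have h1 := ι_sh₁ R (sg 0 (Coh.structureModule X)) n p 0 p h
    generalize sh₁ R (sg 0 (Coh.structureModule X)) n = eS at h1 ⊢
    exact ((huv p).trans (congrArg (· ≫ v.f (p + n)) h1.symm)).trans (Category.assoc _ _ _)
  · exact (((TX X).obj _).map_isZero (HomologicalComplex.isZero_single_obj_X (ComplexShape.up ℤ) 0 _ q hq)).eq_of_src _ _

end Groth.Agent.RHom
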