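import Groth.Agent.Lib.RHom.DualCx
import Groth.Prelude.Def_PicLoc
import Groth.Agent.Lib.RHom.DualMap
import Groth.Agent.Lib.RHom.Devissage
import Groth.Agent.Lib.RHom.Coprod

/-! The dual of a perfect object is perfect. -/

set_option autoImplicit false
set_option linter.unusedSectionVars false
set_option linter.style.haveILetI false
set_option backward.isDefEq.respectTransparency false
set_option backward.isDefEq.respectTransparency.types false

universe u

open CategoryTheory CategoryTheory.Limits CategoryTheory.Pretriangulated AlgebraicGeometry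

attribute [local instance] HasDerivedCategory.standard

namespace Groth.Agent.RHom

open KFlat KFlat.Sch

variable {X : Scheme.{u}}

/-- The structure sheaf in degree zero, in the derived category. -/
noncomputable abbrev oD (X : Scheme.{u}) : DCoh.D X :=
  DerivedCategory.Q.obj (sg 0 (Coh.structureModule X))

/-! ### The comparison -/

section Tau

variable {P P' : CochainComplex X.Modules ℤ} [DCoh.HasLTensorCx P] [DCoh.HasRSheafHom P]
  [DCoh.HasLTensorCx P'] [DCoh.HasRSheafHom P']

/-- `P^∨ ⟶ RHom(P, O)`. -/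
noncomputable def tau (P : CochainComplex X.Modules ℤ) [DCoh.HasLTensorCx P] [DCoh.HasRSheafHom P] :
    DerivedCategory.Q.obj (dcx P) ⟶ (DCoh.RSheafHom P).obj (oD X) :=
  (DCoh.RSheafHomAdj P).homEquiv _ _ ((ltCounit P).app (dcx P) ≫ DerivedCategory.Q.map (evCx P))

theorem tau_natural (f : P ⟶ P') :
    DerivedCategory.Q.map (dcxMap f) ≫ tau P = tau P' ≫ (rhomMap f).app (oD X) := by
  rw [tau, tau, rhomMap_homEquiv, ← (DCoh.RSheafHomAdj P).homEquiv_naturality_left,
    reassoc_of% (ltMap_fac f (dcx P'))]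
  refine congrArg _ ?_
  refine ((Category.assoc _ _ _).symm.trans (congrArg (· ≫ _) ((ltCounit P).naturality (dcxMap f)))).trans
    ((Category.assoc _ _ _).trans (congrArg (_ ≫ ·) ?_))
  refine (DerivedCategory.Q.map_comp _ _).symm.trans (Eq.trans ?_ (DerivedCategory.Q.map_comp _ _))
  exact congrArg DerivedCategory.Q.map (evCx_natural f)

end Tau

/-- The comparison is invertible. -/
def TauIso (P : CochainComplex X.Modules ℤ) : Prop :=
  @IsIso _ _ _ _ (@tau X P (hasLTensorCx P) (haveI := hasLTensorCx P; hasRSheafHom P))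

theorem TauIso.of_homotopyEquiv {P P' : CochainComplex X.Modules ℤ} (e : HomotopyEquiv P P') (h : TauIso P) :
    TauIso P' := by
  haveI := hasLTensorCx P'
  haveI := hasRSheafHom P'
  show IsIso (tau P')
  haveI := hasLTensorCx P
  haveI := hasRSheafHom P
  haveI : IsIso (tau P) := h
  haveI : QuasiIso (dcxMap e.hom) := inferInstanceAs (QuasiIso (dcxHomotopyEquiv e).hom)
  haveI := isIso_rhomMap e.hom
  haveI : IsIso (tau P' ≫ (rhomMap e.hom).app (oD X)) := by
    rw [← tau_natural]
    infer_instance
  exact IsIso.of_isIso_comp_right _ ((rhomMap e.hom).app (oD X))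

theorem TauIso.of_iso {P P' : CochainComplex X.Modules ℤ} (e : P ≅ P') (h : TauIso P) : TauIso P' :=
  h.of_homotopyEquiv (HomotopyEquiv.ofIso e)

/-! ### Exactness of the dual -/

/-- The transpose of a degreewise split sequence. -/
noncomputable abbrev dcxSC (S : ShortComplex (CochainComplex X.Modules ℤ)) :
    ShortComplex (CochainComplex X.Modules ℤ) :=
  ShortComplex.mk (dcxMap S.g) (dcxMap S.f) (by rw [← dcxMap_comp, S.zero, dcxMap_zero])

theorem shortExact_dcxSC (S : ShortComplex (CochainComplex X.Modules ℤ))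
    (hS : ∀ i : ℤ, Nonempty ((S.map (HomologicalComplex.eval X.Modules (ComplexShape.up ℤ) i)).Splitting)) :
    (dcxSC S).ShortExact :=
  HomologicalComplex.shortExact_of_degreewise_shortExact _ fun i =>
    let σ := (hS (-i)).some
    ShortComplex.Splitting.shortExact
      { r := dmap σ.s
        s := dmap σ.r
        f_r := by
          change dmap (S.g.f (-i)) ≫ dmap σ.s = _
          rw [← dmap_comp]
          exact (congrArg dmap σ.s_g).trans (dmap_id _)
        s_g := by
          change dmap σ.r ≫ dmap (S.f.f (-i)) = _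
          rw [← dmap_comp]
          exact (congrArg dmap σ.f_r).trans (dmap_id _)
        id := by
          have := congrArg dmap σ.id
          rw [dmap_add, dmap_comp, dmap_comp, dmap_id] at this
          exact (add_comm _ _).trans this }

theorem exact_dual_cone {K L : CochainComplex X.Modules ℤ} (f : K ⟶ L) (j : ℤ) :
    ∃ w : HomologicalComplex.homologyMap (dcxMap (CochainComplex.mappingCone.inr f)) j ≫
        HomologicalComplex.homologyMap (dcxMap f) j = 0,
      (ShortComplex.mk _ _ w).Exact := by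
  let p : L ⊞ CochainComplex.mappingCone (𝟙 K) ⟶ L := biprod.fst
  let i : L ⟶ L ⊞ CochainComplex.mappingCone (𝟙 K) := biprod.inl
  let he := fstHomotopyEquiv (X := L) (CochainComplex.mappingCone.homotopyToZeroOfId K)
  haveI : QuasiIso (dcxMap p) := inferInstanceAs (QuasiIso (dcxHomotopyEquiv he).hom)
  have hpi : HomologicalComplex.homologyMap (dcxMap p) j ≫ HomologicalComplex.homologyMap (dcxMap i) j = 𝟙 _ := by
    rw [← HomologicalComplex.homologyMap_comp, ← dcxMap_comp, show i ≫ p = 𝟙 L from biprod.inl_fst, dcxMap_id,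
      HomologicalComplex.homologyMap_id]
  haveI : IsIso (HomologicalComplex.homologyMap (dcxMap i) j) := by
    rw [IsIso.eq_inv_of_hom_inv_id hpi]
    infer_instance
  let S := cylSC f
  have e1 : (cylSC f).f ≫ p = f := biprod.lift_fst _ _
  have e2 : i ≫ (cylSC f).g = CochainComplex.mappingCone.inr f ≫ (cylCokerIsoCone f).inv := by
    rw [← cancel_mono (cylCokerIsoCone f).hom, Category.assoc, Category.assoc, Iso.inv_hom_id, Category.comp_id]
    change biprod.inl ≫ cokernel.π (cylHom f) ≫ cylCokerToCone f = _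
    rw [cylCokerToCone, cokernel.π_desc, cylToCone, biprod.inl_desc]
  have hex := (shortExact_dcxSC S (cylSC_splitting f)).homology_exact₂ j
  have hf : HomologicalComplex.homologyMap (dcxMap i) j ≫ HomologicalComplex.homologyMap (dcxMap f) j =
      HomologicalComplex.homologyMap (dcxMap S.f) j := by
    rw [← e1, dcxMap_comp, HomologicalComplex.homologyMap_comp,
      IsIso.eq_inv_of_hom_inv_id hpi, IsIso.inv_hom_id_assoc]
  have hg : HomologicalComplex.homologyMap (dcxMap S.g) j ≫ HomologicalComplex.homologyMap (dcxMap i) j =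
      HomologicalComplex.homologyMap (dcxMap (cylCokerIsoCone f).inv) j ≫
        HomologicalComplex.homologyMap (dcxMap (CochainComplex.mappingCone.inr f)) j := by
    rw [← HomologicalComplex.homologyMap_comp, ← HomologicalComplex.homologyMap_comp, ← dcxMap_comp, ← dcxMap_comp, e2]
  let d := (dcxIso (cylCokerIsoCone f)).symm
  let e₁ := (HomologicalComplex.homologyFunctor X.Modules (ComplexShape.up ℤ) j).mapIso d
  have hg' : HomologicalComplex.homologyMap (dcxMap S.g) j ≫ HomologicalComplex.homologyMap (dcxMap i) j =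
      e₁.hom ≫ HomologicalComplex.homologyMap (dcxMap (CochainComplex.mappingCone.inr f)) j := hg
  have w : HomologicalComplex.homologyMap (dcxMap (CochainComplex.mappingCone.inr f)) j ≫
      HomologicalComplex.homologyMap (dcxMap f) j = 0 := by
    rw [← cancel_epi e₁.hom, ← reassoc_of% hg', hf, ← HomologicalComplex.homologyMap_comp, comp_zero,
      ← dcxMap_comp, S.zero, dcxMap_zero, HomologicalComplex.homologyMap_zero]
  let T : ShortComplex X.Modules := ShortComplex.mk (HomologicalComplex.homologyMap (dcxMap S.g) j)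
    (HomologicalComplex.homologyMap (dcxMap S.f) j) (by
      rw [← HomologicalComplex.homologyMap_comp, ← dcxMap_comp, S.zero, dcxMap_zero,
        HomologicalComplex.homologyMap_zero])
  let eT : T ≅ ShortComplex.mk _ _ w := ShortComplex.isoMk e₁
    (asIso (HomologicalComplex.homologyMap (dcxMap i) j)) (Iso.refl _) hg'.symm
    (hf.trans (Category.comp_id _).symm)
  exact ⟨w, (ShortComplex.exact_iff_of_iso eT).1 hex⟩

theorem tauIso_cone {K L : CochainComplex X.Modules ℤ} (f : K ⟶ L) (h₁ : TauIso K) (h₂ : TauIso L)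
    (h₁' : TauIso (K⟦(1 : ℤ)⟧)) (h₂' : TauIso (L⟦(1 : ℤ)⟧)) : TauIso (CochainComplex.mappingCone f) := by
  haveI := hasLTensorCx (CochainComplex.mappingCone f)
  haveI := hasRSheafHom (CochainComplex.mappingCone f)
  show IsIso (tau (CochainComplex.mappingCone f))
  let g := CochainComplex.mappingCone.inr f
  let h := CochainComplex.mappingCone.inr g
  let k := CochainComplex.mappingCone.inr h
  haveI := hasLTensorCx K
  haveI := hasRSheafHom K
  haveI := hasLTensorCx L
  haveI := hasRSheafHom L
  haveI := hasLTensorCx (CochainComplex.mappingCone g)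
  haveI := hasRSheafHom (CochainComplex.mappingCone g)
  haveI := hasLTensorCx (CochainComplex.mappingCone h)
  haveI := hasRSheafHom (CochainComplex.mappingCone h)
  haveI : IsIso (tau K) := h₁
  haveI : IsIso (tau L) := h₂
  haveI : IsIso (tau (CochainComplex.mappingCone g)) :=
    h₁'.of_homotopyEquiv (CochainComplex.mappingCone.rotateHomotopyEquiv f)
  haveI : IsIso (tau (CochainComplex.mappingCone h)) :=
    h₂'.of_homotopyEquiv (CochainComplex.mappingCone.rotateHomotopyEquiv g)
  refine isIso_of_isIso_homology _ fun j => ?_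
  let H := DerivedCategory.homologyFunctor X.Modules j
  let σ := DerivedCategory.homologyFunctorFactors X.Modules j
  let τ := fun (P : CochainComplex X.Modules ℤ) [DCoh.HasLTensorCx P] [DCoh.HasRSheafHom P] =>
    σ.inv.app (dcx P) ≫ H.map (tau P)
  have nat : ∀ {P P' : CochainComplex X.Modules ℤ} [DCoh.HasLTensorCx P] [DCoh.HasRSheafHom P]
      [DCoh.HasLTensorCx P'] [DCoh.HasRSheafHom P'] (φ : P ⟶ P'),
      HomologicalComplex.homologyMap (dcxMap φ) j ≫ τ P = τ P' ≫ H.map ((rhomMap φ).app (oD X)) :=
    fun {P P'} _ _ _ _ φ => by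
      have h1 : HomologicalComplex.homologyMap (dcxMap φ) j ≫ σ.inv.app (dcx P) =
          σ.inv.app (dcx P') ≫ H.map (DerivedCategory.Q.map (dcxMap φ)) := σ.inv.naturality (dcxMap φ)
      simp only [τ]
      rw [reassoc_of% h1, Category.assoc, ← H.map_comp, ← H.map_comp, tau_natural]
  obtain ⟨_, ek⟩ := exact_dual_cone h j
  obtain ⟨_, eh⟩ := exact_dual_cone g j
  obtain ⟨_, eg⟩ := exact_dual_cone f j
  have E : ∀ {P P' : CochainComplex X.Modules ℤ} [DCoh.HasLTensorCx P] [DCoh.HasRSheafHom P]
      [DCoh.HasLTensorCx P'] [DCoh.HasRSheafHom P'] (φ : P ⟶ P')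
      [DCoh.HasLTensorCx (CochainComplex.mappingCone φ)] [DCoh.HasRSheafHom (CochainComplex.mappingCone φ)],
      ∃ w : H.map ((rhomMap (CochainComplex.mappingCone.inr φ)).app (oD X)) ≫
          H.map ((rhomMap φ).app (oD X)) = 0, (ShortComplex.mk _ _ w).Exact :=
    fun φ _ _ => ⟨by rw [← H.map_comp, rhomMap_inr_comp, H.map_zero],
      exact_homology_of_homExact _ _ (rhomMap_inr_comp φ (oD X)) (fun t ht => rhom_exact_cone φ t ht) j⟩
  obtain ⟨_, ek'⟩ := E h
  obtain ⟨_, eh'⟩ := E g
  obtain ⟨_, eg'⟩ := E f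
  haveI : IsIso (τ (CochainComplex.mappingCone f)) :=
    five_isIso ek eh eg ek' eh' eg' (nat k) (nat h) (nat g) (nat f)
      inferInstance inferInstance inferInstance inferInstance
  exact IsIso.of_isIso_comp_left (σ.inv.app (dcx (CochainComplex.mappingCone f))) _

/-- The comparison is invertible for all shifts. -/
def TauGood (P : CochainComplex X.Modules ℤ) : Prop := ∀ n : ℤ, TauIso (P⟦n⟧)

theorem TauGood.of_iso {P P' : CochainComplex X.Modules ℤ} (e : P ≅ P') (h : TauGood P) : TauGood P' :=
  fun n => (h n).of_iso ((shiftFunctor (CochainComplex X.Modules ℤ) n).mapIso e)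

theorem TauGood.shift {P : CochainComplex X.Modules ℤ} (h : TauGood P) (m : ℤ) : TauGood (P⟦m⟧) :=
  fun n => (h (m + n)).of_iso ((shiftFunctorAdd (CochainComplex X.Modules ℤ) m n).app P)

theorem TauGood.tauIso {P : CochainComplex X.Modules ℤ} (h : TauGood P) : TauIso P :=
  (h 0).of_iso ((shiftFunctorZero (CochainComplex X.Modules ℤ) ℤ).app P)

theorem tauGood_cone {K L : CochainComplex X.Modules ℤ} (f : K ⟶ L) (h₁ : TauGood K) (h₂ : TauGood L) :
    TauGood (CochainComplex.mappingCone f) := fun n =>
  (tauIso_cone (f⟦n⟧') (h₁ n) (h₂ n) ((h₁.shift n) 1) ((h₂.shift n) 1)).of_iso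
    (CochainComplex.mappingCone.shiftIso f n).symm

theorem tauGood_split (S : ShortComplex (CochainComplex X.Modules ℤ))
    (hS : ∀ i : ℤ, Nonempty ((S.map (HomologicalComplex.eval X.Modules (ComplexShape.up ℤ) i)).Splitting))
    (h₁ : TauGood S.X₁) (h₃ : TauGood S.X₃) : TauGood S.X₂ := by
  let σ := fun i => (hS i).some
  have h : TauGood (S.X₂⟦(1 : ℤ)⟧) :=
    (tauGood_cone (CochainComplex.homOfDegreewiseSplit S σ) h₃ (h₁.shift 1)).of_iso
      (CochainComplex.mappingConeHomOfDegreewiseSplitIso S σ)
  exact (h.shift (-1)).of_iso ((shiftEquiv (CochainComplex X.Modules ℤ) (1 : ℤ)).unitIso.app S.X₂).symm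

/-! ### Base case -/

theorem isIso_evalHom_of_iso {M M' : X.Modules} (e : M ≅ M')
    (h : IsIso (M2.evalHom M' (Coh.structureModule X))) : IsIso (M2.evalHom M (Coh.structureModule X)) := by
  haveI := h
  haveI : IsIso (((TX X).map (dmap e.hom)).app M ≫ M2.evalHom M (Coh.structureModule X)) := by
    rw [dmap_evalHom]
    infer_instance
  haveI : IsIso (dmap e.hom) := (dmapIso e).isIso_hom
  exact IsIso.of_isIso_comp_left (((TX X).map (dmap e.hom)).app M) _

theorem isIso_evalHom_structure : IsIso (M2.evalHom (Coh.structureModule X) (Coh.structureModule X)) :=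
  M2.isIso_evalHom (PicLoc.isInvertible_structureModule X)

theorem isIso_evCx_single (a : ℤ) : IsIso (evCx (sg a (Coh.structureModule X))) := by
  let P := sg a (Coh.structureModule X)
  let T := ((tcx (TX X)).obj (dcx P)).obj P
  have hz : ∀ p q : ℤ, ¬ (p = -a ∧ q = a) → IsZero (((TX X).obj ((dcx P).X p)).obj (P.X q)) := fun p q h => by
    by_cases hq : q = a
    · exact ((TX X).map_isZero (isZero_dual (HomologicalComplex.isZero_single_obj_X (ComplexShape.up ℤ) a
        (Coh.structureModule X) (-p) (by omega)))).obj _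
    · exact ((TX X).obj _).map_isZero (HomologicalComplex.isZero_single_obj_X (ComplexShape.up ℤ) a
        (Coh.structureModule X) q hq)
  haveI : ∀ n, IsIso ((evCx P).f n) := fun n => by
    by_cases hn : n = 0
    · subst hn
      haveI : IsIso (evTerm P (-a) a (neg_add_cancel a)) := by
        haveI : IsIso (M2.evalHom (P.X (-(-a))) (Coh.structureModule X)) :=
          isIso_evalHom_of_iso (P.XIsoOfEq (neg_neg a) ≪≫
            HomologicalComplex.singleObjXSelf (ComplexShape.up ℤ) a (Coh.structureModule X)) isIso_evalHom_structure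
        unfold evTerm
        infer_instance
      haveI : IsIso (evMap P) := by
        refine ⟨inv (evTerm P (-a) a (neg_add_cancel a)) ≫ ιt (TX X) (dcx P) P (-a) a 0 (neg_add_cancel a), ?_, ?_⟩
        · refine tcx_hom_ext (TX X) fun p q h => ?_
          by_cases hpq : p = -a ∧ q = a
          · obtain ⟨rfl, rfl⟩ := hpq
            rw [← Category.assoc, ι_evMap, IsIso.hom_inv_id_assoc, Category.comp_id]
          · exact (hz p q hpq).eq_of_src _ _
        · rw [Category.assoc, ι_evMap, IsIso.inv_hom_id]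
      rw [evCx_f]
      infer_instance
    · have hT : IsZero (T.X n) := by
        rw [IsZero.iff_id_eq_zero]
        exact tcx_hom_ext (TX X) fun p q h => (hz p q (by omega)).eq_of_src _ _
      exact isIso_of_source_target_iso_zero _ hT.isoZero
        (HomologicalComplex.isZero_single_obj_X (ComplexShape.up ℤ) 0 (Coh.structureModule X) n hn).isoZero
  exact HomologicalComplex.Hom.isIso_of_components (evCx P)

theorem tauIso_singleOne (a : ℤ) : TauIso (sg a (Coh.structureModule X)) := by
  haveI := hasLTensorCx (sg a (Coh.structureModule X))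
  haveI := hasRSheafHom (sg a (Coh.structureModule X))
  let P := sg a (Coh.structureModule X)
  haveI := isIso_evCx_single (X := X) a
  haveI := isIso_counit_of_kflat_right P (isKFlat_sgOne a) (dcx P)
  let L := DCoh.LTensorCx P
  haveI : L.Full := Functor.Full.of_iso (ltSingleIso (X := X) a).symm
  haveI : L.Faithful := Functor.Faithful.of_iso (ltSingleIso (X := X) a).symm
  let η : L.obj (DerivedCategory.Q.obj (dcx P)) ⟶ oD X :=
    (ltCounit P).app (dcx P) ≫ DerivedCategory.Q.map (evCx P)
  haveI : IsIso η := inferInstance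
  have hU : Univ (DCoh.RSheafHomAdj P) η := fun T =>
    Function.Bijective.comp (g := fun z : L.obj T ⟶ L.obj (DerivedCategory.Q.obj (dcx P)) => z ≫ η)
      (Iso.homToEquiv (asIso η)).bijective ⟨L.map_injective, L.map_surjective⟩
  exact (univ_iff _ _).1 hU

theorem tauGood_singleOne (a : ℤ) : TauGood (sg a (Coh.structureModule X)) := fun n =>
  (tauIso_singleOne (a - n)).of_iso
    (((CochainComplex.singleFunctors X.Modules).shiftIso n (a - n) a (by omega)).app
      (Coh.structureModule X)).symm

theorem tauGood_isZero {P : CochainComplex X.Modules ℤ} (hP : IsZero P) : TauGood P := fun n => by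
  have hP' : IsZero (P⟦n⟧) := (shiftFunctor (CochainComplex X.Modules ℤ) n).map_isZero hP
  haveI := hasLTensorCx (CochainComplex.mappingCone (𝟙 (sg 0 (Coh.structureModule X))))
  haveI := hasRSheafHom (CochainComplex.mappingCone (𝟙 (sg 0 (Coh.structureModule X))))
  exact (tauGood_cone (𝟙 _) (tauGood_singleOne 0) (tauGood_singleOne 0)).tauIso.of_homotopyEquiv
    { hom := 0
      inv := 0
      homotopyHomInvId := (Homotopy.ofEq zero_comp).trans
        (CochainComplex.mappingCone.homotopyToZeroOfId (sg 0 (Coh.structureModule X))).symm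
      homotopyInvHomId := Homotopy.ofEq (hP'.eq_of_src _ _) }

theorem tauGood_free (a : ℤ) : ∀ m : ℕ, TauGood (sg a (FlatMod.freeMod X m)) := by
  haveI : HasFiniteBiproducts X.Modules := Abelian.hasFiniteBiproducts
  intro m
  induction m with
  | zero =>
    refine tauGood_isZero ((HomologicalComplex.single X.Modules (ComplexShape.up ℤ) a).map_isZero ?_)
    rw [IsZero.iff_id_eq_zero]
    exact Sigma.hom_ext _ _ fun i => i.elim0
  | succ m ih =>
    let σ := ShortComplex.Splitting.ofHasBinaryBiproduct (FlatMod.freeMod X m) (Coh.structureModule X)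
    let S := (ShortComplex.mk (biprod.inl : FlatMod.freeMod X m ⟶ FlatMod.freeMod X m ⊞ Coh.structureModule X)
      biprod.snd biprod.inl_snd).map (HomologicalComplex.single X.Modules (ComplexShape.up ℤ) a)
    exact (tauGood_split S (fun i => ⟨(σ.map (HomologicalComplex.single X.Modules (ComplexShape.up ℤ) a)).map
      (HomologicalComplex.eval X.Modules (ComplexShape.up ℤ) i)⟩) ih (tauGood_singleOne a)).of_iso
        ((HomologicalComplex.single X.Modules (ComplexShape.up ℤ) a).mapIso (freeSuccIso m))

theorem tauIso_of_free (E : CochainComplex X.Modules ℤ) (a b : ℤ) (hv : DCoh.VanishesOutside E a b)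
    (hf : ∀ i, IsFree (E.X i)) : TauIso E := by
  haveI : E.IsStrictlyLE b := (CochainComplex.isStrictlyLE_iff E b).2 fun i hi => hv i (Or.inr hi)
  haveI : E.IsStrictlyGE (b + 1 - ((b + 1 - a).toNat : ℤ)) :=
    (CochainComplex.isStrictlyGE_iff E _).2 fun i hi => hv i (by omega)
  exact TauGood.tauIso (bounded_induction TauGood (fun L hL => tauGood_isZero hL) tauGood_split
    IsFree (fun F hF => ⟨0, ⟨hF.iso (by rw [IsZero.iff_id_eq_zero]; exact Sigma.hom_ext _ _ fun i => i.elim0)⟩⟩)
    (fun e ⟨m, ⟨e'⟩⟩ => ⟨m, ⟨e.symm ≪≫ e'⟩⟩)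
    (fun c F ⟨m, ⟨e⟩⟩ => (tauGood_free c m).of_iso
      ((HomologicalComplex.single X.Modules (ComplexShape.up ℤ) c).mapIso e.symm))
    b (b + 1 - a).toNat E hf)

/-! ### Perfectness -/

/-- The dual of a biproduct. -/
noncomputable def dmapBiprod (M N : X.Modules) [HasBinaryBiproduct M N]
    [HasBinaryBiproduct (M2.dualMod M) (M2.dualMod N)] :
    M2.dualMod (M ⊞ N) ≅ M2.dualMod M ⊞ M2.dualMod N where
  hom := biprod.lift (dmap biprod.inl) (dmap biprod.inr)
  inv := biprod.desc (dmap biprod.fst) (dmap biprod.snd)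
  hom_inv_id := by
    rw [biprod.lift_desc, ← dmap_comp, ← dmap_comp, ← dmap_add, biprod.total, dmap_id]
  inv_hom_id := by
    refine biprod.hom_ext' _ _ (biprod.hom_ext _ _ ?_ ?_) (biprod.hom_ext _ _ ?_ ?_) <;>
      simp [← dmap_comp, dmap_id, dmap_zero]

theorem isFree_dual : ∀ m : ℕ, IsFree (M2.dualMod (FlatMod.freeMod X m)) := by
  haveI : HasFiniteBiproducts X.Modules := Abelian.hasFiniteBiproducts
  intro m
  induction m with
  | zero =>
    have h0 : IsZero (FlatMod.freeMod X 0) := by
      rw [IsZero.iff_id_eq_zero]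
      exact Sigma.hom_ext _ _ fun i => i.elim0
    exact ⟨0, ⟨(isZero_dual h0).iso h0⟩⟩
  | succ m ih =>
    obtain ⟨k, ⟨e⟩⟩ := ih
    haveI := isIso_evalHom_structure (X := X)
    let eO : M2.dualMod (Coh.structureModule X) ≅ Coh.structureModule X :=
      (M2.tensorRUnit _).symm ≪≫ asIso (M2.evalHom (Coh.structureModule X) (Coh.structureModule X))
    exact ⟨k + 1, ⟨dmapIso (freeSuccIso m) ≪≫ dmapBiprod _ _ ≪≫ biprod.mapIso e eO ≪≫ freeSuccIso k⟩⟩

/-- The dual of a perfect object is perfect. -/
theorem isPerfect_dual (K : CochainComplex X.Modules ℤ) [DCoh.HasLTensorCx K] [DCoh.HasRSheafHom K]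
    (hK : DCoh.IsPerfect (DCoh.toD X K)) : DCoh.IsPerfect ((DCoh.RSheafHom K).obj (oD X)) := by
  refine (DPerf.isPerfect_iff_free _).2 fun x => ?_
  obtain ⟨V, hxV, hV⟩ := (DPerf.isPerfect_iff_free _).1 hK x
  obtain ⟨P, a, b, hv, hf, ⟨q⟩⟩ := hV K ⟨Iso.refl _⟩
  refine ⟨V, hxV, fun F ⟨eF⟩ => ⟨dcx P, -b, -a, fun i hi => isZero_dual (hv (-i) (by omega)), fun i => ?_, ⟨?_⟩⟩⟩
  · obtain ⟨m, ⟨e⟩⟩ := hf (-i)
    obtain ⟨k, ⟨e'⟩⟩ := isFree_dual (X := (V : Scheme.{u})) m
    exact ⟨k, ⟨(dmapIso e).symm ≪≫ e'⟩⟩
  · haveI := hasLTensorCx ((DCoh.restrictCx V).obj K)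
    haveI := hasRSheafHom ((DCoh.restrictCx V).obj K)
    haveI := hasLTensorCx P
    haveI := hasRSheafHom P
    haveI : IsIso (tau P) := tauIso_of_free P a b hv hf
    let eO : (DPerf.resD V.ι).obj (oD X) ≅ oD (V : Scheme.{u}) :=
      (DPerf.resFac V.ι).app _ ≪≫ DerivedCategory.Q.mapIso
        ((HomologicalComplex.singleMapHomologicalComplex (Scheme.Modules.restrictFunctor V.ι)
          (ComplexShape.up ℤ) 0).app _ ≪≫
          (HomologicalComplex.single _ (ComplexShape.up ℤ) 0).mapIso (Scheme.Modules.restrictUnitIso V.ι))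
    exact ((DPerf.resFac V.ι).app F).symm ≪≫ (DPerf.resD V.ι).mapIso eF ≪≫
      (restrictRHomIso V K).app (oD X) ≪≫ (nonempty_rhomIso q).some.app _ ≪≫
        (DCoh.RSheafHom P).mapIso eO ≪≫ (asIso (tau P)).symm

end Groth.Agent.RHom
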