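import Groth.Agent.Lib.RHom.SingleTensor
import Groth.Agent.Lib.RHom.Assoc
import Groth.Agent.Lib.TensorMod.Dual
import Mathlib.Algebra.Homology.Homotopy

/-! The termwise dual of a complex of modules and evaluation. -/

set_option autoImplicit false
set_option linter.unusedSectionVars false
set_option linter.style.haveILetI false
set_option backward.isDefEq.respectTransparency false
set_option backward.isDefEq.respectTransparency.types false

universe u

open CategoryTheory CategoryTheory.Limits AlgebraicGeometry Opposite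

namespace Groth.Agent.RHom

open KFlat KFlat.Sch

variable {X : Scheme.{u}}

local notation "dm" => M2.dualMod

/-- The transpose of a map of modules. -/
noncomputable def dmap {M M' : X.Modules} (f : M ⟶ M') : dm M' ⟶ dm M :=
  ⟨PresheafOfModules.homMk
    { app := fun U => AddCommGrpCat.ofHom
        { toFun := fun φ => (⟨fun V => ((φ : M2.HomSec M' (Coh.structureModule X) U.unop).1 V).comp
              (f.val.app (op V.1)).hom,
            fun V V' h s => (congrArg (fun t => (φ : M2.HomSec M' (Coh.structureModule X) U.unop).1 V' t)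
              (PresheafOfModules.naturality_apply f.val (homOfLE h).op s)).trans
              ((φ : M2.HomSec M' (Coh.structureModule X) U.unop).2 V V' h (f.val.app (op V.1) s))⟩ :
            M2.HomSec M (Coh.structureModule X) U.unop)
          map_zero' := rfl
          map_add' := fun _ _ => rfl }
      naturality := fun _ _ _ => rfl }
    fun _ _ _ => rfl⟩

theorem dmap_app {M M' : X.Modules} (f : M ⟶ M') (U : X.Opens) (φ : Γ(dm M', U)) (V : {V : X.Opens // V ≤ U})
    (s : Γ(M, V.1)) :
    (M2.homSecOf M _ ((dmap f).app U φ)).1 V s = (M2.homSecOf M' _ φ).1 V (f.app V.1 s) := rfl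

theorem dual_hom_ext {A M : X.Modules} {a b : A ⟶ dm M}
    (h : ∀ (U : X.Opens) (x : Γ(A, U)) (V : {V : X.Opens // V ≤ U}) (s : Γ(M, V.1)),
      (M2.homSecOf M _ (a.app U x)).1 V s = (M2.homSecOf M _ (b.app U x)).1 V s) : a = b :=
  Scheme.Modules.hom_ext _ _ fun U => AddCommGrpCat.hom_ext
    (AddMonoidHom.ext fun x => Subtype.ext (funext fun V => LinearMap.ext fun s => h U x V s))

theorem dmap_id (M : X.Modules) : dmap (𝟙 M) = 𝟙 (dm M) := dual_hom_ext fun _ _ _ _ => rfl

theorem dmap_comp {M M' M'' : X.Modules} (f : M ⟶ M') (g : M' ⟶ M'') : dmap (f ≫ g) = dmap g ≫ dmap f :=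
  dual_hom_ext fun _ _ _ _ => rfl

theorem dmap_add {M M' : X.Modules} (f g : M ⟶ M') : dmap (f + g) = dmap f + dmap g :=
  dual_hom_ext fun U φ V s => by
    change (M2.homSecOf M' _ φ).1 V (f.app V.1 s + g.app V.1 s) = _
    rw [map_add]
    rfl

theorem dmap_zero (M M' : X.Modules) : dmap (0 : M ⟶ M') = 0 := by
  have := dmap_add (0 : M ⟶ M') 0
  rw [add_zero] at this
  exact left_eq_add.1 this

theorem dmap_units_smul {M M' : X.Modules} (f : M ⟶ M') (c : ℤˣ) : dmap (c • f) = c • dmap f := by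
  let F : (M ⟶ M') →+ (dm M' ⟶ dm M) := AddMonoidHom.mk' dmap dmap_add
  rw [Units.smul_def, Units.smul_def]
  exact map_zsmul F (c : ℤ) f

theorem isZero_dual {M : X.Modules} (h : IsZero M) : IsZero (dm M) := by
  rw [IsZero.iff_id_eq_zero, ← dmap_id, h.eq_of_src (𝟙 M) 0, dmap_zero]

/-- Transposes of isomorphisms. -/
noncomputable def dmapIso {M M' : X.Modules} (e : M ≅ M') : dm M' ≅ dm M where
  hom := dmap e.hom
  inv := dmap e.inv
  hom_inv_id := by rw [← dmap_comp, e.inv_hom_id, dmap_id]
  inv_hom_id := by rw [← dmap_comp, e.hom_inv_id, dmap_id]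

theorem dmap_evalHom {M M' : X.Modules} (f : M ⟶ M') :
    ((TX X).map (dmap f)).app M ≫ M2.evalHom M (Coh.structureModule X) =
      ((TX X).obj (dm M')).map f ≫ M2.evalHom M' (Coh.structureModule X) := by
  rw [map_eq_tensorMap_left, map_eq_tensorMap_right]
  refine M2.tensorMod_hom_ext fun U φ s => ?_
  have e1 := M2.tensorMap_tsec (L := dm M') (M := M) (dmap f) (𝟙 M) φ s
  have e2 := M2.tensorMap_tsec (L := dm M') (M := M) (𝟙 (dm M')) f φ s
  simp only [Scheme.Modules.Hom.comp_app]
  refine (congrArg ((M2.evalHom M (Coh.structureModule X)).app U) e1).trans ?_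
  refine Eq.trans ?_ (congrArg ((M2.evalHom M' (Coh.structureModule X)).app U) e2).symm
  refine (M2.mkHom_tsec (M2.evalBiMap M (Coh.structureModule X)) _ _).trans ?_
  refine Eq.trans ?_ (M2.mkHom_tsec (M2.evalBiMap M' (Coh.structureModule X)) _ _).symm
  exact dmap_app f U φ ⟨U, le_rfl⟩ s

/-- The dual complex. -/
noncomputable def dcx (P : CochainComplex X.Modules ℤ) : CochainComplex X.Modules ℤ where
  X p := dm (P.X (-p))
  d i j := j.negOnePow • dmap (P.d (-j) (-i))
  shape i j h := by rw [P.shape _ _ (by simp at h ⊢; omega), dmap_zero, smul_zero]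
  d_comp_d' i j k _ _ := by
    rw [Linear.units_smul_comp, Linear.comp_units_smul, ← dmap_comp, P.d_comp_d, dmap_zero, smul_zero, smul_zero]

/-- The transpose of a chain map. -/
noncomputable def dcxMap {P P' : CochainComplex X.Modules ℤ} (f : P ⟶ P') : dcx P' ⟶ dcx P where
  f p := dmap (f.f (-p))
  comm' i j _ := by
    change dmap (f.f (-i)) ≫ (j.negOnePow • dmap (P.d (-j) (-i))) =
      (j.negOnePow • dmap (P'.d (-j) (-i))) ≫ dmap (f.f (-j))
    rw [Linear.units_smul_comp, Linear.comp_units_smul, ← dmap_comp, ← dmap_comp, f.comm]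

theorem dcxMap_id (P : CochainComplex X.Modules ℤ) : dcxMap (𝟙 P) = 𝟙 (dcx P) :=
  HomologicalComplex.hom_ext _ _ fun p => dmap_id (P.X (-p))

theorem dcxMap_comp {P P' P'' : CochainComplex X.Modules ℤ} (f : P ⟶ P') (g : P' ⟶ P'') :
    dcxMap (f ≫ g) = dcxMap g ≫ dcxMap f :=
  HomologicalComplex.hom_ext _ _ fun p => dmap_comp (f.f (-p)) (g.f (-p))

theorem dcxMap_zero (P P' : CochainComplex X.Modules ℤ) : dcxMap (0 : P ⟶ P') = 0 :=
  HomologicalComplex.hom_ext _ _ fun p => dmap_zero (P.X (-p)) (P'.X (-p))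

/-- The transpose of a homotopy. -/
noncomputable def dcxHomotopy {P P' : CochainComplex X.Modules ℤ} {f g : P ⟶ P'} (h : Homotopy f g) :
    Homotopy (dcxMap f) (dcxMap g) where
  hom i j := i.negOnePow • dmap (h.hom (-j) (-i))
  zero i j hij := by rw [h.zero _ _ (by simp at hij ⊢; omega), dmap_zero, smul_zero]
  comm i := by
    rw [dNext_eq _ (show (ComplexShape.up ℤ).Rel i (i + 1) from rfl),
      prevD_eq _ (show (ComplexShape.up ℤ).Rel (i - 1) i by simp)]
    change dmap (f.f (-i)) = ((i + 1).negOnePow • dmap (P'.d (-(i + 1)) (-i))) ≫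
        ((i + 1).negOnePow • dmap (h.hom (-i) (-(i + 1)))) +
      (i.negOnePow • dmap (h.hom (-(i - 1)) (-i))) ≫ (i.negOnePow • dmap (P.d (-i) (-(i - 1)))) +
      dmap (g.f (-i))
    simp only [Linear.units_smul_comp, Linear.comp_units_smul, smul_smul, Int.units_mul_self, one_smul,
      ← dmap_comp, ← dmap_add]
    refine congrArg dmap ((h.comm (-i)).trans ?_)
    rw [dNext_eq _ (show (ComplexShape.up ℤ).Rel (-i) (-(i - 1)) by simp; omega),
      prevD_eq _ (show (ComplexShape.up ℤ).Rel (-(i + 1)) (-i) by simp)]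
    abel

/-- The transpose of a homotopy equivalence. -/
noncomputable def dcxHomotopyEquiv {P P' : CochainComplex X.Modules ℤ} (e : HomotopyEquiv P P') :
    HomotopyEquiv (dcx P') (dcx P) where
  hom := dcxMap e.hom
  inv := dcxMap e.inv
  homotopyHomInvId := (Homotopy.ofEq (dcxMap_comp e.inv e.hom).symm).trans
    ((dcxHomotopy e.homotopyInvHomId).trans (Homotopy.ofEq (dcxMap_id P')))
  homotopyInvHomId := (Homotopy.ofEq (dcxMap_comp e.hom e.inv).symm).trans
    ((dcxHomotopy e.homotopyHomInvId).trans (Homotopy.ofEq (dcxMap_id P)))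

/-- Transposes of isomorphisms of complexes. -/
noncomputable def dcxIso {P P' : CochainComplex X.Modules ℤ} (e : P ≅ P') : dcx P' ≅ dcx P where
  hom := dcxMap e.hom
  inv := dcxMap e.inv
  hom_inv_id := by rw [← dcxMap_comp, e.inv_hom_id, dcxMap_id]
  inv_hom_id := by rw [← dcxMap_comp, e.hom_inv_id, dcxMap_id]

/-- Evaluation on one summand. -/
noncomputable def evTerm (P : CochainComplex X.Modules ℤ) (p q : ℤ) (h : p + q = 0) :
    ((TX X).obj ((dcx P).X p)).obj (P.X q) ⟶ Coh.structureModule X :=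
  ((TX X).obj (dm (P.X (-p)))).map (P.XIsoOfEq (show q = -p by omega)).hom ≫
    M2.evalHom (P.X (-p)) (Coh.structureModule X)

theorem evTerm_natural {P P' : CochainComplex X.Modules ℤ} (f : P ⟶ P') (p q : ℤ) (h : p + q = 0) :
    ((TX X).map ((dcxMap f).f p)).app (P.X q) ≫ evTerm P p q h =
      ((TX X).obj ((dcx P').X p)).map (f.f q) ≫ evTerm P' p q h := by
  obtain rfl : q = -p := by omega
  simp only [evTerm, HomologicalComplex.XIsoOfEq_rfl, Iso.refl_hom]
  erw [CategoryTheory.Functor.map_id, CategoryTheory.Functor.map_id, Category.id_comp, Category.id_comp]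
  exact dmap_evalHom (f.f (-p))

/-- Evaluation in degree `0`. -/
noncomputable def evMap (P : CochainComplex X.Modules ℤ) :
    (((tcx (TX X)).obj (dcx P)).obj P).X 0 ⟶ Coh.structureModule X :=
  HomologicalComplex.mapBifunctorDesc fun p q h => evTerm P p q h

theorem ι_evMap (P : CochainComplex X.Modules ℤ) (p q : ℤ) (h : p + q = 0) :
    ιt (TX X) (dcx P) P p q 0 h ≫ evMap P = evTerm P p q h :=
  ι_desc (TX X) (dcx P) P _ p q h

theorem d_evMap (P : CochainComplex X.Modules ℤ) (i : ℤ) (hi : (ComplexShape.up ℤ).Rel i 0) :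
    (((tcx (TX X)).obj (dcx P)).obj P).d i 0 ≫ evMap P = 0 := by
  obtain rfl : i = -1 := by simp at hi; omega
  refine tcx_hom_ext (TX X) fun p q h => ?_
  rw [comp_zero]
  obtain rfl : q = -(p + 1) := by omega
  rw [← Category.assoc]
  erw [HomologicalComplex.mapBifunctor.d_eq]
  rw [Preadditive.comp_add]
  erw [HomologicalComplex.mapBifunctor.ι_D₁, HomologicalComplex.mapBifunctor.ι_D₂]
  rw [HomologicalComplex.mapBifunctor.d₁_eq (dcx P) P (TX X) (ComplexShape.up ℤ)
      (show (ComplexShape.up ℤ).Rel p (p + 1) from rfl) (-(p + 1)) 0 (by change p + 1 + -(p + 1) = 0; omega),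
    HomologicalComplex.mapBifunctor.d₂_eq (dcx P) P (TX X) (ComplexShape.up ℤ) p
      (show (ComplexShape.up ℤ).Rel (-(p + 1)) (-p) by simp) 0 (by change p + -p = 0; omega)]
  change (ComplexShape.ε₁ (ComplexShape.up ℤ) (ComplexShape.up ℤ) (ComplexShape.up ℤ) (p, -(p + 1)) •
      ((TX X).map ((p + 1).negOnePow • dmap (P.d (-(p + 1)) (-p)))).app (P.X (-(p + 1))) ≫
        ιt (TX X) (dcx P) P (p + 1) (-(p + 1)) 0 (by omega) +
    ComplexShape.ε₂ (ComplexShape.up ℤ) (ComplexShape.up ℤ) (ComplexShape.up ℤ) (p, -(p + 1)) •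
      ((TX X).obj (dm (P.X (-p)))).map (P.d (-(p + 1)) (-p)) ≫ ιt (TX X) (dcx P) P p (-p) 0 (by omega)) ≫ evMap P = 0
  rw [Preadditive.add_comp, Linear.units_smul_comp, Linear.units_smul_comp, Category.assoc, Category.assoc,
    ι_evMap, ι_evMap]
  simp only [evTerm, HomologicalComplex.XIsoOfEq_rfl, Iso.refl_hom]
  erw [CategoryTheory.Functor.map_id, CategoryTheory.Functor.map_id, Category.id_comp, Category.id_comp]
  rw [Units.smul_def (((p + 1).negOnePow)), Functor.map_zsmul, NatTrans.app_zsmul, Preadditive.zsmul_comp,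
    dmap_evalHom, ← Units.smul_def]
  change ((1 : ℤˣ) • ((p + 1).negOnePow • _)) + p.negOnePow • _ = 0
  rw [one_smul, Int.negOnePow_succ, Units.neg_smul]
  exact neg_add_cancel _

/-- Evaluation `P^∨ ⊗ P ⟶ O`. -/
noncomputable def evCx (P : CochainComplex X.Modules ℤ) :
    ((tcx (TX X)).obj (dcx P)).obj P ⟶ sg 0 (Coh.structureModule X) :=
  HomologicalComplex.mkHomToSingle (evMap P) (d_evMap P)

theorem evCx_f (P : CochainComplex X.Modules ℤ) :
    (evCx P).f 0 = evMap P ≫ (HomologicalComplex.singleObjXSelf (ComplexShape.up ℤ) 0 (Coh.structureModule X)).inv := by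
  simp [evCx]

theorem evCx_natural {P P' : CochainComplex X.Modules ℤ} (f : P ⟶ P') :
    ((tcx (TX X)).map (dcxMap f)).app P ≫ evCx P = ((tcx (TX X)).obj (dcx P')).map f ≫ evCx P' := by
  refine HomologicalComplex.to_single_hom_ext (tcx_hom_ext (TX X) fun p q h => ?_)
  rw [HomologicalComplex.comp_f, HomologicalComplex.comp_f, evCx_f, evCx_f, ← Category.assoc, ← Category.assoc,
    ← Category.assoc, ← Category.assoc, ι_tcx_map₁, ι_tcx_map₂]
  simp only [Category.assoc]
  rw [← Category.assoc, ← Category.assoc, ← Category.assoc, ← Category.assoc]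
  refine congrArg (· ≫ _) ?_
  rw [Category.assoc, Category.assoc, ι_evMap, ι_evMap, evTerm_natural]

end Groth.Agent.RHom
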