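import Groth.Agent.Lib.K0Cat.Basic
import Groth.Agent.Lib.DerTrunc.Basic
import Mathlib.Algebra.Homology.DerivedCategory.SingleTriangle
import Mathlib.Algebra.BigOperators.Finprod
import Mathlib.Algebra.Ring.NegOnePow
import Mathlib.Data.Int.Interval

/-! `K₀` of a Serre subcategory and of bounded complexes with cohomology in it. -/

set_option autoImplicit false
set_option linter.unusedSectionVars false
set_option linter.style.haveILetI false

universe w v u

open CategoryTheory CategoryTheory.Limits
open KZero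

namespace Groth.Agent.K0Db

open CategoryTheory.Pretriangulated CategoryTheory.Triangulated DerivedCategory.TStructure

variable {A : Type u} [Category.{v} A] [Abelian A] [HasDerivedCategory.{w} A]

/-- Closure properties of a weak Serre subcategory. -/
structure Serre (P : ObjectProperty A) : Prop where
  zero : ∀ {M : A}, IsZero M → P M
  iso : ∀ {M N : A}, (M ≅ N) → P M → P N
  ker : ∀ {M N : A} (f : M ⟶ N), P M → P N → P (kernel f)
  coker : ∀ {M N : A} (f : M ⟶ N), P M → P N → P (cokernel f)
  ext : ∀ {S : ShortComplex A}, S.ShortExact → P S.X₁ → P S.X₃ → P S.X₂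

variable {P : ObjectProperty A} (hP : Serre P)

include hP in
theorem Serre.image {M N : A} (f : M ⟶ N) (hM : P M) (hN : P N) : P (Abelian.image f) :=
  hP.ker (cokernel.π f) hN (hP.coker f hM hN)

/-- The image of the first map of an exact pair is the kernel of the second. -/
noncomputable def exIso (S : ShortComplex A) (hS : S.Exact) : Abelian.image S.f ≅ kernel S.g where
  hom := S.abelianImageToKernel
  inv := kernel.lift _ (kernel.ι S.g) (S.exact_iff_kernel_ι_comp_cokernel_π_zero.1 hS)
  hom_inv_id := by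
    rw [← cancel_mono (Abelian.image.ι S.f), Category.assoc, kernel.lift_ι]
    simp
  inv_hom_id := by
    rw [← cancel_mono (kernel.ι S.g), Category.assoc,
      ShortComplex.abelianImageToKernel_comp_kernel_ι, Category.id_comp]
    exact kernel.lift_ι _ _ _

include hP in
theorem Serre.middle {U X Y Z W : A} (a : U ⟶ X) (f : X ⟶ Y) (g : Y ⟶ Z) (d : Z ⟶ W)
    (w₁ : a ≫ f = 0) (w₂ : f ≫ g = 0) (w₃ : g ≫ d = 0) (e₁ : (ShortComplex.mk a f w₁).Exact)
    (e₂ : (ShortComplex.mk f g w₂).Exact) (e₃ : (ShortComplex.mk g d w₃).Exact)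
    (hU : P U) (hX : P X) (hZ : P Z) (hW : P W) : P Y := by
  have hk : P (kernel f) := hP.iso (exIso _ e₁) (hP.image a hU hX)
  have hi : P (Abelian.image f) := hP.iso (Abelian.coimageIsoImage f) (hP.coker (kernel.ι f) hk hX)
  exact hP.ext (K0Cat.shortExact_kernel_image g) (hP.iso (exIso _ e₂) hi) (hP.iso (exIso _ e₃).symm (hP.ker d hZ hW))

/-- Bounded with cohomology in `P`. -/
def BdP (P : ObjectProperty A) (X : DerivedCategory A) : Prop :=
  (∀ i, P ((DerivedCategory.homologyFunctor A i).obj X)) ∧ ∃ a b : ℤ, X.IsGE a ∧ X.IsLE b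

/-- The class of the image of a morphism in `K0sub`. -/
noncomputable def imS (P : ObjectProperty A) {X Y : A} (f : X ⟶ Y) : KZero.K0sub P :=
  KZero.clSub P (Abelian.image f)

include hP in
theorem imS_eq_zero {X Y : A} {f : X ⟶ Y} (h : IsZero X ∨ IsZero Y) : imS P f = 0 := by
  have hz : IsZero (Abelian.image f) := by
    rcases h with h | h
    · exact IsZero.of_epi (Abelian.factorThruImage f) h
    · exact IsZero.of_mono (Abelian.image.ι f) h
  exact K0Cat.clSub_of_isZero hz (hP.zero hz)

include hP in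
theorem clSub_iso {X Y : A} (e : X ≅ Y) (hX : P X) : KZero.clSub P X = KZero.clSub P Y := by
  have hZ : IsZero (cokernel (𝟙 X)) := isZero_cokernel_of_epi _
  have h : (ShortComplex.mk e.hom (0 : Y ⟶ cokernel (𝟙 X)) comp_zero).ShortExact :=
    ShortComplex.shortExact_of_iso
      (ShortComplex.isoMk (S₁ := ShortComplex.mk (𝟙 X) (0 : X ⟶ cokernel (𝟙 X)) comp_zero)
        (Iso.refl _) e (Iso.refl _) (by simp) (by simp))
      (K0Cat.shortExact_id_zero hZ)
  have := K0Cat.clSub_ses _ h hX (hP.iso e hX) (hP.zero hZ)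
  simpa [K0Cat.clSub_of_isZero hZ (hP.zero hZ)] using this.symm

include hP in
theorem clS_eq_of_exact (S : ShortComplex A) (hS : S.Exact) (h : P S.X₂) (h₃ : P S.X₃) :
    KZero.clSub P S.X₂ = imS P S.f + imS P S.g := by
  have hk : P (kernel S.g) := hP.ker S.g h h₃
  have hi : P (Abelian.image S.g) := hP.image S.g h h₃
  rw [K0Cat.clSub_ses _ (K0Cat.shortExact_kernel_image S.g) hk h hi]
  exact congrArg (· + _) (clSub_iso hP (exIso S hS).symm hk)

/-- The terms of the Euler characteristic. -/
noncomputable def term (P : ObjectProperty A) (X : DerivedCategory A) (i : ℤ) : KZero.K0sub P :=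
  ((i.negOnePow : ℤˣ) : ℤ) • KZero.clSub P ((DerivedCategory.homologyFunctor A i).obj X)

/-- The Euler characteristic in `K₀`. -/
noncomputable def chi (P : ObjectProperty A) (X : DerivedCategory A) : KZero.K0sub P := ∑ᶠ i, term P X i

include hP in
theorem finite_support_term {X : DerivedCategory A} (hX : BdP P X) :
    (Function.support (term P X)).Finite := by
  obtain ⟨-, a, b, ha, hb⟩ := hX
  refine (Finset.Icc a b).finite_toSet.subset fun i hi => ?_
  by_contra h
  rw [Finset.coe_Icc, Set.mem_Icc, not_and_or] at h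
  apply hi
  have : IsZero ((DerivedCategory.homologyFunctor A i).obj X) := by
    rcases h with h | h
    · exact DerivedCategory.isZero_of_isGE X a i (by omega)
    · exact DerivedCategory.isZero_of_isLE X b i (by omega)
  simp [term, K0Cat.clSub_of_isZero this (hP.zero this)]

include hP in
theorem chi_tri (T : Triangle (DerivedCategory A)) (hT : T ∈ distTriang _)
    (h₁ : BdP P T.obj₁) (h₂ : BdP P T.obj₂) (h₃ : BdP P T.obj₃) :
    chi P T.obj₂ = chi P T.obj₁ + chi P T.obj₃ := by
  let c : ℤ → KZero.K0sub P := fun i => ((i.negOnePow : ℤˣ) : ℤ) •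
    imS P (DerivedCategory.HomologySequence.δ T i (i + 1) rfl)
  have hc : (Function.support c).Finite := by
    obtain ⟨-, a, b, ha, hb⟩ := h₃
    refine (Finset.Icc a b).finite_toSet.subset fun i hi => ?_
    by_contra h
    rw [Finset.coe_Icc, Set.mem_Icc, not_and_or] at h
    apply hi
    have : IsZero ((DerivedCategory.homologyFunctor A i).obj T.obj₃) := by
      rcases h with h | h
      · exact DerivedCategory.isZero_of_isGE _ a i (by omega)
      · exact DerivedCategory.isZero_of_isLE _ b i (by omega)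
    simp [c, imS_eq_zero hP (Or.inl this)]
  have hc' : (Function.support (fun i : ℤ => c (i - 1))).Finite :=
    hc.preimage (fun i _ j _ h => by simpa using h)
  have key : ∀ i, term P T.obj₁ i + term P T.obj₃ i + c (i - 1) = term P T.obj₂ i + c i := by
    intro i
    have hs : (((i - 1).negOnePow : ℤˣ) : ℤ) = -((i.negOnePow : ℤˣ) : ℤ) := by
      conv_rhs => rw [← sub_add_cancel i 1, Int.negOnePow_succ]
      simp
    have hX : KZero.clSub P ((DerivedCategory.homologyFunctor A i).obj T.obj₁) =
        imS P (DerivedCategory.HomologySequence.δ T (i - 1) (i - 1 + 1) rfl) +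
          imS P ((DerivedCategory.homologyFunctor A i).map T.mor₁) := by
      have hi : ∀ (n : ℤ) (h : i - 1 + 1 = n),
          KZero.clSub P ((DerivedCategory.homologyFunctor A n).obj T.obj₁) =
            imS P (DerivedCategory.HomologySequence.δ T (i - 1) n h) +
              imS P ((DerivedCategory.homologyFunctor A n).map T.mor₁) :=
        fun n h => clS_eq_of_exact hP _
          (DerivedCategory.HomologySequence.exact₁ T hT (i - 1) n h) (h₁.1 n) (h₂.1 n)
      have e : ∀ (n : ℤ) (h : i - 1 + 1 = n),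
          imS P (DerivedCategory.HomologySequence.δ T (i - 1) n h) =
            imS P (DerivedCategory.HomologySequence.δ T (i - 1) (i - 1 + 1) rfl) := by
        intro n h; subst h; rfl
      rw [hi i (by omega), e]
    have hY := clS_eq_of_exact hP _ (DerivedCategory.HomologySequence.exact₂ T hT i) (h₂.1 i) (h₃.1 i)
    have hZ := clS_eq_of_exact hP _
      (DerivedCategory.HomologySequence.exact₃ T hT i (i + 1) rfl) (h₃.1 i) (h₁.1 (i + 1))
    simp only [term, c, hs, hX, hY, hZ, smul_add, neg_smul]
    abel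
  have hsum : (∑ᶠ i, (term P T.obj₁ i + term P T.obj₃ i + c (i - 1))) =
      ∑ᶠ i, (term P T.obj₂ i + c i) := finsum_congr key
  have h13 : (Function.support (fun i => term P T.obj₁ i + term P T.obj₃ i)).Finite :=
    ((finite_support_term hP h₁).union (finite_support_term hP h₃)).subset (Function.support_add _ _)
  rw [finsum_add_distrib h13 hc', finsum_add_distrib (finite_support_term hP h₂) hc,
    finsum_add_distrib (finite_support_term hP h₁) (finite_support_term hP h₃),
    show (∑ᶠ i, c (i - 1)) = ∑ᶠ i, c i from finsum_comp_equiv (Equiv.subRight (1 : ℤ))] at hsum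
  exact (add_right_cancel hsum).symm

include hP in
theorem bd_single {X : A} (hX : P X) (n : ℤ) : BdP P ((DerivedCategory.singleFunctor A n).obj X) :=
  ⟨fun i => by
    by_cases hi : i = n
    · subst hi
      exact hP.iso ((DerivedCategory.singleFunctorCompHomologyFunctorIso A i).app X).symm hX
    · refine hP.zero ?_
      rcases lt_or_gt_of_ne hi with h | h
      · exact DerivedCategory.isZero_of_isGE _ n i h
      · exact DerivedCategory.isZero_of_isLE _ n i h, n, n, inferInstance, inferInstance⟩

include hP in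
theorem chi_single (X : A) (hX : P X) :
    chi P ((DerivedCategory.singleFunctor A 0).obj X) = KZero.clSub P X := by
  unfold chi
  rw [finsum_eq_single _ 0 fun i hi => ?_]
  · simp only [term, Int.negOnePow_zero, Units.val_one, one_smul]
    exact (clSub_iso hP ((DerivedCategory.singleFunctorCompHomologyFunctorIso A 0).app X).symm hX).symm
  · have : IsZero ((DerivedCategory.homologyFunctor A i).obj
        ((DerivedCategory.singleFunctor A 0).obj X)) := by
      rcases lt_or_gt_of_ne hi with h | h
      · exact DerivedCategory.isZero_of_isGE _ 0 i h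
      · exact DerivedCategory.isZero_of_isLE _ 0 i h
    simp [term, K0Cat.clSub_of_isZero this (hP.zero this)]



/-- Dévissage by the standard t-structure. -/
theorem induction_bd (Q : DerivedCategory A → Prop) (iso : ∀ {K L : DerivedCategory A}, (K ≅ L) → Q K → Q L)
    (ext : ∀ T ∈ distTriang (DerivedCategory A), Q T.obj₁ → Q T.obj₃ → Q T.obj₂)
    (shift : ∀ (K : DerivedCategory A) (n : ℤ), Q K → Q (K⟦n⟧))
    (single : ∀ M : A, P M → Q ((DerivedCategory.singleFunctor A 0).obj M))
    (hPiso : ∀ {M N : A}, (M ≅ N) → P M → P N) (K : DerivedCategory A) (hK : BdP P K) : Q K := by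
  obtain ⟨hH, a, b, ha, hb⟩ := hK
  suffices H : ∀ (n : ℕ) (K : DerivedCategory A), (∀ i, P ((DerivedCategory.homologyFunctor A i).obj K)) →
      K.IsGE a → K.IsLE (a + n) → Q K from
    H (b - a).toNat K hH ha (t.isLE_of_le K b _ (by omega))
  have conc : ∀ (n : ℤ) (K : DerivedCategory A), P ((DerivedCategory.homologyFunctor A n).obj K) →
      K.IsGE n → K.IsLE n → Q K := fun n K h _ _ => by
    obtain ⟨Y, ⟨e⟩⟩ := DerivedCategory.exists_iso_singleFunctor_obj_of_isGE_of_isLE K n
    refine iso (((DerivedCategory.singleFunctors A).shiftIso (-n) n 0 (by omega)).app Y ≪≫ e.symm) (shift _ _ ?_)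
    exact single Y (hPiso ((DerivedCategory.homologyFunctor A n).mapIso e ≪≫
      (DerivedCategory.singleFunctorCompHomologyFunctorIso A n).app Y) h)
  intro n
  induction n with
  | zero => intro K hH ha hb; exact conc a K (hH a) ha (by simpa using hb)
  | succ n ih =>
    intro K hH ha hb
    obtain ⟨c, hc⟩ : ∃ c : ℤ, a + (n + 1 : ℕ) = c := ⟨_, rfl⟩
    rw [hc] at hb
    have hL : DerivedCategory.IsLE ((t.truncLT c).obj K) (a + n) :=
      t.isLE_truncLT_obj K c (a + n) (by lia)
    have hG : DerivedCategory.IsGE ((t.truncLT c).obj K) a :=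
      (inferInstance : t.IsGE ((t.truncLT c).obj K) a)
    have hG₃ : DerivedCategory.IsGE ((t.truncGE c).obj K) c :=
      (inferInstance : t.IsGE ((t.truncGE c).obj K) c)
    have hL₃ : DerivedCategory.IsLE ((t.truncGE c).obj K) c :=
      (inferInstance : t.IsLE ((t.truncGE c).obj K) c)
    refine ext _ (t.triangleLTGE_distinguished c K) (ih _ (fun i => ?_) hG hL) (conc c _ ?_ hG₃ hL₃)
    · by_cases hi : i < c
      · haveI := DerTrunc.isIso_homology_truncLTι K c i hi
        exact hPiso (asIso ((DerivedCategory.homologyFunctor A i).map ((t.truncLTι c).app K))).symm (hH i)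
      · have hz : IsZero ((DerivedCategory.homologyFunctor A i).obj ((t.truncLT c).obj K)) :=
          DerivedCategory.isZero_of_isLE _ (a + n) i (by omega)
        have hz' : IsZero ((DerivedCategory.homologyFunctor A (a - 1)).obj K) :=
          DerivedCategory.isZero_of_isGE _ a _ (by omega)
        exact hPiso (hz'.iso hz) (hH _)
    · exact hPiso (@asIso _ _ _ _ _ (DerTrunc.isIso_homology_truncGEπ K c c le_rfl)) (hH c)

include hP in
/-- `K₀` of a Serre subcategory is `K₀` of bounded complexes with cohomology in it. -/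
theorem nonempty_equiv (Q : ObjectProperty (DerivedCategory A)) (hQ : ∀ K, Q K ↔ BdP P K) :
    ∃ φ : KZero.K0sub P ≃+ KZero.K0tr Q, ∀ M : A, P M →
      φ (KZero.clSub P M) = KZero.clTr Q ((DerivedCategory.singleFunctor A 0).obj M) := by
  have hs : ∀ {M : A}, P M → Q ((DerivedCategory.singleFunctor A 0).obj M) := fun h => (hQ _).2 (bd_single hP h 0)
  have hiso : ∀ {K L : DerivedCategory A}, (K ≅ L) → Q K → Q L := fun {K L} e h => by
    obtain ⟨hH, a, b, ha, hb⟩ := (hQ K).1 h
    exact (hQ L).2 ⟨fun i => hP.iso ((DerivedCategory.homologyFunctor A i).mapIso e) (hH i), a, b,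
      t.isGE_of_iso e a, t.isLE_of_iso e b⟩
  have hshift : ∀ (K : DerivedCategory A) (n : ℤ), Q K → Q (K⟦n⟧) := fun K n h => by
    obtain ⟨hH, a, b, ha, hb⟩ := (hQ K).1 h
    exact (hQ _).2 ⟨fun i => hP.iso
      (((DerivedCategory.homologyFunctor A 0).shiftIso n i (n + i) rfl).app K).symm (hH _),
      a - n, b - n, t.isGE_shift K a n (a - n) (by omega), t.isLE_shift K b n (b - n) (by omega)⟩
  let Z : DerivedCategory A := (DerivedCategory.singleFunctor A 0).obj (HasZeroObject.zero' A).zero
  have hZ : IsZero Z := Functor.map_isZero _ (isZero_zero A)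
  have hQZ : Q Z := hs (hP.zero (isZero_zero A))
  let f : Subtype P → KZero.K0tr Q := fun X => KZero.clTr Q ((DerivedCategory.singleFunctor A 0).obj X.1)
  let φ : KZero.K0sub P →+ KZero.K0tr Q := K0Cat.liftSub f
    (fun S h₁ h₂ h₃ hS => K0Cat.clTr_tri _ hS.singleTriangle_distinguished (hs h₁) (hs h₂) (hs h₃))
  let ψ : KZero.K0tr Q →+ KZero.K0sub P := K0Cat.liftTr (fun X => chi P X.1)
    (fun T h₁ h₂ h₃ hT => chi_tri hP T hT ((hQ _).1 h₁) ((hQ _).1 h₂) ((hQ _).1 h₃))
  have hφ : ∀ (X : A) (hX : P X), φ (KZero.clSub P X) = KZero.clTr Q ((DerivedCategory.singleFunctor A 0).obj X) :=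
    fun X hX => K0Cat.liftSub_clSub f _ hX
  have hinj : ∀ x, ψ (φ x) = x := fun x => by
    refine K0Cat.clSub_induction (p := fun x => ψ (φ x) = x) x (by simp) (fun X hX => ?_) (fun a h => by simp [h])
      (fun a b ha hb => by simp [ha, hb])
    rw [hφ X hX]
    exact (K0Cat.liftTr_clTr (P := Q) _ _ (hs hX)).trans (chi_single hP X hX)
  have hsurj : ∀ K, Q K → KZero.clTr Q K ∈ φ.range := fun K hK => by
    let G : DerivedCategory A → Prop := fun L => Q L ∧ KZero.clTr Q L ∈ φ.range
    have g1 : ∀ L, G L → G (L⟦(1 : ℤ)⟧) := fun L h => ⟨hshift L 1 h.1, by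
      rw [K0Cat.clTr_shift_one hZ h.1 (hshift L 1 h.1) hQZ]
      exact neg_mem h.2⟩
    have gi : ∀ {L L' : DerivedCategory A}, (L ≅ L') → G L → G L' := fun e h => ⟨hiso e h.1, by
      rw [← K0Cat.clTr_iso e hZ h.1 (hiso e h.1) hQZ]
      exact h.2⟩
    have gm : ∀ L, Q L → G (L⟦(1 : ℤ)⟧) → G L := fun L h h' => ⟨h, by
      have := h'.2
      rw [K0Cat.clTr_shift_one hZ h h'.1 hQZ] at this
      simpa using this⟩
    have gs : ∀ (L : DerivedCategory A) (n : ℤ), G L → G (L⟦n⟧) := fun L n h => by
      induction n using Int.induction_on with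
      | zero => exact gi ((shiftFunctorZero (DerivedCategory A) ℤ).app L).symm h
      | succ n ih => exact gi ((shiftFunctorAdd (DerivedCategory A) (n : ℤ) 1).app L).symm (g1 _ ih)
      | pred n ih => exact gm _ (hshift _ _ h.1) (gi
          ((shiftFunctorAdd' (DerivedCategory A) (-(n : ℤ) - 1) 1 (-(n : ℤ)) (by omega)).app L) ih)
    refine (induction_bd (P := P) G gi (fun T hT h₁ h₃ => ?_) gs
      (fun M hM => ⟨hs hM, ⟨KZero.clSub P M, hφ M hM⟩⟩) (fun e => hP.iso e) K ((hQ K).1 hK)).2
    have h₂ : Q T.obj₂ := (hQ _).2 ⟨fun i => ?_, ?_⟩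
    · exact ⟨h₂, by rw [K0Cat.clTr_tri T hT h₁.1 h₂ h₃.1]; exact add_mem h₁.2 h₃.2⟩
    · have k₁ := ((hQ _).1 h₁.1).1
      have k₃ := ((hQ _).1 h₃.1).1
      exact hP.middle _ _ _ _ _ _ _ (DerivedCategory.HomologySequence.exact₁ T hT (i - 1) i (by omega))
        (DerivedCategory.HomologySequence.exact₂ T hT i)
        (DerivedCategory.HomologySequence.exact₃ T hT i (i + 1) rfl) (k₃ _) (k₁ _) (k₃ _) (k₁ _)
    · obtain ⟨a, b, _, _⟩ := ((hQ _).1 h₁.1).2
      obtain ⟨a', b', _, _⟩ := ((hQ _).1 h₃.1).2
      exact ⟨min a a', max b b', t.isGE₂ T hT _ (t.isGE_of_ge _ (min a a') a (by omega))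
        (t.isGE_of_ge _ (min a a') a' (by omega)),
        t.isLE₂ T hT _ (t.isLE_of_le _ b (max b b') (by omega)) (t.isLE_of_le _ b' (max b b') (by omega))⟩
  refine ⟨AddEquiv.ofBijective φ ⟨fun x y h => by simpa [hinj] using congrArg ψ h, fun x => ?_⟩,
    fun X hX => hφ X hX⟩
  refine K0Cat.clTr_induction (p := fun x => ∃ y, φ y = x) x ⟨0, map_zero φ⟩ (fun K hK => hsurj K hK) ?_ ?_
  · rintro a ⟨y, rfl⟩; exact ⟨-y, map_neg φ y⟩
  · rintro a b ⟨y, rfl⟩ ⟨z, rfl⟩; exact ⟨y + z, map_add φ y z⟩

end Groth.Agent.K0Db
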