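import Groth.Agent.Lib.RHom.K0Point
import Groth.Agent.Lib.DPerf.OneDegree

/-! Dévissage of coherent modules with supports. -/

set_option autoImplicit false
set_option linter.unusedSectionVars false
set_option linter.style.haveILetI false
set_option backward.isDefEq.respectTransparency false

universe u

open CategoryTheory CategoryTheory.Limits AlgebraicGeometry TopologicalSpace Opposite

attribute [local instance] HasDerivedCategory.standard

namespace Groth.Agent.K0Pt

variable {X : Scheme.{u}} [IsNoetherian X]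

/-- Coherent with support in `Y`. -/
abbrev SupP (Y : Set X) : ObjectProperty X.Modules := fun G => Coh.IsCoh G ∧ CohB1.support G ⊆ Y

/-- The length of a stalk. -/
noncomputable abbrev len (y : X) (G : X.Modules) : ℕ∞ :=
  Module.length (X.presheaf.stalk y) (G.presheaf.stalk y)

theorem subsingleton_stalk_of_len {y : X} {G : X.Modules} (h : len y G = 0) :
    Subsingleton (G.presheaf.stalk y) := Module.length_eq_zero_iff.1 h

theorem supP_mono {Y Z : Set X} (h : Y ⊆ Z) {G : X.Modules} (hG : SupP Y G) : SupP Z G := ⟨hG.1, hG.2.trans h⟩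

theorem supP_biprod {Y : Set X} {A B : X.Modules} (hA : SupP Y A) (hB : SupP Y B) : SupP Y (A ⊞ B) :=
  (K0Coh.serre_supported Y).ext (S := ShortComplex.mk (biprod.inl : A ⟶ A ⊞ B) biprod.snd biprod.inl_snd)
    (ShortComplex.Splitting.shortExact (ShortComplex.Splitting.ofHasBinaryBiproduct A B)) hA hB

theorem supP_image_qcoh {Y : Set X} {A T : X.Modules} (hA : SupP Y A) (hT : Coh.IsQCoh T) (f : A ⟶ T) :
    SupP Y (Abelian.image f) :=
  (K0Coh.serre_supported Y).iso (Abelian.coimageIsoImage f)
    ((K0Coh.serre_supported Y).coker (kernel.ι f) (show SupP Y (kernel f) from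
      ⟨M1.isCoh_kernel hA.1 hT f, fun x hx => hA.2 fun h =>
        hx (@Function.Injective.subsingleton _ _ _ ((KFlat.Sch.mono_iff_stalk (kernel.ι f)).1 inferInstance x) h)⟩) hA)

/-- A morphism not vanishing at `y` into a module of length one there. -/
theorem relation {Y Z : Set X} (hZ : Z ⊆ Y) (y : X) {G H : X.Modules} (hG : SupP Z G) (hH : SupP Z H)
    (φ : G ⟶ H) (hφ : ∃ a, Cyc26.stalkLin φ y a ≠ 0) (hlH : len y H = 1) :
    ∃ K C : X.Modules, SupP Z K ∧ SupP Z C ∧ len y C = 0 ∧ len y G = len y K + 1 ∧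
      KZero.clSub (SupP Y) G + KZero.clSub (SupP Y) C =
        KZero.clSub (SupP Y) K + KZero.clSub (SupP Y) H := by
  have hS := K0Coh.serre_supported (X := X) Z
  have hK : SupP Z (kernel φ) := hS.ker φ hG hH
  have hC : SupP Z (cokernel φ) := hS.coker φ hG hH
  have hI : SupP Z (Abelian.image φ) := hS.image φ hG hH
  have s1 := K0Cat.shortExact_kernel_image φ
  let S2 := ShortComplex.mk (Abelian.image.ι φ) (cokernel.π φ) (kernel.condition _)
  have s2 : S2.ShortExact := { exact := ShortComplex.exact_of_f_is_kernel _ (kernelIsKernel (cokernel.π φ)) }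
  obtain ⟨i1, e1, o1⟩ := Cyc26.stalkLin_exact s1 y
  obtain ⟨i2, e2, o2⟩ := Cyc26.stalkLin_exact s2 y
  have l1 : len y G = len y (kernel φ) + len y (Abelian.image φ) :=
    Module.length_eq_add_of_exact _ _ i1 o1 e1
  have l2 : len y H = len y (Abelian.image φ) + len y (cokernel φ) :=
    Module.length_eq_add_of_exact _ _ i2 o2 e2
  have hI0 : len y (Abelian.image φ) ≠ 0 := fun h => by
    haveI := subsingleton_stalk_of_len h
    obtain ⟨a, ha⟩ := hφ
    refine ha ?_
    have : (M1.stalkAb y).map φ a =
        (M1.stalkAb y).map (Abelian.image.ι φ) ((M1.stalkAb y).map (Abelian.factorThruImage φ) a) := by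
      rw [← ConcreteCategory.comp_apply, ← Functor.map_comp, Abelian.image.fac]
    refine this.trans ((congrArg _ (Subsingleton.elim (α := (Abelian.image φ).presheaf.stalk y) _ 0)).trans ?_)
    exact map_zero ((M1.stalkAb y).map (Abelian.image.ι φ)).hom
  rw [hlH] at l2
  have hI1 : len y (Abelian.image φ) = 1 :=
    le_antisymm (le_self_add.trans l2.ge) (Order.one_le_iff_ne_zero.2 hI0)
  have hC0 : len y (cokernel φ) = 0 := by
    rw [hI1] at l2
    exact (WithTop.add_left_inj ENat.one_ne_top).1 ((l2.symm).trans (add_zero 1).symm)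
  refine ⟨kernel φ, cokernel φ, hK, hC, hC0, by rw [l1, hI1], ?_⟩
  have c1 := K0Cat.clSub_ses (P := SupP Y) _ s1 (supP_mono hZ hK) (supP_mono hZ hG) (supP_mono hZ hI)
  have c2 := K0Cat.clSub_ses (P := SupP Y) _ s2 (supP_mono hZ hI) (supP_mono hZ hH) (supP_mono hZ hC)
  simp only [S2] at c1 c2
  rw [c1, c2]
  abel

/-- Dévissage. -/
theorem closure_eq_top (Y' : Set X) (hY' : IsClosed Y') {ι : Type u} (F : ι → X.Modules)
    (hF : ∀ a : ι, Coh.IsCoh (F a) ∧ CohB1.support (F a) ⊆ Y')
    (hgen : ∀ (Z : Set X), IsClosed Z → IsIrreducible Z → Z ⊆ Y' → ∀ y : X, closure ({y} : Set X) = Z →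
      ∃ a : ι, CohB1.support (F a) ⊆ Z ∧ Module.length (X.presheaf.stalk y) ((F a).presheaf.stalk y) = 1) :
    AddSubgroup.closure (Set.range fun a : ι => KZero.clSub (SupP Y') (F a)) = ⊤ := by
  let S := AddSubgroup.closure (Set.range fun a : ι => KZero.clSub (SupP Y') (F a))
  suffices H : ∀ Z : Closeds X, (Z : Set X) ⊆ Y' → ∀ G : X.Modules, SupP (Z : Set X) G →
      KZero.clSub (SupP Y') G ∈ S by
    refine (AddSubgroup.eq_top_iff' _).2 fun x => ?_
    induction x using K0Cat.clSub_induction with
    | h0 => exact zero_mem _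
    | hcl G hG => exact H ⟨Y', hY'⟩ subset_rfl G hG
    | hneg a h => exact neg_mem h
    | hadd a b ha hb => exact add_mem ha hb
  intro Z
  induction Z using WellFoundedLT.induction with
  | ind Z ih =>
    intro hZY G hG
    by_cases hne : (Z : Set X) = ∅
    · have hz : IsZero G := DPerf.isZero_of_stalks fun x => by
        by_contra h
        exact (hne ▸ hG.2 h : x ∈ (∅ : Set X))
      rw [K0Cat.clSub_of_isZero hz (supP_mono hZY hG)]
      exact zero_mem _
    obtain ⟨x, hx⟩ := Set.nonempty_iff_ne_empty.2 hne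
    let C := irreducibleComponent (⟨x, hx⟩ : (Z : Set X))
    haveI : QuasiSober (Z : Set X) := Z.isClosed.isClosedEmbedding_subtypeVal.quasiSober
    obtain ⟨η, hη⟩ := QuasiSober.sober (isIrreducible_irreducibleComponent (x := (⟨x, hx⟩ : (Z : Set X))))
      isClosed_irreducibleComponent
    have hC' : IsGenericPoint (η : X) (Subtype.val '' C) := by
      have := hη.image continuous_subtype_val
      rwa [(Z.isClosed.isClosedEmbedding_subtypeVal.isClosedMap _ isClosed_irreducibleComponent).closure_eq] at this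
    have hmax : ∀ w : X, w ∈ (Z : Set X) → w ⤳ (η : X) → w = η := fun w hw hs => by
      have h1 : (⟨w, hw⟩ : (Z : Set X)) ⤳ η := (subtype_specializes_iff _ _).2 hs
      have h2 : C ⊆ closure {(⟨w, hw⟩ : (Z : Set X))} := by
        rw [show C = closure {η} from hη.symm]
        exact specializes_iff_closure_subset.1 h1
      have h3 := (irreducibleComponent_mem_irreducibleComponents (⟨x, hx⟩ : (Z : Set X))).2
        isIrreducible_singleton.closure h2
      have h4 : η ⤳ (⟨w, hw⟩ : (Z : Set X)) := by
        refine specializes_iff_mem_closure.2 ?_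
        rw [show closure {η} = C from hη]
        exact h3 (subset_closure rfl)
      exact congrArg Subtype.val (Specializes.antisymm h1 h4).eq
    have hsub : Subtype.val '' C ⊆ (Z : Set X) := by rintro _ ⟨w, -, rfl⟩; exact w.2
    obtain ⟨a, haC, hal⟩ := hgen (Subtype.val '' C)
      (Z.isClosed.isClosedEmbedding_subtypeVal.isClosedMap _ isClosed_irreducibleComponent)
      (isIrreducible_irreducibleComponent.image _ continuous_subtype_val.continuousOn) (hsub.trans hZY) η hC'
    have hFa : SupP (Z : Set X) (F a) := ⟨(hF a).1, haC.trans hsub⟩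
    have hzero : ∀ G' : X.Modules, SupP (Z : Set X) G' → len (η : X) G' = 0 →
        KZero.clSub (SupP Y') G' ∈ S := fun G' hG' h0 => by
      let Z' : Closeds X := ⟨CohB1.support G', M1.isClosed_support hG'.1.2⟩
      have hlt : Z' < Z := lt_of_le_of_ne hG'.2 fun h => by
        have hm : (η : X) ∈ (Z' : Set X) := (congrArg (fun W : Closeds X => (η : X) ∈ (W : Set X)) h).mpr η.2
        exact hm (subsingleton_stalk_of_len h0)
      exact ih Z' hlt (hG'.2.trans hZY) G' ⟨hG'.1, subset_rfl⟩
    obtain ⟨T, hT, hTl, hTg⟩ := exists_target (η : X)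
    obtain ⟨m, hm⟩ : ∃ m : ℕ, len (η : X) G = m := by
      refine ⟨_, (ENat.natCast_toNat (Cyc26.length_stalk_ne_top hG.1 fun w hw hs => hmax w (hG.2 ?_) hs)).symm⟩
      exact not_subsingleton_iff_nontrivial.2 hw
    clear_value C
    suffices H : ∀ (m : ℕ) (G : X.Modules), SupP (Z : Set X) G → len (η : X) G = m → KZero.clSub (SupP Y') G ∈ S from
      H m G hG hm
    clear hm hG m G
    intro m
    induction m with
    | zero => intro G hG hm; exact hzero G hG (by rw [hm]; rfl)
    | succ m ihm =>
      intro G hG hm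
      have hne' : ∀ G' : X.Modules, len (η : X) G' ≠ 0 → ¬ Subsingleton (G'.presheaf.stalk (η : X)) :=
        fun G' h hs => h (Module.length_eq_zero_iff.2 hs)
      obtain ⟨g, g₀, hg⟩ := hTg G hG.1 (hne' G (by rw [hm]; exact_mod_cast Nat.succ_ne_zero m))
      obtain ⟨f, f₀, hf⟩ := hTg (F a) (hF a).1 (hne' _ (by rw [len, hal]; exact one_ne_zero))
      let d : G ⊞ F a ⟶ T := biprod.desc g f
      have hH : SupP (Z : Set X) (Abelian.image d) := supP_image_qcoh (supP_biprod hG hFa) hT d
      let φ : G ⟶ Abelian.image d := biprod.inl ≫ Abelian.factorThruImage d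
      let ψ : F a ⟶ Abelian.image d := biprod.inr ≫ Abelian.factorThruImage d
      have key : ∀ {A : X.Modules} (χ : A ⟶ Abelian.image d) (χ' : A ⟶ T) (_ : χ ≫ Abelian.image.ι d = χ')
          (b : A.presheaf.stalk (η : X)), Cyc26.stalkLin χ' (η : X) b ≠ 0 →
          Cyc26.stalkLin χ (η : X) b ≠ 0 := fun χ χ' h b hb h0 => hb (by
        have e : (M1.stalkAb (η : X)).map χ' b =
            (M1.stalkAb (η : X)).map (Abelian.image.ι d) ((M1.stalkAb (η : X)).map χ b) := by
          rw [← ConcreteCategory.comp_apply, ← Functor.map_comp, h]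
        exact e.trans ((congrArg _ h0).trans (map_zero ((M1.stalkAb (η : X)).map (Abelian.image.ι d)).hom)))
      have hφ := key φ g (by simp [φ, d]) g₀ hg
      have hψ := key ψ f (by simp [ψ, d]) f₀ hf
      have hHl : len (η : X) (Abelian.image d) = 1 := by
        refine le_antisymm ?_ (Order.one_le_iff_ne_zero.2 fun h => hφ ?_)
        · rw [← hTl]
          exact Module.length_le_of_injective (Cyc26.stalkLin (Abelian.image.ι d) (η : X))
            ((KFlat.Sch.mono_iff_stalk _).1 inferInstance _)
        · haveI := subsingleton_stalk_of_len h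
          exact Subsingleton.elim _ _
      obtain ⟨K, C₁, hK, hC₁, hC₁0, hlK, e₁⟩ := relation hZY (η : X) hG hH φ ⟨g₀, hφ⟩ hHl
      obtain ⟨K₂, C₂, hK₂, hC₂, hC₂0, hlK₂, e₂⟩ := relation hZY (η : X) hFa hH ψ ⟨f₀, hψ⟩ hHl
      have hlK' : len (η : X) K = m := by
        rw [hm, Nat.cast_succ] at hlK
        exact (WithTop.add_right_inj ENat.one_ne_top).1 hlK.symm
      have hK₂0 : len (η : X) K₂ = 0 := by
        rw [len, hal] at hlK₂
        exact (WithTop.add_right_inj ENat.one_ne_top).1 (hlK₂.symm.trans (zero_add 1).symm)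
      have hH' : KZero.clSub (SupP Y') (Abelian.image d) ∈ S := by
        rw [show KZero.clSub (SupP Y') (Abelian.image d) =
          KZero.clSub (SupP Y') (F a) + KZero.clSub (SupP Y') C₂ - KZero.clSub (SupP Y') K₂ by rw [e₂]; abel]
        exact sub_mem (add_mem (AddSubgroup.subset_closure ⟨a, rfl⟩) (hzero _ hC₂ hC₂0)) (hzero _ hK₂ hK₂0)
      rw [show KZero.clSub (SupP Y') G = KZero.clSub (SupP Y') K + KZero.clSub (SupP Y') (Abelian.image d) -
        KZero.clSub (SupP Y') C₁ by rw [← e₁]; abel]
      exact sub_mem (add_mem (ihm K hK hlK') hH') (hzero _ hC₁ hC₁0)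

end Groth.Agent.K0Pt
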