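import Groth.Agent.Lib.RHom.K0Coh
import Groth.Agent.Lib.Cyc26.Stalk
import Groth.Agent.Lib.TensorMod.PullSupport
import Groth.Agent.Lib.ModM1.Push
import Mathlib.AlgebraicGeometry.ResidueField

/-! Maps from coherent modules to the residue field at a point, and dévissage. -/

set_option autoImplicit false
set_option linter.unusedSectionVars false
set_option linter.style.haveILetI false
set_option backward.isDefEq.respectTransparency false

universe u

open CategoryTheory CategoryTheory.Limits AlgebraicGeometry TopologicalSpace Opposite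
open scoped TensorProduct

namespace Groth.Agent.K0Pt

section OnePoint

variable {Z : Scheme.{u}} [Subsingleton Z] (z : Z)

theorem opens_eq_top {V : Z.Opens} (hz : z ∈ V) : V = ⊤ :=
  Opens.ext (Set.eq_univ_of_forall fun w => Subsingleton.elim z w ▸ hz)

theorem isField_stalk {κ : Type u} [Field κ] (Zs : Scheme.{u}) [Subsingleton Zs] (w : Zs)
    (e : Γ(Zs, ⊤) ≃+* κ) : IsField (Zs.presheaf.stalk w) := by
  have hb : Function.Bijective (Zs.presheaf.germ ⊤ w trivial).hom := by
    refine ⟨fun a b h => ?_, fun s => ?_⟩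
    · obtain ⟨W, hw, i₁, i₂, h'⟩ := Zs.presheaf.germ_eq w (U := ⊤) (V := ⊤) trivial trivial a b h
      obtain rfl := opens_eq_top w hw
      obtain rfl : i₁ = 𝟙 _ := Subsingleton.elim _ _
      obtain rfl : i₂ = 𝟙 _ := Subsingleton.elim _ _
      simpa using h'
    · obtain ⟨W, hw, t, rfl⟩ := Zs.presheaf.exists_germ_eq s
      obtain rfl := opens_eq_top w hw
      exact ⟨t, rfl⟩
  exact MulEquiv.isField (Field.toIsField κ) ((RingEquiv.ofBijective _ hb).symm.trans e).toMulEquiv

theorem isQCoh_sky : Coh.IsQCoh (M2.sky z ((Coh.structureModule Z).presheaf.stalk z : Type u)) := by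
  have hb : ∀ w : Z, Function.Bijective ((M1.stalkAb w).map (M2.toSky z (Coh.structureModule Z))) := fun w => by
    obtain rfl := Subsingleton.elim z w
    have he : ∀ a, M2.skyEval z ((Coh.structureModule Z).presheaf.stalk z : Type u)
        ((M1.stalkAb z).map (M2.toSky z (Coh.structureModule Z)) a) = a := fun a => by
      obtain ⟨W, hw, s, rfl⟩ := (Coh.structureModule Z).presheaf.exists_germ_eq a
      rw [M1.germ_naturality, M2.skyEval_germ, M2.toSky_app]
    have hinj : Function.Injective (M2.skyEval z ((Coh.structureModule Z).presheaf.stalk z : Type u)) := by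
      rw [injective_iff_map_eq_zero]
      intro a ha
      obtain ⟨W, hw, s, rfl⟩ := (M2.sky z _).presheaf.exists_germ_eq a
      rw [M2.skyEval_germ] at ha
      rw [show s = 0 from M2.sky_ext _ _ s 0 fun h => ha.trans rfl, map_zero]
    exact ⟨fun a b h => (he a).symm.trans ((congrArg _ h).trans (he b)), fun b => ⟨_, hinj (he _)⟩⟩
  haveI : IsIso (M2.toSky z (Coh.structureModule Z)) :=
    @isIso_of_mono_of_epi _ _ _ _ _ _ ((KFlat.Sch.mono_iff_stalk _).2 fun w => (hb w).1)
      ((M1.epi_iff_stalk _).2 fun w => (hb w).2)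
  exact M1.isQCoh_of_isIso (asIso (M2.toSky z (Coh.structureModule Z))) (M1.isCoh_structureModule Z).1

end OnePoint

section Map

variable {X : Scheme.{u}} [IsNoetherian X]

theorem length_stalk_push {Z : Scheme.{u}} (i : Z ⟶ X) [IsPreimmersion i] (M : Z.Modules) (z : Z) :
    Module.length (X.presheaf.stalk (i z)) (((Coh.push i).obj M).presheaf.stalk (i z)) =
      Module.length (Z.presheaf.stalk z) (M.presheaf.stalk z) := by
  let φ : ((Coh.push i).obj M).presheaf.stalk (i z) ⟶ M.presheaf.stalk z :=
    TopCat.Presheaf.stalkPushforward AddCommGrpCat.{u} i.base M.presheaf z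
  haveI : IsIso φ := TopCat.Presheaf.stalkPushforward.stalkPushforward_iso_of_isInducing AddCommGrpCat.{u}
    (f := i.base) i.isEmbedding.isInducing M.presheaf z
  refine Cyc26.length_eq_of_semilinear (i.stalkMap z).hom (i.stalkMap_surjective z)
    (asIso φ).addCommGroupIsoToAddEquiv ?_
  intro r a
  obtain ⟨V, hV, r, rfl⟩ := X.presheaf.exists_germ_eq r
  obtain ⟨W, hW, m, rfl⟩ := ((Coh.push i).obj M).presheaf.exists_germ_eq a
  rw [← X.presheaf.germ_res_apply (homOfLE inf_le_left) (i z) (show i z ∈ V ⊓ W from ⟨hV, hW⟩) r,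
    ← M1.germ_mres ((Coh.push i).obj M) (inf_le_right : V ⊓ W ≤ W) ⟨hV, hW⟩ m, ← M1.germ_smul]
  have hgerm : ∀ t, φ (((Coh.push i).obj M).presheaf.germ (V ⊓ W) (i z) ⟨hV, hW⟩ t) =
      M.presheaf.germ (i ⁻¹ᵁ (V ⊓ W)) z ⟨hV, hW⟩ t :=
    fun t => ConcreteCategory.congr_hom
      (TopCat.Presheaf.stalkPushforward_germ AddCommGrpCat.{u} i.base M.presheaf (V ⊓ W) z ⟨hV, hW⟩) t
  show φ _ = (i.stalkMap z) _ • φ _
  rw [hgerm, hgerm, Scheme.Hom.germ_stalkMap_apply, ← M1.germ_smul]
  rfl

/-- The residue field at a point as a quasi-coherent module, receiving maps that do not vanish there. -/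
theorem exists_target (y : X) : ∃ T : X.Modules, Coh.IsQCoh T ∧
    Module.length (X.presheaf.stalk y) (T.presheaf.stalk y) = 1 ∧
    ∀ G : X.Modules, Coh.IsCoh G → ¬ Subsingleton (G.presheaf.stalk y) →
      ∃ (g : G ⟶ T) (a : G.presheaf.stalk y), Cyc26.stalkLin g y a ≠ 0 := by
  let i := X.fromSpecResidueField y
  haveI : Subsingleton (Spec (X.residueField y)) :=
    inferInstanceAs (Subsingleton (PrimeSpectrum (X.residueField y)))
  let z : Spec (X.residueField y) := default
  have hz : i z = y := Scheme.fromSpecResidueField_apply y z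
  haveI : QuasiCompact i := inferInstance
  have hf : IsField ((Spec (X.residueField y)).presheaf.stalk z) :=
    isField_stalk _ z (Scheme.ΓSpecIso (X.residueField y)).commRingCatIsoToRingEquiv
  let T₀ : Type u := ((Coh.structureModule (Spec (X.residueField y))).presheaf.stalk z : Type u)
  letI := hf.toField
  let eO : (Spec (X.residueField y)).presheaf.stalk z ≃ₗ[(Spec (X.residueField y)).presheaf.stalk z] T₀ :=
    LinearEquiv.ofBijective (LinearMap.toSpanSingleton _ _ ((Coh.structureModule (Spec (X.residueField y))).presheaf.germ ⊤ z trivial (M1.one ⊤)))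
      (Cyc26.structureModule_stalk_bijective z)
  have hlen : Module.length ((Spec (X.residueField y)).presheaf.stalk z)
      ((M2.sky z T₀).presheaf.stalk z) = 1 := by
    have hb : Function.Bijective (M2.skyEval z T₀) := by
      refine ⟨(injective_iff_map_eq_zero _).2 fun a ha => ?_, fun t => ?_⟩
      · obtain ⟨W, hw, s, rfl⟩ := (M2.sky z _).presheaf.exists_germ_eq a
        rw [M2.skyEval_germ] at ha
        rw [show s = 0 from M2.sky_ext _ _ s 0 fun h => ha.trans rfl, map_zero]
      · let s : Γ(M2.sky z T₀, ⊤) := (fun _ => t : M2.SkySec z T₀ ⊤)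
        exact ⟨(M2.sky z T₀).presheaf.germ ⊤ z trivial s, M2.skyEval_germ z T₀ (U := ⊤) trivial s⟩
    have hs : ∀ (r : (Spec (X.residueField y)).presheaf.stalk z) a,
        M2.skyEval z T₀ (r • a) = r • M2.skyEval z T₀ a := fun r a => by
      obtain ⟨V, hV, r, rfl⟩ := (Spec (X.residueField y)).presheaf.exists_germ_eq r
      obtain ⟨W, hW, s, rfl⟩ := (M2.sky z T₀).presheaf.exists_germ_eq a
      obtain rfl := opens_eq_top z hV
      obtain rfl := opens_eq_top z hW
      rw [← M1.germ_smul, M2.skyEval_germ, M2.skyEval_germ]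
      exact M2.sky_smul_apply z T₀ r s hW
    rw [((LinearEquiv.ofBijective ({ toFun := M2.skyEval z T₀, map_add' := map_add _, map_smul' := hs } :
      (M2.sky z T₀).presheaf.stalk z →ₗ[(Spec (X.residueField y)).presheaf.stalk z] T₀) hb).trans eO.symm).length_eq]
    exact Module.length_eq_one_iff.2 inferInstance
  refine ⟨(Coh.push i).obj (M2.sky z T₀), M1.isQCoh_push i (isQCoh_sky z), ?_, fun G hG hne => ?_⟩
  · have := length_stalk_push i (M2.sky z T₀) z
    rw [hlen] at this
    rw [hz] at this
    exact this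
  · rw [← hz] at hne
    haveI := M1.finite_stalk hG.1 hG.2 (i z)
    haveI : Nontrivial (M2.BC i z G) := by
      rw [← not_subsingleton_iff_nontrivial]
      intro h
      haveI : IsLocalHom (algebraMap (X.presheaf.stalk (i z)) ((Spec (X.residueField y)).presheaf.stalk z)) :=
        inferInstanceAs (IsLocalHom (i.stalkMap z).hom)
      exact hne (M2.subsingleton_of_baseChange_local (A := X.presheaf.stalk (i z))
        (B := (Spec (X.residueField y)).presheaf.stalk z) (G.presheaf.stalk (i z) : Type u))
    obtain ⟨v, hv⟩ := exists_ne (0 : M2.BC i z G)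
    obtain ⟨lam, hlam⟩ : ∃ lam : M2.BC i z G →ₗ[(Spec (X.residueField y)).presheaf.stalk z] T₀, lam ≠ 0 := by
      let b := Module.Free.chooseBasis ((Spec (X.residueField y)).presheaf.stalk z) (M2.BC i z G)
      obtain ⟨j, hj⟩ : ∃ j, b.coord j v ≠ 0 := by
        by_contra h
        push Not at h
        exact hv (b.ext_elem fun j => (h j).trans (by simp))
      exact ⟨eO.toLinearMap ∘ₗ b.coord j, fun h => hj (eO.injective
        ((LinearMap.congr_fun h v).trans (map_zero eO).symm))⟩
    let g : G ⟶ (Coh.push i).obj (M2.sky z T₀) :=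
      M2.toPushSky i z G ≫ (Scheme.Modules.pushforward i).map (M2.skyMap lam)
    by_contra h
    push Not at h
    have h' : ∀ a : G.presheaf.stalk (i z), Cyc26.stalkLin g (i z) a = 0 := by
      rw [hz]; exact h g
    refine hlam (TensorProduct.AlgebraTensorModule.ext fun c n => ?_)
    obtain ⟨U, hU, s, rfl⟩ := G.presheaf.exists_germ_eq n
    have h1 := h' (G.presheaf.germ U (i z) hU s)
    have h2 : TopCat.Presheaf.stalkPushforward AddCommGrpCat.{u} i.base (M2.sky z T₀).presheaf z
        ((((Coh.push i).obj (M2.sky z T₀)).presheaf.germ U (i z) hU) (g.app U s)) =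
        (M2.sky z T₀).presheaf.germ (i ⁻¹ᵁ U) z hU (g.app U s) :=
      ConcreteCategory.congr_hom
        (TopCat.Presheaf.stalkPushforward_germ AddCommGrpCat.{u} i.base (M2.sky z T₀).presheaf U z hU) _
    rw [← M1.germ_naturality, show Cyc26.stalkLin g (i z) (G.presheaf.germ U (i z) hU s) = _ from rfl] at *
    have h3 : M2.skyEval z T₀ ((M2.sky z T₀).presheaf.germ (i ⁻¹ᵁ U) z hU (g.app U s)) = 0 := by
      rw [← h2]
      erw [h1]
      rw [map_zero, map_zero]
    rw [M2.skyEval_germ] at h3
    rw [show c ⊗ₜ[X.presheaf.stalk (i z)] G.presheaf.germ U (i z) hU s =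
      c • ((1 : (Spec (X.residueField y)).presheaf.stalk z) ⊗ₜ[X.presheaf.stalk (i z)] G.presheaf.germ U (i z) hU s) by
        rw [TensorProduct.smul_tmul', smul_eq_mul, mul_one], map_smul, LinearMap.zero_apply]
    refine (congrArg (c • ·) ?_).trans (smul_zero c)
    exact Eq.trans (by simp [g, M2.skyMap_app]; rfl) h3

end Map

end Groth.Agent.K0Pt
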